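import Mathlib

/-!
# The Baer trick for groups of class at most 2 and odd exponent

If `R` is a group in which all commutators are central and `x ^ n = 1` for all `x`, with `n` odd
(`2 * h = n + 1`), then `x ∘ y = x * y * ⁅y, x⁆ ^ h` makes `R` into an abelian group `Baer R h`
with the same powers, and every automorphism of `R` is an automorphism of `Baer R h`.

Main results:
* `Baer` : the type synonym (structure) with its `CommGroup` instance (needs `[BaerHyp R h]`);
* `Baer.val_pow` : powers agree;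
* the `MulDistribMulAction` transported from `R`;
* `exists_fixed_ne_one_comm` : abelian lemma: a finite abelian `p`-group `V` with a group `H` acting,
  `Q, A ≤ H`, `A` a `p`-group normalizing `Q`, `Q` acting nontrivially: there is `v ≠ 1` fixed by
  `A` with `v ^ |Q| = 1` whenever `Q` fixes `v`.
* `exists_fixed_of_class_two` : the same for a subgroup `R` of class ≤ 2 and exponent `p` odd of a
  group `X`, `Q, A ≤ N_X(R)` acting by conjugation.
-/

set_option autoImplicit false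

open scoped commutatorElement

namespace Cfsg.Agent.Helper29

/-- hypotheses of the Baer trick -/
class BaerHyp (R : Type*) [Group R] (h : ℕ) : Prop where
  central : ∀ x y z : R, Commute ⁅x, y⁆ z
  exp : ∃ n : ℕ, 2 * h = n + 1 ∧ ∀ x : R, x ^ n = 1

/-- the Baer group of `R` -/
structure Baer (R : Type*) (h : ℕ) where
  /-- underlying element -/
  val : R

namespace Baer

variable {R : Type*} [Group R] {h : ℕ}

theorem ext' {x y : Baer R h} (hxy : x.val = y.val) : x = y := by
  cases x; cases y; simp_all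

section identities

variable (hc : ∀ x y z : R, Commute ⁅x, y⁆ z)
include hc

theorem comm_mul_left (x y z : R) : ⁅x * y, z⁆ = ⁅x, z⁆ * ⁅y, z⁆ := by
  rw [commutatorElement_mul_left_eq_conj_mul]
  have h1 : x * ⁅y, z⁆ * x⁻¹ = ⁅y, z⁆ := by
    rw [← (hc y z x).eq]; group
  rw [h1, (hc y z ⁅x, z⁆).eq]

theorem comm_mul_right (x y z : R) : ⁅x, y * z⁆ = ⁅x, y⁆ * ⁅x, z⁆ := by
  rw [commutatorElement_mul_right_eq_mul_conj]
  have h1 : ⁅x, y⁆ * y * ⁅x, z⁆ * y⁻¹ = ⁅x, y⁆ * (y * ⁅x, z⁆ * y⁻¹) := by group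
  rw [h1, ← (hc x z y).eq]; group

theorem comm_central_right (z k : R) (hk : ∀ w : R, Commute k w) : ⁅z, k⁆ = 1 :=
  commutatorElement_eq_one_iff_commute.mpr (hk z).symm

theorem comm_central_left (z k : R) (hk : ∀ w : R, Commute k w) : ⁅k, z⁆ = 1 :=
  commutatorElement_eq_one_iff_commute.mpr (hk z)

theorem pow_central (x y : R) (m : ℕ) (w : R) : Commute (⁅x, y⁆ ^ m) w :=
  (hc x y w).pow_left m

end identities

/-- Baer multiplication on `R` -/
def bm (h : ℕ) (x y : R) : R := x * y * ⁅y, x⁆ ^ h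

variable [hB : BaerHyp R h]

theorem bm_assoc (x y z : R) : bm h (bm h x y) z = bm h x (bm h y z) := by
  have hc := hB.central
  unfold bm
  have e1 : ⁅z, x * y * ⁅y, x⁆ ^ h⁆ = ⁅z, x⁆ * ⁅z, y⁆ := by
    rw [comm_mul_right hc, comm_mul_right hc,
      comm_central_right hc z _ (pow_central hc y x h), mul_one]
  have e2 : ⁅y * z * ⁅z, y⁆ ^ h, x⁆ = ⁅y, x⁆ * ⁅z, x⁆ := by
    rw [comm_mul_left hc, comm_mul_left hc,
      comm_central_left hc x _ (pow_central hc z y h), mul_one]
  rw [e1, e2, (hc z x ⁅z, y⁆).mul_pow, (hc y x ⁅z, x⁆).mul_pow]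
  have k1 := pow_central hc y x h
  have k2 := pow_central hc z y h
  have k3 := pow_central hc z x h
  calc x * y * ⁅y, x⁆ ^ h * z * (⁅z, x⁆ ^ h * ⁅z, y⁆ ^ h)
      = x * y * (⁅y, x⁆ ^ h * z) * (⁅z, x⁆ ^ h * ⁅z, y⁆ ^ h) := by simp only [mul_assoc]
    _ = x * y * (z * ⁅y, x⁆ ^ h) * (⁅z, x⁆ ^ h * ⁅z, y⁆ ^ h) := by rw [(k1 z).eq]
    _ = x * y * z * (⁅y, x⁆ ^ h * (⁅z, x⁆ ^ h * ⁅z, y⁆ ^ h)) := by simp only [mul_assoc]
    _ = x * y * z * (⁅z, y⁆ ^ h * (⁅y, x⁆ ^ h * ⁅z, x⁆ ^ h)) := by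
        have hk : ⁅y, x⁆ ^ h * (⁅z, x⁆ ^ h * ⁅z, y⁆ ^ h)
            = ⁅z, y⁆ ^ h * (⁅y, x⁆ ^ h * ⁅z, x⁆ ^ h) := by
          rw [← mul_assoc, ← (k2 (⁅y, x⁆ ^ h * ⁅z, x⁆ ^ h)).eq]
        rw [hk]
    _ = x * (y * z * ⁅z, y⁆ ^ h) * (⁅y, x⁆ ^ h * ⁅z, x⁆ ^ h) := by simp only [mul_assoc]

theorem bm_comm (x y : R) : bm h x y = bm h y x := by
  have hc := hB.central
  obtain ⟨n, hn, he⟩ := hB.exp
  unfold bm
  have h0 : x * y = ⁅x, y⁆ * (y * x) := by simp [commutatorElement_def, mul_assoc]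
  have h1 : ⁅y, x⁆ = ⁅x, y⁆⁻¹ := (commutatorElement_inv x y).symm
  have h2 : ⁅x, y⁆ ^ h * ⁅x, y⁆ ^ h = ⁅x, y⁆ := by
    rw [← pow_add, ← two_mul, hn, pow_succ, he, one_mul]
  rw [h0, h1, inv_pow]
  calc ⁅x, y⁆ * (y * x) * (⁅x, y⁆ ^ h)⁻¹ = (y * x) * ⁅x, y⁆ * (⁅x, y⁆ ^ h)⁻¹ := by
        rw [(hc x y (y * x)).eq]
    _ = (y * x) * (⁅x, y⁆ ^ h * ⁅x, y⁆ ^ h) * (⁅x, y⁆ ^ h)⁻¹ := by rw [h2]
    _ = y * x * ⁅x, y⁆ ^ h := by group

theorem bm_one (x : R) : bm h 1 x = x := by
  unfold bm; simp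

theorem bm_inv (x : R) : bm h x⁻¹ x = 1 := by
  unfold bm; simp [commutatorElement_def]

instance : Mul (Baer R h) := ⟨fun x y => ⟨bm h x.val y.val⟩⟩
instance : One (Baer R h) := ⟨⟨1⟩⟩
instance : Inv (Baer R h) := ⟨fun x => ⟨x.val⁻¹⟩⟩

@[simp] theorem val_mul (x y : Baer R h) : (x * y).val = x.val * y.val * ⁅y.val, x.val⁆ ^ h := rfl
@[simp] theorem val_one : (1 : Baer R h).val = 1 := rfl
@[simp] theorem val_inv (x : Baer R h) : (x⁻¹).val = x.val⁻¹ := rfl

instance instCommGroup : CommGroup (Baer R h) :=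
  { Group.ofLeftAxioms (G := Baer R h) (fun x y z => ext' (bm_assoc x.val y.val z.val))
      (fun x => ext' (bm_one x.val)) (fun x => ext' (bm_inv x.val)) with
    mul_comm := fun x y => ext' (bm_comm x.val y.val) }

theorem val_pow (x : Baer R h) (k : ℕ) : (x ^ k).val = x.val ^ k := by
  induction k with
  | zero => simp
  | succ k ih =>
    rw [pow_succ, val_mul, ih, pow_succ]
    have : ⁅x.val, x.val ^ k⁆ = 1 :=
      commutatorElement_eq_one_iff_commute.mpr (Commute.refl x.val |>.pow_right k)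
    rw [this, one_pow, mul_one]

theorem val_injective : Function.Injective (Baer.val : Baer R h → R) := fun _ _ hxy => ext' hxy

instance [Finite R] : Finite (Baer R h) := Finite.of_injective _ val_injective

/-- `Baer R h` is in bijection with `R` -/
def equiv (R : Type*) (h : ℕ) : Baer R h ≃ R := ⟨Baer.val, fun x => ⟨x⟩, fun _ => rfl, fun _ => rfl⟩

section action

variable {H : Type*} [Group H] [MulDistribMulAction H R]

instance : SMul H (Baer R h) := ⟨fun g x => ⟨g • x.val⟩⟩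

@[simp] theorem val_smul (g : H) (x : Baer R h) : (g • x).val = g • x.val := rfl

instance instMulDistribMulAction : MulDistribMulAction H (Baer R h) where
  one_smul x := ext' (by simp)
  mul_smul g g' x := ext' (by simp [mul_smul])
  smul_mul g x y := ext' (by
    simp only [val_smul, val_mul, smul_mul', smul_pow']
    congr 2
    exact map_commutatorElement (MulDistribMulAction.toMonoidHom R g) y.val x.val)
  smul_one g := ext' (by simp)

end action

end Baer

/-- Abelian lemma: a finite abelian `p`-group `V` with a group `H` acting, `Q, A ≤ H`, `A` a `p`-group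
normalizing `Q`, `Q` finite acting nontrivially: there is `v ≠ 1` fixed by `A` such that, if `Q` fixes `v`,
then `v ^ |Q| = 1`. -/
theorem exists_fixed_ne_one_comm {H V : Type*} [Group H] [CommGroup V] [Finite V]
    [MulDistribMulAction H V] (p : ℕ) [hp : Fact p.Prime] (hV : IsPGroup p V) (Q A : Subgroup H)
    [Finite Q] (hA : IsPGroup p A) (hAQ : A ≤ Subgroup.normalizer (Q : Set H))
    (hQ : ∃ q ∈ Q, ∃ v : V, q • v ≠ v) :
    ∃ v : V, v ≠ 1 ∧ (∀ a ∈ A, a • v = v) ∧ ((∀ q ∈ Q, q • v = v) → v ^ Nat.card Q = 1) := by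
  classical
  haveI : Fintype Q := Fintype.ofFinite Q
  -- the norm map
  let ν : V →* V := ∏ q : Q, MulDistribMulAction.toMonoidHom V (q : H)
  have hν : ∀ v : V, ν v = ∏ q : Q, (q : H) • v := by
    intro v
    simp [ν]
  let W : Subgroup V := ν.ker
  have hWmem : ∀ v : V, v ∈ W ↔ ∏ q : Q, (q : H) • v = 1 := by
    intro v; rw [MonoidHom.mem_ker, hν]
  -- `A` preserves `W`
  have hAW : ∀ a ∈ A, ∀ v ∈ W, a • v ∈ W := by
    intro a ha v hv
    rw [hWmem] at hv ⊢
    have hn := hAQ ha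
    -- reindex by conjugation
    let e : Q ≃ Q :=
      { toFun := fun q => ⟨a⁻¹ * q * a, by
          have := (Subgroup.mem_normalizer_iff.mp (Subgroup.inv_mem _ hn) (q : H)).mp q.2
          simpa using this⟩
        invFun := fun q => ⟨a * q * a⁻¹, (Subgroup.mem_normalizer_iff.mp hn (q : H)).mp q.2⟩
        left_inv := fun q => by ext; simp [mul_assoc]
        right_inv := fun q => by ext; simp [mul_assoc] }
    have h1 : ∀ q : Q, (q : H) • a • v = a • ((e q : Q) : H) • v := by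
      intro q
      simp only [e, Equiv.coe_fn_mk, ← mul_smul]
      congr 1; group
    calc ∏ q : Q, (q : H) • a • v = ∏ q : Q, a • ((e q : Q) : H) • v :=
          Finset.prod_congr rfl (fun q _ => h1 q)
      _ = a • ∏ q : Q, ((e q : Q) : H) • v := by
          rw [Finset.smul_prod']
      _ = a • ∏ q : Q, (q : H) • v := by
          congr 1
          exact Equiv.prod_comp e (fun q : Q => (q : H) • v)
      _ = 1 := by rw [hv, smul_one]
  -- the action of `A` on `W`
  letI : MulAction A W :=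
    { smul := fun a w => ⟨(a : H) • (w : V), hAW a a.2 w w.2⟩
      one_smul := fun w => by ext; exact one_smul H (w : V)
      mul_smul := fun a b w => by ext; exact mul_smul (a : H) (b : H) (w : V) }
  have hsm : ∀ (a : A) (w : W), ((a • w : W) : V) = (a : H) • (w : V) := fun _ _ => rfl
  -- `W` is nontrivial
  obtain ⟨q₀, hq₀, v₀, hv₀⟩ := hQ
  have hw₀ : q₀ • v₀ * v₀⁻¹ ∈ W := by
    rw [hWmem]
    have hn : ∀ v : V, ∏ q : Q, (q : H) • (q₀ • v) = ∏ q : Q, (q : H) • v := by
      intro v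
      have := Equiv.prod_comp (Equiv.mulRight (⟨q₀, hq₀⟩ : Q)) (fun q : Q => (q : H) • v)
      rw [← this]
      refine Finset.prod_congr rfl (fun q _ => ?_)
      simp [mul_smul]
    have h2 : ∀ q : Q, (q : H) • (q₀ • v₀ * v₀⁻¹) = (q : H) • (q₀ • v₀) * ((q : H) • v₀)⁻¹ := by
      intro q; rw [smul_mul', smul_inv']
    rw [Finset.prod_congr rfl (fun q _ => h2 q), Finset.prod_mul_distrib, Finset.prod_inv_distrib,
      hn v₀, mul_inv_cancel]
  have hw₀ne : q₀ • v₀ * v₀⁻¹ ≠ 1 := by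
    intro h; apply hv₀; rwa [mul_inv_eq_one] at h
  have hWne : W ≠ ⊥ := by
    intro h; rw [h, Subgroup.mem_bot] at hw₀; exact hw₀ne hw₀
  have hWp : IsPGroup p W := hV.to_subgroup W
  have hpW : p ∣ Nat.card W := by
    obtain ⟨n, hn⟩ := IsPGroup.iff_card.mp hWp
    have h1 : 1 < Nat.card W := (Subgroup.one_lt_card_iff_ne_bot W).mpr hWne
    rw [hn] at h1 ⊢
    cases n with
    | zero => simp at h1
    | succ n => exact dvd_pow_self p (Nat.succ_ne_zero n)
  have hfix1 : (1 : W) ∈ MulAction.fixedPoints A W := by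
    intro a; ext; rw [hsm]; simp
  obtain ⟨w, hwfix, hw1⟩ := hA.exists_fixed_point_of_prime_dvd_card_of_fixed_point W hpW hfix1
  refine ⟨(w : V), ?_, ?_, ?_⟩
  · intro h; apply hw1; ext; simp [h]
  · intro a ha
    have := hwfix ⟨a, ha⟩
    have h2 := congrArg (Subtype.val) this
    rwa [hsm] at h2
  · intro hq
    have hw := (hWmem (w : V)).mp w.2
    rw [Finset.prod_congr rfl (fun (q : Q) _ => hq (q : H) q.2), Finset.prod_const, Finset.card_univ,
      ← Nat.card_eq_fintype_card] at hw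
    exact hw

/-- conjugation action of `N_X(R)` on `R` -/
def conjNormalizerAction {X : Type*} [Group X] (R : Subgroup X) :
    MulDistribMulAction ↥(Subgroup.normalizer (R : Set X)) ↥R where
  smul n r := ⟨n * r * n⁻¹, (Subgroup.mem_normalizer_iff.mp n.2 r).mp r.2⟩
  one_smul r := Subtype.ext (by
    show ((1 : ↥(Subgroup.normalizer (R : Set X))) : X) * r * ((1 : ↥(Subgroup.normalizer (R : Set X))) : X)⁻¹ = r
    simp)
  mul_smul a b r := Subtype.ext (by
    show ((a * b : ↥(Subgroup.normalizer (R : Set X))) : X) * r * ((a * b : ↥(Subgroup.normalizer (R : Set X))) : X)⁻¹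
      = (a : X) * ((b : X) * r * (b : X)⁻¹) * (a : X)⁻¹
    simp [mul_assoc])
  smul_mul a r s := Subtype.ext (by
    show (a : X) * ((r * s : ↥R) : X) * (a : X)⁻¹ = ((a : X) * r * (a : X)⁻¹) * ((a : X) * s * (a : X)⁻¹)
    simp [mul_assoc])
  smul_one a := Subtype.ext (by
    show (a : X) * ((1 : ↥R) : X) * (a : X)⁻¹ = 1
    simp)

/-- **Baer trick, group form.** `R ≤ X` of class at most 2 and exponent `p` (odd), `Q, A ≤ N_X(R)`, `A` a
`p`-group normalizing `Q`, `Q` not centralizing `R`. Then there is `x ∈ R`, `x ≠ 1`, centralized by `A`, such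
that if `Q` centralizes `x` then `x ^ |Q| = 1`. -/
theorem exists_fixed_of_class_two {X : Type*} [Group X] [Finite X] (p : ℕ) [hp : Fact p.Prime]
    (hp2 : p ≠ 2) (R Q A : Subgroup X)
    (hRc : ∀ x ∈ R, ∀ y ∈ R, ∀ z ∈ R, Commute ⁅x, y⁆ z) (hRe : ∀ x ∈ R, x ^ p = 1)
    (hQR : Q ≤ Subgroup.normalizer (R : Set X)) (hAR : A ≤ Subgroup.normalizer (R : Set X))
    (hAQ : A ≤ Subgroup.normalizer (Q : Set X)) (hA : IsPGroup p A)
    (hQ : ¬ Q ≤ Subgroup.centralizer (R : Set X)) :
    ∃ x ∈ R, x ≠ 1 ∧ (∀ a ∈ A, a * x * a⁻¹ = x) ∧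
      ((∀ q ∈ Q, q * x * q⁻¹ = x) → x ^ Nat.card Q = 1) := by
  classical
  set h : ℕ := (p + 1) / 2 with hh
  have hodd : Odd p := hp.out.odd_of_ne_two hp2
  have h2h : 2 * h = p + 1 := by
    obtain ⟨k, hk⟩ := hodd
    rw [hh, hk]; omega
  haveI hB : BaerHyp ↥R h :=
    ⟨fun x y z => by
        have := hRc x x.2 y y.2 z z.2
        apply Subtype.ext
        simpa [Subgroup.coe_mul, commutatorElement_def] using this.eq,
      ⟨p, h2h, fun x => Subtype.ext (by simpa using hRe x x.2)⟩⟩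
  letI := conjNormalizerAction R
  have hsmul : ∀ (n : ↥(Subgroup.normalizer (R : Set X))) (r : ↥R),
      ((n • r : ↥R) : X) = (n : X) * r * (n : X)⁻¹ := by
    intro n r; rfl
  have hV : IsPGroup p (Baer ↥R h) := by
    intro v
    refine ⟨1, Baer.ext' ?_⟩
    rw [pow_one, Baer.val_pow]
    exact Subtype.ext (by simpa using hRe v.val v.val.2)
  have hA' : IsPGroup p (A.subgroupOf (Subgroup.normalizer (R : Set X))) := hA.comap_subtype
  have hAQ' : A.subgroupOf (Subgroup.normalizer (R : Set X)) ≤ Subgroup.normalizer ((Q.subgroupOf (Subgroup.normalizer (R : Set X)) : Subgroup ↥(Subgroup.normalizer (R : Set X))) : Set ↥(Subgroup.normalizer (R : Set X))) := by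
    intro a ha
    rw [Subgroup.mem_subgroupOf] at ha
    have := hAQ ha
    rw [Subgroup.mem_normalizer_iff] at this ⊢
    intro n
    simp only [Subgroup.mem_subgroupOf, Subgroup.coe_mul, Subgroup.coe_inv]
    exact this n
  have hQ' : ∃ q ∈ Q.subgroupOf (Subgroup.normalizer (R : Set X)), ∃ v : Baer ↥R h, q • v ≠ v := by
    by_contra hcon
    push Not at hcon
    apply hQ
    intro q hq
    rw [Subgroup.mem_centralizer_iff]
    intro r hr
    have := hcon ⟨q, hQR hq⟩ (by rw [Subgroup.mem_subgroupOf]; exact hq) ⟨⟨r, hr⟩⟩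
    have h1 := congrArg (fun v : Baer ↥R h => (v.val : X)) this
    simp only [Baer.val_smul, hsmul] at h1
    calc r * q = (q * r * q⁻¹) * q := by rw [h1]
      _ = q * r := by group
  obtain ⟨v, hv1, hvA, hvQ⟩ :=
    exists_fixed_ne_one_comm (H := ↥(Subgroup.normalizer (R : Set X))) (V := Baer ↥R h) p hV (Q.subgroupOf (Subgroup.normalizer (R : Set X))) (A.subgroupOf (Subgroup.normalizer (R : Set X))) hA' hAQ' hQ'
  refine ⟨(v.val : X), v.val.2, ?_, ?_, ?_⟩
  · intro h1
    apply hv1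
    apply Baer.ext'
    exact Subtype.ext h1
  · intro a ha
    have := hvA ⟨a, hAR ha⟩ (by rw [Subgroup.mem_subgroupOf]; exact ha)
    have h1 := congrArg (fun v : Baer ↥R h => (v.val : X)) this
    simpa only [Baer.val_smul, hsmul] using h1
  · intro hq
    have h1 : ∀ q ∈ Q.subgroupOf (Subgroup.normalizer (R : Set X)), q • v = v := by
      intro q hq'
      rw [Subgroup.mem_subgroupOf] at hq'
      apply Baer.ext'
      apply Subtype.ext
      rw [Baer.val_smul, hsmul]
      exact hq _ hq'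
    have h2 := hvQ h1
    have h3 := congrArg (fun v : Baer ↥R h => (v.val : X)) h2
    simp only [Baer.val_pow, Baer.val_one, Subgroup.coe_pow, Subgroup.coe_one] at h3
    have hcard : Nat.card (Q.subgroupOf (Subgroup.normalizer (R : Set X))) = Nat.card Q :=
      Nat.card_congr (Subgroup.subgroupOfEquivOfLe hQR).toEquiv
    rwa [hcard] at h3

end Cfsg.Agent.Helper29
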