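import Mathlib
import Cfsg.Agent.Lib.Helper29.Baer
import Cfsg.Agent.Lib.Helper24.Coprime
import Cfsg.Agent.Lib.Helper54.PConstrained

/-!
# Invariant `p'`-subgroups under an abelian `p`-subgroup containing `Ω₁` of its centralizer

* `mul_pow_class_two` : `(x*y)^n = x^n * y^n * ⁅y,x⁆^(n choose 2)` when `⁅y,x⁆` commutes with `x`, `y`.
* `minimal_structure` : a minimal `QA`-invariant `p`-subgroup `R` not centralized by the `p'`-group `Q`
  (`p` odd) has class at most 2 and exponent `p`.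
* `eq_bot_of_isCharP` : `X` of characteristic `p` (odd), `A` a `p`-subgroup containing all elements of
  order `p` of `C_X(A)`: every `A`-invariant `p'`-subgroup is trivial.
-/

set_option autoImplicit false

open scoped commutatorElement

namespace Cfsg.Agent.Helper29

section classtwo

variable {G : Type*} [Group G]

theorem pow_mul_class_two (x y : G) (hx : Commute ⁅y, x⁆ x) (hy : Commute ⁅y, x⁆ y) (n : ℕ) :
    y ^ n * x = x * y ^ n * ⁅y, x⁆ ^ n := by
  induction n with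
  | zero => simp
  | succ n ih =>
    have h0 : y * x = ⁅y, x⁆ * x * y := by simp [commutatorElement_def, mul_assoc]
    have hyn : Commute (⁅y, x⁆) (y ^ n) := hy.pow_right n
    have hcn : Commute (⁅y, x⁆) (⁅y, x⁆ ^ n) := (Commute.refl _).pow_right n
    calc y ^ (n + 1) * x = y * (y ^ n * x) := by rw [pow_succ']; simp only [mul_assoc]
      _ = y * (x * y ^ n * ⁅y, x⁆ ^ n) := by rw [ih]
      _ = (y * x) * y ^ n * ⁅y, x⁆ ^ n := by simp only [mul_assoc]
      _ = ⁅y, x⁆ * x * y * y ^ n * ⁅y, x⁆ ^ n := by rw [h0]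
      _ = x * (⁅y, x⁆ * (y * y ^ n)) * ⁅y, x⁆ ^ n := by rw [hx.eq]; simp only [mul_assoc]
      _ = x * ((y * y ^ n) * ⁅y, x⁆) * ⁅y, x⁆ ^ n := by
          rw [← pow_succ', (hy.pow_right (n + 1)).eq]
      _ = x * y ^ (n + 1) * ⁅y, x⁆ ^ (n + 1) := by
          rw [← pow_succ', pow_succ' (⁅y, x⁆) n]; simp only [mul_assoc]

theorem mul_pow_class_two (x y : G) (hx : Commute ⁅y, x⁆ x) (hy : Commute ⁅y, x⁆ y) (n : ℕ) :
    (x * y) ^ n = x ^ n * y ^ n * ⁅y, x⁆ ^ (n.choose 2) := by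
  induction n with
  | zero => simp
  | succ n ih =>
    have hcx : ∀ k : ℕ, Commute (⁅y, x⁆ ^ k) x := fun k => hx.pow_left k
    have hcy : ∀ k : ℕ, Commute (⁅y, x⁆ ^ k) y := fun k => hy.pow_left k
    have hch : (n + 1).choose 2 = n + n.choose 2 := by
      rw [Nat.choose_succ_succ' n 1, Nat.choose_one_right]
    calc (x * y) ^ (n + 1) = (x * y) ^ n * (x * y) := pow_succ _ _
      _ = x ^ n * y ^ n * ⁅y, x⁆ ^ (n.choose 2) * (x * y) := by rw [ih]
      _ = x ^ n * y ^ n * (⁅y, x⁆ ^ (n.choose 2) * x) * y := by simp only [mul_assoc]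
      _ = x ^ n * y ^ n * (x * ⁅y, x⁆ ^ (n.choose 2)) * y := by rw [(hcx _).eq]
      _ = x ^ n * (y ^ n * x) * (⁅y, x⁆ ^ (n.choose 2) * y) := by simp only [mul_assoc]
      _ = x ^ n * (x * y ^ n * ⁅y, x⁆ ^ n) * (y * ⁅y, x⁆ ^ (n.choose 2)) := by
          rw [pow_mul_class_two x y hx hy n, (hcy _).eq]
      _ = x ^ n * x * y ^ n * (⁅y, x⁆ ^ n * y) * ⁅y, x⁆ ^ (n.choose 2) := by simp only [mul_assoc]
      _ = x ^ n * x * y ^ n * (y * ⁅y, x⁆ ^ n) * ⁅y, x⁆ ^ (n.choose 2) := by rw [(hcy n).eq]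
      _ = x ^ (n + 1) * y ^ (n + 1) * ⁅y, x⁆ ^ ((n + 1).choose 2) := by
          rw [pow_succ x n, pow_succ y n, hch, pow_add]; simp only [mul_assoc]

/-- `⁅y ^ n, x⁆ = ⁅y, x⁆ ^ n` when `⁅y, x⁆` commutes with `x` and `y`. -/
theorem commutator_pow_left_class_two (x y : G) (hx : Commute ⁅y, x⁆ x) (hy : Commute ⁅y, x⁆ y) (n : ℕ) :
    ⁅y ^ n, x⁆ = ⁅y, x⁆ ^ n := by
  have h := pow_mul_class_two x y hx hy n
  have hc : Commute (⁅y, x⁆ ^ n) (x * y ^ n) := (hx.pow_left n).mul_right ((hy.pow_right n).pow_left n)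
  rw [commutatorElement_def]
  calc y ^ n * x * (y ^ n)⁻¹ * x⁻¹ = (x * y ^ n * ⁅y, x⁆ ^ n) * (y ^ n)⁻¹ * x⁻¹ := by rw [h]
    _ = (⁅y, x⁆ ^ n * (x * y ^ n)) * (y ^ n)⁻¹ * x⁻¹ := by rw [hc.eq]
    _ = ⁅y, x⁆ ^ n := by group

end classtwo

section minimal

variable {X : Type*} [Group X]

theorem normalizer_inf_le_normalizer_commutator (R Q : Subgroup X) :
    Subgroup.normalizer (R : Set X) ⊓ Subgroup.normalizer (Q : Set X)
      ≤ Subgroup.normalizer ((⁅R, Q⁆ : Subgroup X) : Set X) := by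
  intro g hg
  rw [Subgroup.mem_inf, Subgroup.mem_normalizer_iff_map_conj_eq,
    Subgroup.mem_normalizer_iff_map_conj_eq] at hg
  rw [Subgroup.mem_normalizer_iff_map_conj_eq, Subgroup.map_commutator, hg.1, hg.2]

/-- the subgroup generated by the `p`-th powers of elements of `R` -/
def powSubgroup (R : Subgroup X) (p : ℕ) : Subgroup X :=
  Subgroup.closure {z | ∃ x ∈ R, z = x ^ p}

theorem pow_mem_powSubgroup (R : Subgroup X) (p : ℕ) {x : X} (hx : x ∈ R) : x ^ p ∈ powSubgroup R p :=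
  Subgroup.subset_closure ⟨x, hx, rfl⟩

theorem powSubgroup_le (R : Subgroup X) (p : ℕ) : powSubgroup R p ≤ R := by
  unfold powSubgroup
  rw [Subgroup.closure_le]
  rintro z ⟨x, hx, rfl⟩
  exact R.pow_mem hx p

theorem normalizer_le_normalizer_powSubgroup (R : Subgroup X) (p : ℕ) :
    Subgroup.normalizer (R : Set X) ≤ Subgroup.normalizer ((powSubgroup R p : Subgroup X) : Set X) := by
  intro g hg
  have key : ∀ g : X, g ∈ Subgroup.normalizer (R : Set X) →
      ∀ z ∈ powSubgroup R p, g * z * g⁻¹ ∈ powSubgroup R p := by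
    intro g hg z hz
    have : (powSubgroup R p) ≤ (powSubgroup R p).comap (MulAut.conj g).toMonoidHom := by
      unfold powSubgroup
      rw [Subgroup.closure_le]
      rintro z ⟨x, hx, rfl⟩
      show (MulAut.conj g) (x ^ p) ∈ Subgroup.closure {z | ∃ x ∈ R, z = x ^ p}
      rw [map_pow]
      apply Subgroup.subset_closure
      exact ⟨_, (Subgroup.mem_normalizer_iff.mp hg x).mp hx, by simp [MulAut.conj_apply]⟩
    have h2 := this hz
    simpa [MulAut.conj_apply] using h2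
  rw [Subgroup.mem_normalizer_iff]
  intro z
  refine ⟨key g hg z, fun h => ?_⟩
  have := key g⁻¹ (Subgroup.inv_mem _ hg) _ h
  simpa [mul_assoc] using this

theorem powSubgroup_ne [Finite X] (R : Subgroup X) (p : ℕ) [hp : Fact p.Prime] (hR : IsPGroup p R)
    (hR1 : R ≠ ⊥) : powSubgroup R p ≠ R := by
  intro heq
  obtain ⟨n, hn⟩ := IsPGroup.iff_card.mp hR
  have hn0 : n ≠ 0 := by
    rintro rfl
    rw [pow_zero] at hn
    exact hR1 ((Subgroup.card_eq_one).mp hn)
  obtain ⟨m, rfl⟩ := Nat.exists_eq_succ_of_ne_zero hn0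
  obtain ⟨M, hM⟩ := Sylow.exists_subgroup_card_pow_prime (G := ↥R) p (n := m)
    (by rw [hn]; exact pow_dvd_pow p (Nat.le_succ m))
  have hidx : M.index = p := by
    have h1 := M.card_mul_index
    rw [hM, hn, pow_succ] at h1
    exact Nat.eq_of_mul_eq_mul_left (pow_pos hp.out.pos m) h1
  haveI : M.Normal := by
    apply Subgroup.normal_of_index_eq_minFac_card
    rw [hidx, hn, Nat.pow_minFac (Nat.succ_ne_zero m), hp.out.minFac_eq]
  have hle : powSubgroup R p ≤ M.map R.subtype := by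
    unfold powSubgroup
    rw [Subgroup.closure_le]
    rintro z ⟨x, hx, rfl⟩
    have := M.pow_index_mem ⟨x, hx⟩
    rw [hidx] at this
    exact ⟨_, this, by simp⟩
  rw [heq] at hle
  have hMtop : M = ⊤ := by
    rw [eq_top_iff]
    intro x _
    obtain ⟨y, hy, hyx⟩ := hle x.2
    have : y = x := Subtype.ext hyx
    rwa [← this]
  rw [hMtop, Subgroup.index_top] at hidx
  exact hp.out.one_lt.ne hidx

/-- structure of a minimal invariant `p`-subgroup not centralized by a `p'`-group, `p` odd -/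
theorem minimal_structure [Finite X] (p : ℕ) [hp : Fact p.Prime] (hp2 : p ≠ 2) (R Q A : Subgroup X)
    (hRp : IsPGroup p R) (hQc : (Nat.card Q).Coprime p)
    (hQR : Q ≤ Subgroup.normalizer (R : Set X)) (hAR : A ≤ Subgroup.normalizer (R : Set X))
    (hAQ : A ≤ Subgroup.normalizer (Q : Set X))
    (hQ : ¬ Q ≤ Subgroup.centralizer (R : Set X))
    (hmin : ∀ S : Subgroup X, S ≤ R → Q ≤ Subgroup.normalizer (S : Set X) →
      A ≤ Subgroup.normalizer (S : Set X) → ¬ Q ≤ Subgroup.centralizer (S : Set X) → S = R) :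
    (∀ x ∈ R, ∀ y ∈ R, ∀ z ∈ R, Commute ⁅x, y⁆ z) ∧ (∀ x ∈ R, x ^ p = 1) := by
  have hcop : (Nat.card Q).Coprime (Nat.card R) := by
    obtain ⟨n, hn⟩ := IsPGroup.iff_card.mp hRp
    rw [hn]; exact Nat.Coprime.pow_right n hQc
  have hQQ : Q ≤ Subgroup.normalizer (Q : Set X) := Subgroup.le_normalizer
  have hRR : R ≤ Subgroup.normalizer (R : Set X) := Subgroup.le_normalizer
  have hR1 : R ≠ ⊥ := by
    rintro rfl
    apply hQ
    intro q _
    rw [Subgroup.mem_centralizer_iff]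
    intro r hr
    rw [SetLike.mem_coe, Subgroup.mem_bot] at hr
    rw [hr]; simp
  -- (a) `⁅R, Q⁆ = R`
  have hRQ : ⁅R, Q⁆ = R := by
    apply hmin
    · exact Cfsg.Agent.Helper24.commutator_le_of_le_normalizer R Q hQR
    · exact le_trans (le_inf hQR hQQ) (normalizer_inf_le_normalizer_commutator R Q)
    · exact le_trans (le_inf hAR hAQ) (normalizer_inf_le_normalizer_commutator R Q)
    · intro hcen
      apply hQ
      apply Cfsg.Agent.Helper24.le_centralizer_of_coprime R Q hQR hcop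
      rw [Subgroup.commutator_comm, Subgroup.commutator_eq_bot_iff_le_centralizer]
      exact hcen
  -- (b) proper invariant subgroups normalized by `R` are central in `R` and centralized by `Q`
  have hprop : ∀ S : Subgroup X, S ≤ R → S ≠ R → Subgroup.normalizer (R : Set X) ≤
      Subgroup.normalizer (S : Set X) → Q ≤ Subgroup.centralizer (S : Set X) ∧
        R ≤ Subgroup.centralizer (S : Set X) := by
    intro S hSR hSne hN
    have hQS : Q ≤ Subgroup.centralizer (S : Set X) := by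
      by_contra hcon
      exact hSne (hmin S hSR (hQR.trans hN) (hAR.trans hN) hcon)
    refine ⟨hQS, ?_⟩
    have h1 : ⁅Q, S⁆ = ⊥ := Subgroup.commutator_eq_bot_iff_le_centralizer.mpr hQS
    have h1' : ⁅S, Q⁆ = ⊥ := by rw [Subgroup.commutator_comm]; exact h1
    have h2 : ⁅⁅Q, S⁆, R⁆ = ⊥ := by rw [h1, Subgroup.commutator_bot_left]
    have h3 : ⁅⁅S, R⁆, Q⁆ = ⊥ := by
      rw [eq_bot_iff, ← h1']
      exact Subgroup.commutator_mono
        (Cfsg.Agent.Helper24.commutator_le_of_le_normalizer S R (hRR.trans hN)) le_rfl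
    have h4 := Subgroup.commutator_commutator_eq_bot_of_rotate h2 h3
    rw [hRQ] at h4
    exact Subgroup.commutator_eq_bot_iff_le_centralizer.mp h4
  -- (c) commutators
  have hRR' : ⁅R, R⁆ ≤ R := Cfsg.Agent.Helper24.commutator_le_of_le_normalizer R R hRR
  have hRR'ne : ⁅R, R⁆ ≠ R := by
    intro heq
    haveI : Nontrivial ↥R := (Subgroup.nontrivial_iff_ne_bot R).mpr hR1
    haveI : Group.IsNilpotent ↥R := hRp.isNilpotent
    have hlt := IsSolvable.commutator_lt_top_of_nontrivial (G := ↥R)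
    apply hlt.ne
    have hmap : (commutator ↥R).map R.subtype = R := by
      rw [commutator_def, Subgroup.map_commutator, ← MonoidHom.range_eq_map, Subgroup.range_subtype]
      exact heq
    apply Subgroup.map_injective R.subtype_injective
    rw [hmap, ← MonoidHom.range_eq_map, Subgroup.range_subtype]
  have hc1 := hprop ⁅R, R⁆ hRR' hRR'ne
    (le_trans (le_inf le_rfl le_rfl) (normalizer_inf_le_normalizer_commutator R R))
  have hcentral : ∀ x ∈ R, ∀ y ∈ R, ∀ z ∈ R, Commute ⁅x, y⁆ z := by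
    intro x hx y hy z hz
    have hz' := hc1.2 hz
    rw [Subgroup.mem_centralizer_iff] at hz'
    exact hz' _ (Subgroup.commutator_mem_commutator hx hy)
  refine ⟨hcentral, ?_⟩
  -- (d) `p`-th powers
  have hd1 := hprop (powSubgroup R p) (powSubgroup_le R p) (powSubgroup_ne R p hRp hR1)
    (normalizer_le_normalizer_powSubgroup R p)
  have hpowc : ∀ x ∈ R, ∀ z ∈ R, Commute (x ^ p) z := by
    intro x hx z hz
    have hz' := hd1.2 hz
    rw [Subgroup.mem_centralizer_iff] at hz'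
    exact hz' _ (pow_mem_powSubgroup R p hx)
  have hpowq : ∀ x ∈ R, ∀ q ∈ Q, Commute (x ^ p) q := by
    intro x hx q hq
    have hq' := hd1.1 hq
    rw [Subgroup.mem_centralizer_iff] at hq'
    exact hq' _ (pow_mem_powSubgroup R p hx)
  -- the `p`-th power map is multiplicative on `R`
  have hpdvd : p ∣ p.choose 2 := by
    apply hp.out.dvd_choose_self (by norm_num)
    have := hp.out.two_le
    omega
  have hmul : ∀ x ∈ R, ∀ y ∈ R, (x * y) ^ p = x ^ p * y ^ p := by
    intro x hx y hy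
    have hcx : Commute ⁅y, x⁆ x := hcentral y hy x hx x hx
    have hcy : Commute ⁅y, x⁆ y := hcentral y hy x hx y hy
    have h1 := mul_pow_class_two x y hcx hcy p
    have h2 : ⁅y, x⁆ ^ p = 1 := by
      rw [← commutator_pow_left_class_two x y hcx hcy p]
      exact commutatorElement_eq_one_iff_commute.mpr (hpowc y hy x hx)
    obtain ⟨k, hk⟩ := hpdvd
    rw [h1, hk, pow_mul, h2, one_pow, mul_one]
  -- (e) the subgroup of elements with trivial `p`-th power
  let K : Subgroup X :=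
    { carrier := {x | x ∈ R ∧ x ^ p = 1}
      mul_mem' := by
        rintro x y ⟨hx, hx1⟩ ⟨hy, hy1⟩
        exact ⟨R.mul_mem hx hy, by rw [hmul x hx y hy, hx1, hy1, one_mul]⟩
      one_mem' := ⟨R.one_mem, one_pow p⟩
      inv_mem' := by
        rintro x ⟨hx, hx1⟩
        exact ⟨R.inv_mem hx, by rw [inv_pow, hx1, inv_one]⟩ }
  have hK : ⁅R, Q⁆ ≤ K := by
    rw [Subgroup.commutator_le]
    intro r hr q hq
    have hs : q * r⁻¹ * q⁻¹ ∈ R := (Subgroup.mem_normalizer_iff.mp (hQR hq) r⁻¹).mp (R.inv_mem hr)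
    have he : ⁅r, q⁆ = r * (q * r⁻¹ * q⁻¹) := by rw [commutatorElement_def]; group
    refine ⟨by rw [he]; exact R.mul_mem hr hs, ?_⟩
    rw [he, hmul r hr _ hs]
    have h1 : (q * r⁻¹ * q⁻¹) ^ p = q * (r ^ p)⁻¹ * q⁻¹ := by
      rw [conj_pow, inv_pow]
    have h2 := (hpowq r hr q hq).eq
    rw [h1]
    calc r ^ p * (q * (r ^ p)⁻¹ * q⁻¹) = (r ^ p * q) * (r ^ p)⁻¹ * q⁻¹ := by group
      _ = (q * r ^ p) * (r ^ p)⁻¹ * q⁻¹ := by rw [h2]
      _ = 1 := by group
  intro x hx
  have : x ∈ K := hK (by rw [hRQ]; exact hx)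
  exact this.2

end minimal

section charp

open Cfsg

variable {X : Type*} [Group X] [Finite X]

/-- `X` of characteristic `p` (`p` odd), `A` a `p`-subgroup containing every element of order `p` of `C_X(A)`.
Then every `p'`-subgroup normalized by `A` is trivial. -/
theorem eq_bot_of_isCharP (p : ℕ) [hp : Fact p.Prime] (hp2 : p ≠ 2)
    (hX : Cfsg.Agent.Helper54.IsCharP p X) (A : Subgroup X) (hAp : IsPGroup p A)
    (hΩ : ∀ x ∈ Subgroup.centralizer (A : Set X), orderOf x = p → x ∈ A)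
    (Q : Subgroup X) (hQ : (Nat.card Q).Coprime p) (hAQ : A ≤ Subgroup.normalizer (Q : Set X)) :
    Q = ⊥ := by
  by_contra hQne
  have hPn : (pCore p X).Normal := Cfsg.Agent.Helper54.pCore_normal' p
  have hPp : IsPGroup p (pCore p X) := Cfsg.Agent.Helper54.isPGroup_pCore
  have hinf : Q ⊓ pCore p X = ⊥ :=
    Cfsg.Agent.Helper54.inf_eq_bot_of_isPGroup_of_coprime Q (pCore p X) hQ hPp
  have hQP : ¬ Q ≤ Subgroup.centralizer ((pCore p X : Subgroup X) : Set X) := by
    intro h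
    apply hQne
    rw [eq_bot_iff, ← hinf]
    exact le_inf le_rfl (h.trans hX)
  have hNtop : Subgroup.normalizer ((pCore p X : Subgroup X) : Set X) = ⊤ :=
    Subgroup.normalizer_eq_top_iff.mpr hPn
  -- minimal member of the family
  obtain ⟨R, ⟨hRP, hQR, hAR, hQRc⟩, hRmin⟩ := exists_minimal_of_wellFoundedLT
    (fun R : Subgroup X => R ≤ pCore p X ∧ Q ≤ Subgroup.normalizer (R : Set X) ∧
      A ≤ Subgroup.normalizer (R : Set X) ∧ ¬ Q ≤ Subgroup.centralizer (R : Set X))
    ⟨pCore p X, le_rfl, by rw [hNtop]; exact le_top, by rw [hNtop]; exact le_top, hQP⟩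
  have hRp : IsPGroup p R := hPp.to_le hRP
  have hmin : ∀ S : Subgroup X, S ≤ R → Q ≤ Subgroup.normalizer (S : Set X) →
      A ≤ Subgroup.normalizer (S : Set X) → ¬ Q ≤ Subgroup.centralizer (S : Set X) → S = R := by
    intro S hSR h1 h2 h3
    exact le_antisymm hSR (hRmin ⟨hSR.trans hRP, h1, h2, h3⟩ hSR)
  obtain ⟨hc, he⟩ := minimal_structure p hp2 R Q A hRp hQ hQR hAR hAQ hQRc hmin
  obtain ⟨x, hxR, hx1, hxA, hxQ⟩ := exists_fixed_of_class_two p hp2 R Q A hc he hQR hAR hAQ hAp hQRc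
  have hxord : orderOf x = p := orderOf_eq_prime (he x hxR) hx1
  have hxcen : x ∈ Subgroup.centralizer (A : Set X) := by
    rw [Subgroup.mem_centralizer_iff]
    intro a ha
    have := hxA a ha
    calc a * x = (a * x * a⁻¹) * a := by group
      _ = x * a := by rw [this]
  have hxAmem : x ∈ A := hΩ x hxcen hxord
  have hxP : x ∈ pCore p X := hRP hxR
  have hQx : ∀ q ∈ Q, q * x * q⁻¹ = x := by
    intro q hq
    have h1 : q * x * q⁻¹ * x⁻¹ ∈ Q ⊓ pCore p X := by
      refine ⟨?_, ?_⟩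
      · have h2 : x * q⁻¹ * x⁻¹ ∈ Q :=
          (Subgroup.mem_normalizer_iff.mp (hAQ hxAmem) q⁻¹).mp (Q.inv_mem hq)
        have h3 : q * x * q⁻¹ * x⁻¹ = q * (x * q⁻¹ * x⁻¹) := by group
        rw [h3]; exact Q.mul_mem hq h2
      · exact (pCore p X).mul_mem (hPn.conj_mem x hxP q) ((pCore p X).inv_mem hxP)
    rw [hinf, Subgroup.mem_bot] at h1
    calc q * x * q⁻¹ = (q * x * q⁻¹ * x⁻¹) * x := by group
      _ = x := by rw [h1, one_mul]
  have hpow := hxQ hQx
  have hdvd : orderOf x ∣ Nat.card Q := orderOf_dvd_of_pow_eq_one hpow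
  rw [hxord] at hdvd
  have : p ∣ Nat.gcd (Nat.card Q) p := Nat.dvd_gcd hdvd dvd_rfl
  rw [hQ] at this
  exact hp.out.one_lt.ne' (Nat.dvd_one.mp this)

end charp

end Cfsg.Agent.Helper29
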