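import Mathlib
import Cfsg.Prelude.Def_Balance
import Cfsg.Agent.Lib.Helper54.PConstrained

set_option autoImplicit false

namespace Cfsg.Agent.Helper29

open Cfsg Cfsg.Agent.Helper54

variable {G : Type*} [Group G]

/-- **Theorem B** (balance in `p`-constrained groups): let `G` be a finite `p`-constrained group,
`T` a `p`-subgroup and `Y` a `p'`-subgroup of `C_G(T)` normalized by `C_G(T)`. Then
`Y ≤ O_{p'}(G)`. -/
theorem le_pPrimeCore_of_isPConstrained [Finite G] {p : ℕ} [hp : Fact p.Prime]
    (hG : IsPConstrained p G) (T : Subgroup G) (hT : IsPGroup p T) (Y : Subgroup G)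
    (hYT : Y ≤ Subgroup.centralizer (T : Set G)) (hY : (Nat.card Y).Coprime p)
    (hN : Subgroup.centralizer (T : Set G) ≤ Subgroup.normalizer (Y : Set G)) :
    Y ≤ pPrimeCore p G := by
  rw [isPConstrained_iff_isCharP_quotient] at hG
  set K := pPrimeCore p G with hKdef
  have hKn : K.Normal := pPrimeCore_normal' p
  have hKc : (Nat.card K).Coprime p := pPrimeCore_coprime p
  have hfin : Finite (G ⧸ K) := inferInstance
  have hord : ∀ w ∈ Y, (orderOf ((QuotientGroup.mk' K) w)).Coprime p := by
    intro w hw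
    have h1 : orderOf ((QuotientGroup.mk' K) w) ∣ orderOf w := orderOf_map_dvd _ w
    have h2 : orderOf w ∣ Nat.card Y := Subgroup.orderOf_dvd_natCard Y hw
    exact Nat.Coprime.coprime_dvd_left (h1.trans h2) hY
  intro y hy
  have hyT := hYT hy
  have key : (QuotientGroup.mk' K) y = 1 := by
    apply eq_one_of_centralizes_of_isCharP hG (T.map (QuotientGroup.mk' K)) (hT.map _)
      ((QuotientGroup.mk' K) y)
    · rw [Subgroup.mem_centralizer_iff]
      rintro _ ⟨t, ht, rfl⟩
      rw [← map_mul, ← map_mul, Subgroup.mem_centralizer_iff.mp hyT t ht]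
    · rintro ū ⟨hū1, hū2⟩
      obtain ⟨c, rfl⟩ := QuotientGroup.mk'_surjective K ū
      have hc : ∀ t ∈ T, c * t * c⁻¹ * t⁻¹ ∈ K := by
        intro t ht
        have h1 := Subgroup.mem_centralizer_iff.mp hū2 ((QuotientGroup.mk' K) t)
          (Subgroup.mem_map_of_mem _ ht)
        rw [← QuotientGroup.ker_mk' K, MonoidHom.mem_ker]
        simp only [map_mul, map_inv]
        rw [← h1]
        group
      obtain ⟨k, hk, hck⟩ := exists_mul_mem_centralizer K hKc T hT c hc
      have hπ : (QuotientGroup.mk' K) (c * k) = (QuotientGroup.mk' K) c := by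
        rw [map_mul]
        have : (QuotientGroup.mk' K) k = 1 := by
          rw [← MonoidHom.mem_ker, QuotientGroup.ker_mk']; exact hk
        rw [this, mul_one]
      set u := c * k with hu
      -- the commutator `u y u⁻¹ y⁻¹` lies in `Y`
      have hw : u * y * u⁻¹ * y⁻¹ ∈ Y := by
        apply Y.mul_mem _ (Y.inv_mem hy)
        exact (Subgroup.mem_normalizer_iff.mp (hN hck) y).mp hy
      have hw1 : (QuotientGroup.mk' K) (u * y * u⁻¹ * y⁻¹) ∈ pCore p (G ⧸ K) := by
        have hn : (pCore p (G ⧸ K)).Normal := pCore_normal' p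
        simp only [map_mul, map_inv, hπ]
        have h2 := hn.conj_mem _ (Subgroup.inv_mem _ hū1) ((QuotientGroup.mk' K) y)
        have h3 := Subgroup.mul_mem _ hū1 h2
        convert h3 using 1
        group
      have hw2 := eq_one_of_mem_pgroup_of_coprime _ (isPGroup_pCore (p := p) (G := G ⧸ K)) _ hw1
        (hord _ hw)
      simp only [map_mul, map_inv, hπ] at hw2
      calc (QuotientGroup.mk' K) c * (QuotientGroup.mk' K) y
          = ((QuotientGroup.mk' K) c * (QuotientGroup.mk' K) y * ((QuotientGroup.mk' K) c)⁻¹ *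
              ((QuotientGroup.mk' K) y)⁻¹) * ((QuotientGroup.mk' K) y * (QuotientGroup.mk' K) c) := by
            group
        _ = (QuotientGroup.mk' K) y * (QuotientGroup.mk' K) c := by rw [hw2, one_mul]
    · exact hord y hy
  rw [← QuotientGroup.ker_mk' K, MonoidHom.mem_ker]
  exact key

/-- A finite solvable group is `p`-constrained. -/
theorem isPConstrained_of_isSolvable [Finite G] [Group.IsSolvable G] (p : ℕ) [hp : Fact p.Prime] :
    IsPConstrained p G := by
  rw [isPConstrained_iff_isCharP_quotient]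
  have hKn : (pPrimeCore p G).Normal := pPrimeCore_normal' p
  exact centralizer_pCore_le p (pPrimeCore_quotient_eq_bot p)

/-! ### The subgroups `O_{p'}(C_G(g))` -/

theorem centralizerPPrimeCore_le (p : ℕ) (g : G) :
    centralizerPPrimeCore p g ≤ Subgroup.centralizer ({g} : Set G) :=
  Subgroup.map_subtype_le _

theorem card_centralizerPPrimeCore_coprime [Finite G] (p : ℕ) (g : G) :
    (Nat.card (centralizerPPrimeCore p g)).Coprime p := by
  unfold centralizerPPrimeCore
  rw [Subgroup.card_map_of_injective (Subgroup.subtype_injective _)]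
  exact pPrimeCore_coprime p

theorem conj_mem_centralizerPPrimeCore (p : ℕ) {g c x : G}
    (hc : c ∈ Subgroup.centralizer ({g} : Set G)) (hx : x ∈ centralizerPPrimeCore p g) :
    c * x * c⁻¹ ∈ centralizerPPrimeCore p g := by
  obtain ⟨x', hx', rfl⟩ := hx
  have hn : (pPrimeCore p ↥(Subgroup.centralizer ({g} : Set G))).Normal := pPrimeCore_normal' p
  exact ⟨⟨c, hc⟩ * x' * ⟨c, hc⟩⁻¹, hn.conj_mem x' hx' ⟨c, hc⟩, rfl⟩

theorem isSolvable_centralizerPPrimeCore (p : ℕ) (g : G)
    [hs : Group.IsSolvable ↥(Subgroup.centralizer ({g} : Set G))] :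
    Group.IsSolvable ↥(centralizerPPrimeCore p g) := by
  unfold centralizerPPrimeCore
  let f : ↥(pPrimeCore p ↥(Subgroup.centralizer ({g} : Set G))) →*
      ↥((pPrimeCore p ↥(Subgroup.centralizer ({g} : Set G))).map
        (Subgroup.centralizer ({g} : Set G)).subtype) :=
    ((Subgroup.centralizer ({g} : Set G)).subtype.comp
      (pPrimeCore p ↥(Subgroup.centralizer ({g} : Set G))).subtype).codRestrict _
        (fun x => ⟨x.1, x.2, rfl⟩)
  have hf : Function.Surjective f := by
    rintro ⟨_, x, hx, rfl⟩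
    exact ⟨⟨x, hx⟩, rfl⟩
  exact Group.isSolvable_of_surjective hf

/-- **Balance for solvable centralizers**: if `a, b` commute, `a ^ p = 1` and `C_G(b)` is solvable,
then `O_{p'}(C_G(a)) ∩ C_G(b) ≤ O_{p'}(C_G(b))`. More generally `C_G(b)` `p`-constrained suffices. -/
theorem centralizerPPrimeCore_inf_le [Finite G] {p : ℕ} [hp : Fact p.Prime] {a b : G}
    (hab : a * b = b * a) (ha : a ^ p = 1)
    (hb : IsPConstrained p ↥(Subgroup.centralizer ({b} : Set G))) :
    centralizerPPrimeCore p a ⊓ Subgroup.centralizer ({b} : Set G) ≤ centralizerPPrimeCore p b := by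
  have haCb : a ∈ Subgroup.centralizer ({b} : Set G) := by
    rw [Subgroup.mem_centralizer_singleton_iff]; exact hab
  set Cb := Subgroup.centralizer ({b} : Set G) with hCb
  let a' : ↥Cb := ⟨a, haCb⟩
  have ha' : a' ^ p = 1 := Subtype.ext (by simpa using ha)
  have hT : IsPGroup p (Subgroup.zpowers a') := by
    rintro ⟨t, ht⟩
    obtain ⟨k, rfl⟩ := Subgroup.mem_zpowers_iff.mp ht
    refine ⟨1, Subtype.ext ?_⟩
    change (a' ^ k) ^ p ^ 1 = 1
    rw [pow_one, ← zpow_natCast, ← zpow_mul, mul_comm, zpow_mul, zpow_natCast, ha', one_zpow]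
  have key := le_pPrimeCore_of_isPConstrained hb (Subgroup.zpowers a') hT
    ((centralizerPPrimeCore p a ⊓ Cb).subgroupOf Cb) ?_ ?_ ?_
  · intro x hx
    have := key (show (⟨x, hx.2⟩ : ↥Cb) ∈ (centralizerPPrimeCore p a ⊓ Cb).subgroupOf Cb from
      Subgroup.mem_subgroupOf.mpr hx)
    exact ⟨⟨x, hx.2⟩, this, rfl⟩
  · -- `Y' ≤ C(T')`
    intro y hy
    rw [Subgroup.mem_subgroupOf] at hy
    have h1 : (y : G) ∈ Subgroup.centralizer ({a} : Set G) := centralizerPPrimeCore_le p a hy.1
    rw [Subgroup.mem_centralizer_singleton_iff] at h1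
    rw [Subgroup.mem_centralizer_iff]
    rintro t ht
    obtain ⟨k, rfl⟩ := Subgroup.mem_zpowers_iff.mp ht
    have h2 : Commute a' y := Subtype.ext h1.symm
    exact (h2.zpow_left k).eq
  · -- coprime
    have h1 : Nat.card ((centralizerPPrimeCore p a ⊓ Cb).subgroupOf Cb) =
        Nat.card (centralizerPPrimeCore p a ⊓ Cb : Subgroup G) :=
      Nat.card_congr (Subgroup.subgroupOfEquivOfLe inf_le_right).toEquiv
    rw [h1]
    exact Nat.Coprime.coprime_dvd_left (Subgroup.card_dvd_of_le inf_le_left)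
      (card_centralizerPPrimeCore_coprime p a)
  · -- normalized by `C(T')`
    intro g hg
    apply Subgroup.mem_normalizer_fintype
    intro y hy
    rw [SetLike.mem_coe, Subgroup.mem_subgroupOf] at hy ⊢
    have h1 := Subgroup.mem_centralizer_iff.mp hg a' (Subgroup.mem_zpowers a')
    have h2 : (g : G) ∈ Subgroup.centralizer ({a} : Set G) := by
      rw [Subgroup.mem_centralizer_singleton_iff]
      exact (congrArg Subtype.val h1).symm
    refine ⟨?_, ?_⟩
    · have := conj_mem_centralizerPPrimeCore p h2 hy.1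
      simpa using this
    · exact (g * y * g⁻¹).2

/-- In a `p`-constrained group, `O_{p'}(C_G(T)) ≤ O_{p'}(G)` for every `p`-subgroup `T`. -/
theorem pPrimeCore_centralizer_le [Finite G] {p : ℕ} [hp : Fact p.Prime]
    (hG : IsPConstrained p G) (T : Subgroup G) (hT : IsPGroup p T) :
    (pPrimeCore p ↥(Subgroup.centralizer (T : Set G))).map
      (Subgroup.centralizer (T : Set G)).subtype ≤ pPrimeCore p G := by
  apply le_pPrimeCore_of_isPConstrained hG T hT
  · exact Subgroup.map_subtype_le _
  · rw [Subgroup.card_map_of_injective (Subgroup.subtype_injective _)]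
    exact pPrimeCore_coprime p
  · intro c hc
    apply Subgroup.mem_normalizer_fintype
    rintro _ ⟨x', hx', rfl⟩
    have hn : (pPrimeCore p ↥(Subgroup.centralizer (T : Set G))).Normal := pPrimeCore_normal' p
    exact ⟨⟨c, hc⟩ * x' * ⟨c, hc⟩⁻¹, hn.conj_mem x' hx' ⟨c, hc⟩, rfl⟩

/-- In a `p`-constrained group, `O_{p'}(N_G(T)) ≤ O_{p'}(G)` for every `p`-subgroup `T`. -/
theorem pPrimeCore_normalizer_le [Finite G] {p : ℕ} [hp : Fact p.Prime]
    (hG : IsPConstrained p G) (T : Subgroup G) (hT : IsPGroup p T) :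
    (pPrimeCore p ↥(Subgroup.normalizer (T : Set G))).map
      (Subgroup.normalizer (T : Set G)).subtype ≤ pPrimeCore p G := by
  have hn : (pPrimeCore p ↥(Subgroup.normalizer (T : Set G))).Normal := pPrimeCore_normal' p
  have hcard : (Nat.card ((pPrimeCore p ↥(Subgroup.normalizer (T : Set G))).map
      (Subgroup.normalizer (T : Set G)).subtype : Subgroup G)).Coprime p := by
    rw [Subgroup.card_map_of_injective (Subgroup.subtype_injective _)]
    exact pPrimeCore_coprime p
  have hconj : ∀ c ∈ Subgroup.normalizer (T : Set G),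
      ∀ x ∈ (pPrimeCore p ↥(Subgroup.normalizer (T : Set G))).map
        (Subgroup.normalizer (T : Set G)).subtype,
      c * x * c⁻¹ ∈ (pPrimeCore p ↥(Subgroup.normalizer (T : Set G))).map
        (Subgroup.normalizer (T : Set G)).subtype := by
    rintro c hc _ ⟨x', hx', rfl⟩
    exact ⟨⟨c, hc⟩ * x' * ⟨c, hc⟩⁻¹, hn.conj_mem x' hx' ⟨c, hc⟩, rfl⟩
  apply le_pPrimeCore_of_isPConstrained hG T hT _ _ hcard
  · intro c hc
    apply Subgroup.mem_normalizer_fintype
    intro x hx
    exact hconj c (Subgroup.centralizer_le_normalizer _ hc) x hx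
  · -- `Y ≤ C(T)` since `[Y, T] ≤ Y ∩ T = 1`
    intro y hy
    have hyN : y ∈ Subgroup.normalizer (T : Set G) := Subgroup.map_subtype_le _ hy
    have hinf := inf_eq_bot_of_isPGroup_of_coprime _ T hcard hT
    rw [Subgroup.mem_centralizer_iff]
    intro t ht
    have h1 : y * t * y⁻¹ * t⁻¹ ∈ (pPrimeCore p ↥(Subgroup.normalizer (T : Set G))).map
        (Subgroup.normalizer (T : Set G)).subtype ⊓ T := by
      refine ⟨?_, ?_⟩
      · have h2 := hconj t (Subgroup.le_normalizer ht) y⁻¹ (Subgroup.inv_mem _ hy)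
        have h3 := Subgroup.mul_mem _ hy h2
        have e : y * t * y⁻¹ * t⁻¹ = y * (t * y⁻¹ * t⁻¹) := by group
        rw [e]
        exact h3
      · exact T.mul_mem ((Subgroup.mem_normalizer_iff.mp hyN t).mp ht) (T.inv_mem ht)
    rw [hinf, Subgroup.mem_bot] at h1
    calc t * y = (y * t * y⁻¹ * t⁻¹)⁻¹ * (y * t) := by group
      _ = y * t := by rw [h1, inv_one, one_mul]

/-- A finite `p`-constrained group is balanced for `p`. -/
theorem isBalancedFor_of_isPConstrained [Finite G] {p : ℕ} [hp : Fact p.Prime]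
    (hG : IsPConstrained p G) : IsBalancedFor p G := by
  intro x hx
  have hxp : x ^ p = 1 := by rw [← hx]; exact pow_orderOf_eq_one x
  have hT : IsPGroup p (Subgroup.zpowers x) := by
    rintro ⟨t, ht⟩
    obtain ⟨k, rfl⟩ := Subgroup.mem_zpowers_iff.mp ht
    refine ⟨1, Subtype.ext ?_⟩
    change (x ^ k) ^ p ^ 1 = 1
    rw [pow_one, ← zpow_natCast, ← zpow_mul, mul_comm, zpow_mul, zpow_natCast, hxp, one_zpow]
  have hcz : ∀ c : G, c ∈ Subgroup.centralizer ((Subgroup.zpowers x : Subgroup G) : Set G) ↔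
      c ∈ Subgroup.centralizer ({x} : Set G) := by
    intro c
    rw [Subgroup.mem_centralizer_singleton_iff, Subgroup.mem_centralizer_iff]
    constructor
    · intro h; exact (h x (Subgroup.mem_zpowers x)).symm
    · intro h t ht
      obtain ⟨k, rfl⟩ := Subgroup.mem_zpowers_iff.mp ht
      have h2 : Commute x c := h.symm
      exact (h2.zpow_left k).eq
  apply le_pPrimeCore_of_isPConstrained hG (Subgroup.zpowers x) hT
  · intro y hy
    exact (hcz y).mpr (centralizerPPrimeCore_le p x hy)
  · exact card_centralizerPPrimeCore_coprime p x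
  · intro c hc
    apply Subgroup.mem_normalizer_fintype
    intro y hy
    exact conj_mem_centralizerPPrimeCore p ((hcz c).mp hc) hy

end Cfsg.Agent.Helper29
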