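import Mathlib
import Cfsg.Prelude.Def_OddOrderLocal

/-!
# Small general lemmas for the B-G section 12 rows (helper29)
-/

set_option autoImplicit false

namespace Cfsg.Agent.Helper29.BG12

open Cfsg Subgroup

variable {G : Type*} [Group G]

/-- a `p`-subgroup of a minimal simple group of odd order is proper. -/
theorem ne_top_of_isPGroup [Finite G] (hG : IsMinSimpleOddOrder G) {p : ℕ} [Fact p.Prime]
    {T : Subgroup G} (hT : IsPGroup p T) : T ≠ ⊤ := by
  intro h
  have hsolv : Group.IsSolvable ↥T := by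
    haveI : Group.IsNilpotent ↥T := hT.isNilpotent
    infer_instance
  rw [h] at hsolv
  have hGs : Group.IsSolvable G :=
    Group.isSolvable_of_surjective (f := (Subgroup.topEquiv : ↥(⊤ : Subgroup G) ≃* G).toMonoidHom)
      (Subgroup.topEquiv : ↥(⊤ : Subgroup G) ≃* G).surjective
  haveI := hG.2.1
  have hc : IsMulCommutative G := by
    have h1 := IsSimpleGroup.comm_iff_isSolvable (G := G)
    refine ⟨⟨fun a b => ?_⟩⟩
    exact h1.mpr hGs a b
  exact hG.2.2.1 hc

theorem exists_coatom_ge [Finite G] {H : Subgroup G} (h : H ≠ ⊤) :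
    ∃ M : Subgroup G, IsCoatom M ∧ H ≤ M := by
  rcases eq_top_or_exists_le_coatom H with h1 | ⟨M, hM, hHM⟩
  · exact absurd h1 h
  · exact ⟨M, hM, hHM⟩

/-- a normal subgroup of index prime to `p` contains every `p`-subgroup. -/
theorem pgroup_le_of_normal_of_not_dvd_index {L : Type*} [Group L] [Finite L] {p : ℕ}
    [hp : Fact p.Prime] (N : Subgroup L) [N.Normal] (hN : ¬ p ∣ N.index) (Q : Subgroup L)
    (hQ : IsPGroup p Q) : Q ≤ N := by
  have h1 : IsPGroup p (Q.map (QuotientGroup.mk' N)) := hQ.map _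
  obtain ⟨k, hk⟩ := IsPGroup.iff_card.mp h1
  have h2 : Nat.card (Q.map (QuotientGroup.mk' N)) ∣ Nat.card (L ⧸ N) := Subgroup.card_subgroup_dvd_card _
  have h3 : Nat.card (L ⧸ N) = N.index := (Subgroup.index_eq_card N).symm
  have hk0 : k = 0 := by
    by_contra hk0
    apply hN
    rw [← h3]
    refine dvd_trans ?_ h2
    rw [hk]
    exact dvd_pow_self p hk0
  rw [hk0, pow_zero] at hk
  have h4 : Q.map (QuotientGroup.mk' N) = ⊥ := Subgroup.card_eq_one.mp hk
  intro x hx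
  have h5 : (QuotientGroup.mk' N) x ∈ Q.map (QuotientGroup.mk' N) := Subgroup.mem_map_of_mem _ hx
  rw [h4, Subgroup.mem_bot] at h5
  exact (QuotientGroup.eq_one_iff x).mp h5

theorem card_subgroupOf_of_le {H K : Subgroup G} (h : H ≤ K) :
    Nat.card (H.subgroupOf K) = Nat.card H :=
  Nat.card_congr (Subgroup.subgroupOfEquivOfLe h).toEquiv

/-- a nontrivial `p`-group contains a subgroup of order `p`. -/
theorem exists_card_eq_prime_le [Finite G] {p : ℕ} [hp : Fact p.Prime] {H : Subgroup G}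
    (hH : IsPGroup p H) (hne : H ≠ ⊥) : ∃ X : Subgroup G, X ≤ H ∧ Nat.card X = p := by
  obtain ⟨k, hk⟩ := IsPGroup.iff_card.mp hH
  have hk0 : k ≠ 0 := by
    rintro rfl
    rw [pow_zero] at hk
    exact hne (Subgroup.card_eq_one.mp hk)
  have hdvd : p ∣ Nat.card H := by rw [hk]; exact dvd_pow_self p hk0
  obtain ⟨x, hx⟩ := exists_prime_orderOf_dvd_card' p hdvd
  refine ⟨Subgroup.zpowers (x : G), ?_, ?_⟩
  · rw [Subgroup.zpowers_le]; exact x.2
  · rw [Nat.card_zpowers, Subgroup.orderOf_coe, hx]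

/-- a non-commutative subgroup has nontrivial commutator subgroup. -/
theorem commutator_ne_bot_of_not_comm {P : Subgroup G} (h : ¬ IsMulCommutative P) :
    ⁅P, P⁆ ≠ ⊥ := by
  intro h0
  apply h
  rw [Subgroup.commutator_eq_bot_iff_le_centralizer] at h0
  refine ⟨⟨fun a b => ?_⟩⟩
  have := h0 a.2 b b.2
  exact Subtype.ext this.symm

theorem comm_of_le {H K : Subgroup G} (h : H ≤ K) (hK : IsMulCommutative K) :
    IsMulCommutative H := by
  refine ⟨⟨fun a b => ?_⟩⟩
  have h1 : (⟨a.1, h a.2⟩ : K) * ⟨b.1, h b.2⟩ = ⟨b.1, h b.2⟩ * ⟨a.1, h a.2⟩ :=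
    hK.is_comm.comm ⟨a.1, h a.2⟩ ⟨b.1, h b.2⟩
  have h2 : (a : G) * b = b * a := congrArg (fun z : K => (z : G)) h1
  exact Subtype.ext h2

theorem comm_of_subgroupOf {H K : Subgroup G} (h : H ≤ K) (hK : IsMulCommutative (H.subgroupOf K)) :
    IsMulCommutative H := by
  refine ⟨⟨fun a b => ?_⟩⟩
  have ha : (⟨a.1, h a.2⟩ : K) ∈ H.subgroupOf K := by simp [Subgroup.mem_subgroupOf]
  have hb : (⟨b.1, h b.2⟩ : K) ∈ H.subgroupOf K := by simp [Subgroup.mem_subgroupOf]
  have h1 : (⟨⟨a.1, h a.2⟩, ha⟩ : H.subgroupOf K) * ⟨⟨b.1, h b.2⟩, hb⟩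
      = ⟨⟨b.1, h b.2⟩, hb⟩ * ⟨⟨a.1, h a.2⟩, ha⟩ := hK.is_comm.comm _ _
  have h2 : (a : G) * b = b * a := congrArg (fun z : H.subgroupOf K => ((z : K) : G)) h1
  exact Subtype.ext h2

/-- `p` divides the order of a non-commutative `p`-subgroup -/
theorem prime_dvd_card_of_not_comm [Finite G] {p : ℕ} [hp : Fact p.Prime] {P : Subgroup G}
    (hP : IsPGroup p P) (hna : ¬ IsMulCommutative P) : p ∣ Nat.card P := by
  obtain ⟨k, hk⟩ := IsPGroup.iff_card.mp hP
  have hk0 : k ≠ 0 := by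
    rintro rfl
    rw [pow_zero] at hk
    apply hna
    have hb : P = ⊥ := Subgroup.card_eq_one.mp hk
    refine ⟨⟨fun a b => ?_⟩⟩
    have hall : ∀ c : G, c ∈ P → c = 1 := fun c hc => by
      rw [hb, Subgroup.mem_bot] at hc; exact hc
    have ha : (a : G) = 1 := hall _ a.2
    have hb' : (b : G) = 1 := hall _ b.2
    exact Subtype.ext (by simp [ha, hb'])
  rw [hk]; exact dvd_pow_self p hk0

end Cfsg.Agent.Helper29.BG12
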