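import Cfsg.Prelude.Def_Local

set_option autoImplicit false

namespace Cfsg.Agent.Helper29

/-- normalizers grow in finite `p`-groups (subgroup form inside an ambient group) -/
theorem exists_mem_normalizer_not_mem_of_lt {G : Type*} [Group G] [Finite G] {p : ℕ}
    [Fact p.Prime] {P S : Subgroup G} (hS : IsPGroup p S) (hlt : P < S) :
    ∃ g ∈ S, g ∉ P ∧ g ∈ Subgroup.normalizer (P : Set G) := by
  have hnil : Group.IsNilpotent ↥S := hS.isNilpotent
  have hnc : NormalizerCondition ↥S := Group.normalizerCondition_of_isNilpotent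
  have hlt' : P.subgroupOf S < ⊤ := by
    rw [lt_top_iff_ne_top]
    intro h
    rw [Subgroup.subgroupOf_eq_top] at h
    exact absurd (le_antisymm hlt.le h) hlt.ne
  obtain ⟨_, hnot⟩ := hnc _ hlt'
  obtain ⟨g, hgN, hgP⟩ := Set.not_subset.mp hnot
  refine ⟨g, g.2, fun h => hgP (Subgroup.mem_subgroupOf.mpr h), ?_⟩
  rw [Subgroup.mem_normalizer_iff]
  have hN := Subgroup.mem_normalizer_iff.mp hgN
  intro h
  constructor
  · intro hh
    have hhS : h ∈ S := hlt.le hh
    have := (hN ⟨h, hhS⟩).mp (Subgroup.mem_subgroupOf.mpr hh)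
    exact Subgroup.mem_subgroupOf.mp this
  · intro hh
    have hghS : (g : G) * h * (g : G)⁻¹ ∈ S := hlt.le hh
    have hhS : h ∈ S := by
      have : h = (g : G)⁻¹ * ((g : G) * h * (g : G)⁻¹) * (g : G) := by group
      rw [this]
      exact S.mul_mem (S.mul_mem (S.inv_mem g.2) hghS) g.2
    have := (hN ⟨h, hhS⟩).mpr (Subgroup.mem_subgroupOf.mpr hh)
    exact Subgroup.mem_subgroupOf.mp this

theorem pRankLE_of_mulEquiv {A B : Type*} [Group A] [Group B] (e : A ≃* B) {p k : ℕ}
    (h : Cfsg.PRankLE p k A) : Cfsg.PRankLE p k B := by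
  intro E hE hexp
  have hcomm : IsMulCommutative ↥(E.comap (e : A →* B)) := by
    refine ⟨⟨fun x y => ?_⟩⟩
    apply Subtype.ext
    apply e.injective
    have hx : e x ∈ E := x.2
    have hy : e y ∈ E := y.2
    have h1 := mul_comm' (⟨e x, hx⟩ : ↥E) ⟨e y, hy⟩
    have h2 := congrArg Subtype.val h1
    simpa using h2
  have hexp' : ∀ a ∈ E.comap (e : A →* B), a ^ p = 1 := by
    intro a ha
    apply e.injective
    rw [map_pow, map_one]
    exact hexp _ ha
  have := h _ hcomm hexp'
  have hcard : Nat.card ↥(E.comap (e : A →* B)) = Nat.card ↥E := by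
    apply Nat.card_congr
    exact
      { toFun := fun x => ⟨e x, x.2⟩
        invFun := fun y => ⟨e.symm y, by
          change e (e.symm y) ∈ E
          rw [e.apply_symm_apply]; exact y.2⟩
        left_inv := fun x => by simp
        right_inv := fun y => by simp }
  rw [← hcard]
  exact this

end Cfsg.Agent.Helper29
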