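import Mathlib
import Cfsg.Agent.Lib.Helper48.CoprimeGen

set_option autoImplicit false

namespace Cfsg.Agent.Helper29

open Subgroup MulAction
open scoped commutatorElement

variable {G : Type*} [Group G]

/-- The subgroup of `M` generated by the centralizers in `M` of the elements of the set `S`. -/
def genS (S : Set G) (M : Subgroup G) : Subgroup G :=
  ⨆ c : S, M ⊓ centralizer ({c.1} : Set G)

theorem genS_le (S : Set G) (M : Subgroup G) : genS S M ≤ M := iSup_le (fun _ => inf_le_left)

theorem genS_mono (S : Set G) {M₁ M₂ : Subgroup G} (h : M₁ ≤ M₂) : genS S M₁ ≤ genS S M₂ :=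
  iSup_mono (fun _ => inf_le_inf_right _ h)

theorem inf_centralizer_le_genS {S : Set G} (M : Subgroup G) {c : G} (hc : c ∈ S) :
    M ⊓ centralizer ({c} : Set G) ≤ genS S M :=
  le_iSup (fun c : S => M ⊓ centralizer ({c.1} : Set G)) ⟨c, hc⟩

theorem mem_normalizer_genS {A M : Subgroup G} {S : Set G} (hSA : S ⊆ A)
    (hA : ∀ x ∈ A, ∀ y ∈ A, x * y = y * x) {x : G}
    (hxA : x ∈ A) (hxM : x ∈ normalizer (M : Set G)) :
    x ∈ normalizer ((genS S M : Subgroup G) : Set G) := by
  unfold genS
  apply Cfsg.Agent.Helper48.mem_normalizer_iSup'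
  rintro ⟨c, hcS⟩
  exact Cfsg.Agent.Helper48.mem_normalizer_inf' hxM
    (Cfsg.Agent.Helper48.mem_normalizer_centralizer_singleton (hA x hxA c (hSA hcS)))

open Cfsg.Agent.Helper48 in
/-- Sharper generation by centralizers (adapted from `Cfsg.Agent.Helper48.le_genC_aux`):
only the centralizers of the elements `a * b ^ j` and `b ^ i` (`0 < i < p`) are needed. -/
theorem le_genS_aux [Finite G] {p : ℕ} [hp : Fact p.Prime] (A : Subgroup G)
    (hAc : ∀ x ∈ A, ∀ y ∈ A, x * y = y * x) (hAp : ∀ x ∈ A, x ^ p = 1)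
    (S : Set G) (hSA : S ⊆ A)
    {a b : G} (haA : a ∈ A) (hbA : b ∈ A)
    (hS1 : ∀ j : ℕ, a * b ^ j ∈ S) (hS2 : ∀ i : ℕ, 0 < i → i < p → b ^ i ∈ S) :
    ∀ (n : ℕ) (M : Subgroup G), Nat.card M = n → A ≤ normalizer (M : Set G) →
      (Nat.card M).Coprime p → M ≤ genS S M := by
  intro n
  induction n using Nat.strong_induction_on with
  | _ n ih =>
  intro M hn hAM hM
  by_contra hcon
  set D := genS S M with hD
  have hDM : D ≤ M := genS_le S M
  have hDne : D ≠ M := fun h => hcon (le_of_eq h.symm)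
  have hApg : IsPGroup p A := by
    intro x
    refine ⟨1, ?_⟩
    apply Subtype.ext
    simpa using hAp x.1 x.2
  have IH' : ∀ R : Subgroup G, R ≤ M → R ≠ M → A ≤ normalizer (R : Set G) → R ≤ D := by
    intro R hRM hRne hAR
    have hlt : Nat.card R < n := hn ▸ card_lt_of_le_of_ne hRM hRne
    have hcop : (Nat.card R).Coprime p :=
      Nat.Coprime.coprime_dvd_left (Subgroup.card_dvd_of_le hRM) hM
    exact le_trans (ih _ hlt R rfl hAR hcop) (genS_mono S hRM)
  -- Step 1: M is a q-group
  have hq : ∃ q : ℕ, q.Prime ∧ IsPGroup q M := by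
    by_contra hno
    push Not at hno
    apply hcon
    have htop : D.subgroupOf M = ⊤ := by
      rw [← Subgroup.index_eq_one]
      by_contra hidx
      obtain ⟨q, hqp, hqdvd⟩ := Nat.exists_prime_and_dvd hidx
      haveI := Fact.mk hqp
      obtain ⟨T, hT⟩ := exists_sylow_normalized_by q A M hApg hAM hM
      have hT'M : (T : Subgroup M).map M.subtype ≤ M := map_subtype_le _
      have hT'ne : (T : Subgroup M).map M.subtype ≠ M := by
        intro h
        apply hno q hqp
        have h1 : IsPGroup q ((T : Subgroup M).map M.subtype) := T.2.map _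
        exact h1.to_le (le_of_eq h.symm)
      have hT'D := IH' _ hT'M hT'ne (fun x hx => hT x hx)
      have hTle : (T : Subgroup M) ≤ D.subgroupOf M := by
        intro s hs
        rw [mem_subgroupOf]
        exact hT'D ⟨s, hs, rfl⟩
      have h2 := Subgroup.index_dvd_of_le hTle
      exact T.not_dvd_index (hqdvd.trans h2)
    rw [subgroupOf_eq_top] at htop
    exact htop
  obtain ⟨q, hqp, hMq⟩ := hq
  haveI := Fact.mk hqp
  -- Step 2: D is normal in M and contains the commutator subgroup
  have hAD : ∀ x ∈ A, x ∈ normalizer (D : Set G) :=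
    fun x hx => mem_normalizer_genS hSA hAc hx (hAM hx)
  have hMD : M ≤ normalizer (D : Set G) := by
    by_contra hnot
    obtain ⟨u, huM, huD, huN⟩ := exists_mem_normalizer_not_mem hMq hDM hDne
    have hR := IH' (M ⊓ normalizer (D : Set G)) inf_le_left
      (fun h => hnot (inf_eq_left.mp h))
      (fun x hx => mem_normalizer_inf' (hAM hx) (mem_normalizer_normalizer (hAD x hx)))
    exact huD (hR ⟨huM, huN⟩)
  have hMne : M ≠ ⊥ := by
    intro h
    apply hcon
    rw [h]
    exact bot_le
  have hcomm : ⁅M, M⁆ ≤ D := by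
    apply IH' _ (Subgroup.commutator_le_self M)
    · intro h
      have : Group.IsNilpotent M := hMq.isNilpotent
      have : Nontrivial M := (Subgroup.nontrivial_iff_ne_bot M).mpr hMne
      have hlt := Group.IsSolvable.commutator_lt_top_of_nontrivial M
      rw [← Subgroup.map_subtype_commutator] at h
      have h3 : (_root_.commutator M).map M.subtype = (⊤ : Subgroup M).map M.subtype := by
        rw [h, ← MonoidHom.range_eq_map, M.range_subtype]
      have h4 := Subgroup.map_injective M.subtype_injective h3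
      exact hlt.ne h4
    · exact fun x hx => mem_normalizer_commutator (hAM hx)
  -- Step 3: pass to the quotient of `X = N_G(D)` by `D`
  have hDcop : (Nat.card D).Coprime p :=
    Nat.Coprime.coprime_dvd_left (Subgroup.card_dvd_of_le hDM) hM
  set X := normalizer (D : Set G) with hX
  have hAX : A ≤ X := fun x hx => hAD x hx
  haveI hDn : (D.subgroupOf X).Normal := normal_in_normalizer
  let π : X →* X ⧸ D.subgroupOf X := QuotientGroup.mk' (D.subgroupOf X)
  set V : Subgroup (X ⧸ D.subgroupOf X) := (M.subgroupOf X).map π with hV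
  have hVcomm : ∀ v w : V, v * w = w * v := by
    rintro ⟨v, m₁, hm₁, rfl⟩ ⟨w, m₂, hm₂, rfl⟩
    apply Subtype.ext
    change π m₁ * π m₂ = π m₂ * π m₁
    rw [← map_mul, ← map_mul]
    apply (QuotientGroup.eq).mpr
    rw [mem_subgroupOf]
    apply hcomm
    have e : (((m₁ * m₂)⁻¹ * (m₂ * m₁) : X) : G) = ⁅(m₂ : G)⁻¹, (m₁ : G)⁻¹⁆ := by
      rw [commutatorElement_def]
      simp only [Subgroup.coe_mul, Subgroup.coe_inv]
      group
    rw [e]
    exact commutator_mem_commutator (M.inv_mem (mem_subgroupOf.mp hm₂))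
      (M.inv_mem (mem_subgroupOf.mp hm₁))
  letI : CommGroup V := { (inferInstance : Group V) with mul_comm := hVcomm }
  have hVcop : (Nat.card V).Coprime p := by
    have h1 : Nat.card V ∣ Nat.card (M.subgroupOf X) := Subgroup.card_map_dvd _ π
    have h2 : Nat.card (M.subgroupOf X) = Nat.card M :=
      Nat.card_congr (Subgroup.subgroupOfEquivOfLe hMD).toEquiv
    rw [h2] at h1
    exact Nat.Coprime.coprime_dvd_left h1 hM
  -- the action of `A` on `V`
  have hγmem : ∀ x : A, (π.comp (Subgroup.inclusion hAX)) x ∈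
      normalizer ((V : Subgroup (X ⧸ D.subgroupOf X)) : Set (X ⧸ D.subgroupOf X)) := by
    intro x
    apply mem_normalizer_fintype
    rintro _ ⟨m, hm, rfl⟩
    refine ⟨Subgroup.inclusion hAX x * m * (Subgroup.inclusion hAX x)⁻¹, ?_, ?_⟩
    · rw [SetLike.mem_coe, mem_subgroupOf] at hm ⊢
      have := (mem_normalizer_iff.mp (hAM x.2) (m : G)).mp hm
      simpa using this
    · simp
  let γ : A →* normalizer ((V : Subgroup (X ⧸ D.subgroupOf X)) : Set (X ⧸ D.subgroupOf X)) :=
    (π.comp (Subgroup.inclusion hAX)).codRestrict _ hγmem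
  -- fixed points lift
  have hlift : ∀ c : A, (c : G) ∈ S → ∀ v : V, γ c • v = v → v = 1 := by
    rintro c hcS ⟨v, m, hm, rfl⟩ hfix
    have hfix' : π (Subgroup.inclusion hAX c) * π m * (π (Subgroup.inclusion hAX c))⁻¹ = π m :=
      congrArg Subtype.val hfix
    rw [← map_inv, ← map_mul, ← map_mul] at hfix'
    have h1 := (QuotientGroup.eq).mp hfix'.symm
    rw [mem_subgroupOf] at h1
    have h2 : (m : G)⁻¹ * ((c : G) * (m : G) * (c : G)⁻¹) ∈ D := by simpa using h1
    have hcp : (c : G) ^ p ^ 1 = 1 := by rw [pow_one]; exact hAp c.1 c.2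
    obtain ⟨d, hdD, hd⟩ := exists_mul_mem_fixed D hDcop (c : G) (m : G) 1 hcp (hAD c.1 c.2) h2
    have hmM : (m : G) ∈ M := mem_subgroupOf.mp hm
    have h3 : (m : G) * d ∈ M ⊓ centralizer ({(c : G)} : Set G) := by
      refine Subgroup.mem_inf.mpr ⟨M.mul_mem hmM (hDM hdD), ?_⟩
      rw [mem_centralizer_singleton_iff]
      calc (m : G) * d * (c : G) = ((c : G) * ((m : G) * d) * (c : G)⁻¹) * (c : G) := by rw [hd]
        _ = (c : G) * ((m : G) * d) := by group
    have h4 : (m : G) * d ∈ D := inf_centralizer_le_genS M hcS h3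
    have h5 : (m : G) ∈ D := by
      have := D.mul_mem h4 (D.inv_mem hdD)
      simpa using this
    apply Subtype.ext
    change π m = 1
    exact (QuotientGroup.eq_one_iff m).mpr (mem_subgroupOf.mpr h5)
  -- apply the fixed-point-free lemma
  let a' : A := ⟨a, haA⟩
  let b' : A := ⟨b, hbA⟩
  have hab' : Commute a' b' := Subtype.ext (hAc a haA b hbA)
  have hApow : ∀ x : A, x ^ p = 1 := fun x => Subtype.ext (by simpa using hAp x.1 x.2)
  have hall : ∀ v : V, v = 1 := by
    intro v
    refine eq_one_of_fixedPointFree hVcop (γ a') (γ b') (hab'.map γ) ?_ ?_ ?_ ?_ v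
    · intro w
      rw [← map_pow, hApow, map_one, one_smul]
    · intro w
      rw [← map_pow, hApow, map_one, one_smul]
    · intro j w hw
      rw [← map_pow, ← map_mul] at hw
      refine hlift _ ?_ w hw
      simpa [a', b'] using hS1 j
    · intro i hi hip w hw
      rw [← map_pow] at hw
      refine hlift _ ?_ w hw
      simpa [b'] using hS2 i hi hip
  apply hcon
  intro m hm
  have h1 := hall ⟨π ⟨m, hMD hm⟩, ⟨⟨m, hMD hm⟩, mem_subgroupOf.mpr hm, rfl⟩⟩
  have h2 : π ⟨m, hMD hm⟩ = 1 := congrArg Subtype.val h1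
  have h3 := (QuotientGroup.eq_one_iff _).mp h2
  exact mem_subgroupOf.mp h3

/-- **Sharp generation by centralizers**: if the elementary abelian `p`-subgroup `A` normalizes
the `p'`-subgroup `M`, and `a, b ∈ A`, then `M` is generated by the subgroups `C_M(c)` for `c`
ranging over any subset `S` of `A` containing all `a * b ^ j` and all `b ^ i`, `0 < i < p`. -/
theorem le_genS [Finite G] {p : ℕ} [Fact p.Prime] (A M : Subgroup G)
    (hAc : ∀ x ∈ A, ∀ y ∈ A, x * y = y * x) (hAp : ∀ x ∈ A, x ^ p = 1)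
    (S : Set G) (hSA : S ⊆ A)
    {a b : G} (haA : a ∈ A) (hbA : b ∈ A)
    (hS1 : ∀ j : ℕ, a * b ^ j ∈ S) (hS2 : ∀ i : ℕ, 0 < i → i < p → b ^ i ∈ S)
    (hAM : A ≤ normalizer (M : Set G)) (hM : (Nat.card M).Coprime p) : M ≤ genS S M :=
  le_genS_aux A hAc hAp S hSA haA hbA hS1 hS2 _ M rfl hAM hM

end Cfsg.Agent.Helper29
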