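import Mathlib
import Cfsg.Agent.Lib.Helper29.CoprimeGen

set_option autoImplicit false

namespace Cfsg.Agent.Helper29

open Subgroup MulAction

variable {G : Type*} [Group G]

/-! ### Hyperplane form -/

theorem exists_covBy_le [Finite G] {D A : Subgroup G} (h : D < A) : ∃ B, D ≤ B ∧ B ⋖ A :=
  exists_le_covBy_of_lt h

theorem centralizer_inf_singleton_le_sup (D : Subgroup G) (c : G) :
    centralizer (D : Set G) ⊓ centralizer ({c} : Set G) ≤
      centralizer ((D ⊔ zpowers c : Subgroup G) : Set G) := by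
  intro x hx
  rw [Subgroup.mem_inf] at hx
  have h : D ⊔ zpowers c ≤ centralizer ({x} : Set G) := by
    apply sup_le
    · intro d hd
      rw [mem_centralizer_singleton_iff]
      exact (mem_centralizer_iff.mp hx.1 d hd)
    · rw [zpowers_le, mem_centralizer_singleton_iff]
      exact (mem_centralizer_singleton_iff.mp hx.2).symm
  rw [mem_centralizer_iff]
  intro y hy
  exact (mem_centralizer_singleton_iff.mp (h hy))

theorem pow_mem_of_coprime_aux {p : ℕ} [hp : Fact p.Prime] {b : G} (hb : b ^ p = 1) (D : Subgroup G)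
    {i : ℕ} (hi : 0 < i) (hip : i < p) (h : b ^ i ∈ D) : b ∈ D := by
  by_cases hb1 : b = 1
  · rw [hb1]; exact D.one_mem
  have hord : orderOf b = p := orderOf_eq_prime hb hb1
  have hcop : i.Coprime (orderOf b) := by
    rw [hord]
    exact (Nat.coprime_of_lt_prime hi.ne' hip hp.out).symm
  obtain ⟨m, hm⟩ := exists_pow_eq_self_of_coprime hcop
  rw [← hm]
  exact D.pow_mem h m

theorem inf_centralizer_le_iSup_covBy_aux [Finite G] {p : ℕ} [hp : Fact p.Prime] (A X : Subgroup G)
    (hAc : ∀ x ∈ A, ∀ y ∈ A, x * y = y * x) (hAp : ∀ x ∈ A, x ^ p = 1) (hA1 : A ≠ ⊥)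
    (hAX : A ≤ normalizer (X : Set G)) (hX : (Nat.card X).Coprime p) :
    ∀ (n : ℕ) (D : Subgroup G), D ≤ A → Nat.card A - Nat.card D = n →
      X ⊓ centralizer (D : Set G) ≤
        ⨆ B : {B : Subgroup G // B ⋖ A}, X ⊓ centralizer ((B : Subgroup G) : Set G) := by
  intro n
  induction n using Nat.strong_induction_on with
  | _ n ih =>
  intro D hDA hn
  have hcov : ∀ B : Subgroup G, B ⋖ A → X ⊓ centralizer (B : Set G) ≤
      ⨆ B : {B : Subgroup G // B ⋖ A}, X ⊓ centralizer ((B : Subgroup G) : Set G) := fun B hB =>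
    le_iSup (fun B : {B : Subgroup G // B ⋖ A} => X ⊓ centralizer ((B : Subgroup G) : Set G))
      ⟨B, hB⟩
  by_cases hDeq : D = A
  · obtain ⟨B, -, hB⟩ := exists_covBy_le (bot_lt_iff_ne_bot.mpr hA1)
    refine le_trans ?_ (hcov B hB)
    rw [hDeq]
    exact inf_le_inf_left _ (centralizer_le hB.le)
  have hDlt : D < A := lt_of_le_of_ne hDA hDeq
  by_cases hDcov : D ⋖ A
  · exact hcov D hDcov
  obtain ⟨E, hDE, hEA⟩ := (not_covBy_iff hDlt).mp hDcov
  obtain ⟨b, hbE, hbD⟩ := SetLike.exists_of_lt hDE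
  obtain ⟨a, haA, haE⟩ := SetLike.exists_of_lt hEA
  have hbA : b ∈ A := hEA.le hbE
  have hS1 : ∀ j : ℕ, a * b ^ j ∈ {c | c ∈ A ∧ c ∉ D} := by
    intro j
    refine ⟨A.mul_mem haA (A.pow_mem hbA j), fun h => haE ?_⟩
    have : a = (a * b ^ j) * (b ^ j)⁻¹ := by group
    rw [this]
    exact E.mul_mem (hDE.le h) (E.inv_mem (E.pow_mem hbE j))
  have hS2 : ∀ i : ℕ, 0 < i → i < p → b ^ i ∈ {c | c ∈ A ∧ c ∉ D} := by
    intro i hi hip
    exact ⟨A.pow_mem hbA i, fun h => hbD (pow_mem_of_coprime_aux (hAp b hbA) D hi hip h)⟩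
  have hAM : A ≤ normalizer ((X ⊓ centralizer (D : Set G) : Subgroup G) : Set G) := by
    intro x hx
    apply Cfsg.Agent.Helper48.mem_normalizer_inf' (hAX hx)
    apply le_normalizer
    rw [mem_centralizer_iff]
    intro d hd
    exact hAc d (hDA hd) x hx
  have hMcop : (Nat.card (X ⊓ centralizer (D : Set G) : Subgroup G)).Coprime p :=
    Nat.Coprime.coprime_dvd_left (Subgroup.card_dvd_of_le inf_le_left) hX
  have hgen := le_genS A (X ⊓ centralizer (D : Set G)) hAc hAp {c | c ∈ A ∧ c ∉ D}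
    (fun c hc => hc.1) haA hbA hS1 hS2 hAM hMcop
  refine le_trans hgen ?_
  unfold genS
  apply iSup_le
  rintro ⟨c, hcA, hcD⟩
  have hD'A : D ⊔ zpowers c ≤ A := sup_le hDA (by rw [zpowers_le]; exact hcA)
  have hDD' : D ≠ D ⊔ zpowers c := by
    intro h
    apply hcD
    rw [h]
    exact mem_sup_right (mem_zpowers c)
  have hlt : Nat.card A - Nat.card (D ⊔ zpowers c : Subgroup G) < n := by
    have h1 : Nat.card D < Nat.card (D ⊔ zpowers c : Subgroup G) :=
      Cfsg.Agent.Helper48.card_lt_of_le_of_ne le_sup_left hDD'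
    have h2 : Nat.card (D ⊔ zpowers c : Subgroup G) ≤ Nat.card A := Subgroup.card_le_of_le hD'A
    omega
  have := ih _ hlt (D ⊔ zpowers c) hD'A rfl
  refine le_trans ?_ this
  rw [inf_assoc]
  exact inf_le_inf_left _ (centralizer_inf_singleton_le_sup D c)

/-- **Hyperplane form of coprime generation** (maximal-subgroup version): if the nontrivial
elementary abelian `p`-subgroup `A` normalizes the `p'`-subgroup `X`, then `X` is generated by the
subgroups `C_X(B)`, `B` a maximal subgroup of `A`. -/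
theorem le_iSup_covBy [Finite G] {p : ℕ} [Fact p.Prime] (A X : Subgroup G)
    (hAc : ∀ x ∈ A, ∀ y ∈ A, x * y = y * x) (hAp : ∀ x ∈ A, x ^ p = 1) (hA1 : A ≠ ⊥)
    (hAX : A ≤ normalizer (X : Set G)) (hX : (Nat.card X).Coprime p) :
    X ≤ ⨆ B : {B : Subgroup G // B ⋖ A}, X ⊓ centralizer ((B : Subgroup G) : Set G) := by
  have h := inf_centralizer_le_iSup_covBy_aux A X hAc hAp hA1 hAX hX _ ⊥ bot_le rfl
  refine le_trans ?_ h
  apply le_inf le_rfl
  intro x _
  rw [mem_centralizer_iff]
  intro d hd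
  rw [coe_bot, Set.mem_singleton_iff] at hd
  rw [hd, one_mul, mul_one]

/-- A maximal subgroup of an elementary abelian `p`-group has index `p`. -/
theorem relIndex_eq_of_covBy [Finite G] {p : ℕ} [hp : Fact p.Prime] (A B : Subgroup G)
    (hAc : ∀ x ∈ A, ∀ y ∈ A, x * y = y * x) (hAp : ∀ x ∈ A, x ^ p = 1) (hB : B ⋖ A) :
    B.relIndex A = p := by
  obtain ⟨c, hcA, hcB⟩ := SetLike.exists_of_lt hB.lt
  have hzA : zpowers c ≤ A := by rw [zpowers_le]; exact hcA
  have hE : zpowers c ⊔ B = A := by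
    rcases hB.eq_or_eq (le_sup_right : B ≤ zpowers c ⊔ B) (sup_le hzA hB.le) with h | h
    · exfalso
      apply hcB
      rw [← h]
      exact mem_sup_left (mem_zpowers c)
    · exact h
  have hLE : zpowers c ≤ normalizer (B : Set G) := by
    rw [zpowers_le]
    apply centralizer_le_normalizer
    rw [mem_centralizer_iff]
    intro d hd
    exact hAc d (hB.le hd) c hcA
  have hcoe := coe_mul_of_left_le_normalizer_right (zpowers c) B hLE
  have hcard : Nat.card A ≤ p * Nat.card B := by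
    have h1 : Nat.card A = Nat.card ((zpowers c ⊔ B : Subgroup G) : Set G) := by rw [hE]; rfl
    rw [h1, hcoe]
    refine le_trans Set.natCard_mul_le ?_
    apply Nat.mul_le_mul_right
    change Nat.card (zpowers c) ≤ p
    rw [Nat.card_zpowers]
    exact orderOf_le_of_pow_eq_one hp.out.pos (hAp c hcA)
  have hmul : Nat.card B * B.relIndex A = Nat.card A := by
    have := relIndex_mul_relIndex (⊥ : Subgroup G) B A bot_le hB.le
    rwa [relIndex_bot_left, relIndex_bot_left] at this
  have hBpos : 0 < Nat.card B := Nat.card_pos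
  have hle : B.relIndex A ≤ p := by
    rw [← hmul, mul_comm] at hcard
    exact Nat.le_of_mul_le_mul_right hcard hBpos
  have hne1 : B.relIndex A ≠ 1 := by
    intro h
    rw [relIndex_eq_one] at h
    exact hB.lt.not_ge h
  have hApg : IsPGroup p A := by
    intro x
    refine ⟨1, ?_⟩
    apply Subtype.ext
    simpa using hAp x.1 x.2
  obtain ⟨k, hk⟩ := hApg.exists_card_eq
  have hdvd : B.relIndex A ∣ p ^ k := hk ▸ relIndex_dvd_card B A
  obtain ⟨j, -, hj⟩ := (Nat.dvd_prime_pow hp.out).mp hdvd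
  rcases j with _ | j
  · rw [pow_zero] at hj; exact absurd hj hne1
  · rcases j with _ | j
    · simpa using hj
    · exfalso
      have h2 : p ^ 2 ≤ p ^ (j + 1 + 1) := Nat.pow_le_pow_right hp.out.pos (by omega)
      have h3 : p < p ^ 2 := by
        have := hp.out.one_lt
        nlinarith
      omega

end Cfsg.Agent.Helper29
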