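import Mathlib
import Cfsg.Agent.Lib.Helper29.CoprimeHyp
import Cfsg.Agent.Lib.Helper52.Coprime

set_option autoImplicit false

/-!
# Delta systems (coprime action): joins of compatible families of fixed-point subgroups

An elementary abelian `p`-group `A` of rank at least `k + 2` normalizes a solvable `p'`-group `W`.
A *Delta system* assigns to every subgroup `U ≤ A` of order at least `p ^ k` an `A`-invariant
subgroup `Δ U ≤ W` such that `Δ U ⊓ C(S) = Δ (U ⊔ S)` for all `S ≤ A`.  The main theorem says that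
the join `Y` of the `Δ E`, `E` a maximal subgroup of `A`, satisfies `C_Y(E₀) ≤ Δ E₀`.
This is the group-theoretic heart of "a `k`-balanced group gives a signalizer functor".
-/

namespace Cfsg.Agent.Helper29

open Subgroup

variable {X : Type*} [Group X]

theorem le_normalizer_iSup' {ι : Sort*} (K : Subgroup X) (H : ι → Subgroup X)
    (h : ∀ i, K ≤ normalizer (H i : Set X)) :
    K ≤ normalizer ((⨆ i, H i : Subgroup X) : Set X) :=
  le_trans (le_iInf h) (iInf_normalizer_le_normalizer_iSup H)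

theorem le_normalizer_inf' (K H₁ H₂ : Subgroup X) (h₁ : K ≤ normalizer (H₁ : Set X))
    (h₂ : K ≤ normalizer (H₂ : Set X)) : K ≤ normalizer ((H₁ ⊓ H₂ : Subgroup X) : Set X) :=
  le_trans (le_inf h₁ h₂) inf_normalizer_le_normalizer_inf

theorem le_normalizer_sup' (K H₁ H₂ : Subgroup X) (h₁ : K ≤ normalizer (H₁ : Set X))
    (h₂ : K ≤ normalizer (H₂ : Set X)) : K ≤ normalizer ((H₁ ⊔ H₂ : Subgroup X) : Set X) :=
  le_trans (le_inf h₁ h₂) (normalizer_inf_normalizer_le_normalizer_sup H₁ H₂)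

theorem le_normalizer_commutator' (K H : Subgroup X) (h : K ≤ normalizer (H : Set X)) :
    K ≤ normalizer ((⁅H, H⁆ : Subgroup X) : Set X) := by
  intro g hg
  have hg' := mem_normalizer_iff_map_conj_eq.mp (h hg)
  rw [mem_normalizer_iff_map_conj_eq, map_commutator, hg']

theorem le_normalizer_centralizer' (K : Subgroup X) (S : Set X) (h : K ≤ centralizer S) :
    K ≤ normalizer ((centralizer S : Subgroup X) : Set X) := by
  intro g hg
  have hgS := mem_centralizer_iff.mp (h hg)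
  rw [mem_normalizer_iff]
  intro x
  simp only [mem_centralizer_iff]
  constructor
  · intro hx s hs
    have h1 := hx s hs
    have h2 := hgS s hs
    have h3 : s * g⁻¹ = g⁻¹ * s := by
      calc s * g⁻¹ = g⁻¹ * (g * s) * g⁻¹ := by group
        _ = g⁻¹ * (s * g) * g⁻¹ := by rw [h2]
        _ = g⁻¹ * s := by group
    calc s * (g * x * g⁻¹) = (s * g) * x * g⁻¹ := by group
      _ = (g * s) * x * g⁻¹ := by rw [h2]
      _ = g * (s * x) * g⁻¹ := by group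
      _ = g * (x * s) * g⁻¹ := by rw [h1]
      _ = g * x * (s * g⁻¹) := by group
      _ = g * x * (g⁻¹ * s) := by rw [h3]
      _ = g * x * g⁻¹ * s := by group
  · intro hx s hs
    have h1 := hx s hs
    have h2 := hgS s hs
    calc s * x = g⁻¹ * (g * s) * x := by group
      _ = g⁻¹ * (s * g) * x := by rw [h2]
      _ = g⁻¹ * (s * (g * x * g⁻¹)) * g := by group
      _ = g⁻¹ * ((g * x * g⁻¹) * s) * g := by rw [h1]
      _ = x * g⁻¹ * (s * g) := by group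
      _ = x * g⁻¹ * (g * s) := by rw [h2]
      _ = x * s := by group

/-- **Product formula for fixed points under coprime action.** -/
theorem sup_inf_centralizer_le [Finite X] (T₁ T₂ S : Subgroup X)
    (h12 : T₁ ≤ normalizer (T₂ : Set X)) (hS1 : S ≤ normalizer (T₁ : Set X))
    (hS2 : S ≤ normalizer (T₂ : Set X)) (hcop : (Nat.card S).Coprime (Nat.card T₁))
    (hSs : Group.IsSolvable S) :
    (T₁ ⊔ T₂) ⊓ centralizer (S : Set X) ≤
      (T₁ ⊓ centralizer (S : Set X)) ⊔ (T₂ ⊓ centralizer (S : Set X)) := by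
  intro x hx
  obtain ⟨hx12, hxS⟩ := Subgroup.mem_inf.mp hx
  have hcoe := coe_mul_of_left_le_normalizer_right T₁ T₂ h12
  have hx' : x ∈ ((T₁ ⊔ T₂ : Subgroup X) : Set X) := hx12
  rw [hcoe] at hx'
  obtain ⟨t₁, ht₁, t₂, ht₂, hxe⟩ := hx'
  have hxe' : x = t₁ * t₂ := hxe.symm
  subst hxe'
  have hcomm : ∀ s ∈ S, t₁ * s * t₁⁻¹ * s⁻¹ ∈ T₁ ⊓ T₂ := by
    intro s hs
    have hsx : s * (t₁ * t₂) = (t₁ * t₂) * s := mem_centralizer_iff.mp hxS s hs
    have h' : s⁻¹ * (t₁ * t₂) = t₁ * t₂ * s⁻¹ := by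
      calc s⁻¹ * (t₁ * t₂) = s⁻¹ * ((t₁ * t₂) * s) * s⁻¹ := by group
        _ = s⁻¹ * (s * (t₁ * t₂)) * s⁻¹ := by rw [hsx]
        _ = t₁ * t₂ * s⁻¹ := by group
    have h1 : s * t₁⁻¹ * s⁻¹ ∈ T₁ :=
      (mem_normalizer_iff.mp (hS1 hs) t₁⁻¹).mp (T₁.inv_mem ht₁)
    have h2 : s * t₂ * s⁻¹ ∈ T₂ := (mem_normalizer_iff.mp (hS2 hs) t₂).mp ht₂
    refine Subgroup.mem_inf.mpr ⟨?_, ?_⟩
    · have e : t₁ * s * t₁⁻¹ * s⁻¹ = t₁ * (s * t₁⁻¹ * s⁻¹) := by group
      rw [e]; exact T₁.mul_mem ht₁ h1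
    · have e : t₁ * s * t₁⁻¹ * s⁻¹ = t₁ * ((s * t₂ * s⁻¹) * t₂⁻¹) * t₁⁻¹ := by
        have e2 : t₁⁻¹ * s⁻¹ = t₂ * s⁻¹ * t₂⁻¹ * t₁⁻¹ := by
          calc t₁⁻¹ * s⁻¹ = t₁⁻¹ * (s⁻¹ * (t₁ * t₂)) * (t₁ * t₂)⁻¹ := by group
            _ = t₁⁻¹ * (t₁ * t₂ * s⁻¹) * (t₁ * t₂)⁻¹ := by rw [h']
            _ = t₂ * s⁻¹ * t₂⁻¹ * t₁⁻¹ := by group
        calc t₁ * s * t₁⁻¹ * s⁻¹ = t₁ * s * (t₁⁻¹ * s⁻¹) := by group
          _ = t₁ * s * (t₂ * s⁻¹ * t₂⁻¹ * t₁⁻¹) := by rw [e2]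
          _ = t₁ * ((s * t₂ * s⁻¹) * t₂⁻¹) * t₁⁻¹ := by group
      rw [e]
      exact (mem_normalizer_iff.mp (h12 ht₁) _).mp (T₂.mul_mem h2 (T₂.inv_mem ht₂))
  obtain ⟨n, hn, c, hc, htnc⟩ := Cfsg.Agent.Helper52.exists_mul_centralizer_of_comm_mem T₁ (T₁ ⊓ T₂) S
    inf_le_left hS1 (le_normalizer_inf' S T₁ T₂ hS1 hS2) hcop (Or.inr hSs) t₁ ht₁ hcomm
  obtain ⟨hcT, hcS⟩ := Subgroup.mem_inf.mp hc
  obtain ⟨hn1, hn2⟩ := Subgroup.mem_inf.mp hn
  have hx2 : t₁ * t₂ = c * (c⁻¹ * n * c * t₂) := by rw [htnc]; group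
  rw [hx2]
  refine Subgroup.mul_mem_sup hc (Subgroup.mem_inf.mpr ⟨?_, ?_⟩)
  · refine T₂.mul_mem ?_ ht₂
    apply (mem_normalizer_iff.mp (h12 hcT) _).mpr
    have e : c * (c⁻¹ * n * c) * c⁻¹ = n := by group
    rw [e]; exact hn2
  · have e : c⁻¹ * n * c * t₂ = c⁻¹ * (t₁ * t₂) := by rw [htnc]; group
    rw [e]
    exact (centralizer (S : Set X)).mul_mem ((centralizer (S : Set X)).inv_mem hcS) hxS

/-- Iterated product formula over a finset. -/
theorem finset_iSup_inf_centralizer_le [Finite X] {ι : Type*} (T : ι → Subgroup X) (S : Subgroup X)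
    (hTT : ∀ i j, T i ≤ normalizer (T j : Set X)) (hST : ∀ i, S ≤ normalizer (T i : Set X))
    (hcop : ∀ i, (Nat.card S).Coprime (Nat.card (T i))) (hSs : Group.IsSolvable S)
    (s : Finset ι) :
    (⨆ i ∈ s, T i) ⊓ centralizer (S : Set X) ≤ ⨆ i ∈ s, T i ⊓ centralizer (S : Set X) := by
  classical
  induction s using Finset.induction_on with
  | empty => simp
  | insert j s hj ih =>
    rw [Finset.iSup_insert, Finset.iSup_insert]
    refine le_trans (sup_inf_centralizer_le (T j) (⨆ i ∈ s, T i) S ?_ (hST j) ?_ (hcop j) hSs) ?_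
    · exact le_normalizer_iSup' _ _ (fun i => le_normalizer_iSup' _ _ (fun _ => hTT j i))
    · exact le_normalizer_iSup' _ _ (fun i => le_normalizer_iSup' _ _ (fun _ => hST i))
    · exact sup_le_sup le_rfl ih

theorem iSup_inf_centralizer_le [Finite X] {ι : Type*} [Finite ι] (T : ι → Subgroup X)
    (S : Subgroup X)
    (hTT : ∀ i j, T i ≤ normalizer (T j : Set X)) (hST : ∀ i, S ≤ normalizer (T i : Set X))
    (hcop : ∀ i, (Nat.card S).Coprime (Nat.card (T i))) (hSs : Group.IsSolvable S) :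
    (⨆ i, T i) ⊓ centralizer (S : Set X) ≤ ⨆ i, T i ⊓ centralizer (S : Set X) := by
  have := Fintype.ofFinite ι
  have h := finset_iSup_inf_centralizer_le T S hTT hST hcop hSs Finset.univ
  simpa using h

theorem commutator_lt_of_isSolvable {Y : Subgroup X} (hYs : Group.IsSolvable Y) (hY : Y ≠ ⊥) :
    ⁅Y, Y⁆ < Y := by
  rw [← nontrivial_iff_ne_bot] at hY
  have h := Group.IsSolvable.commutator_lt_top_of_nontrivial ↥Y
  have h2 := (Subgroup.map_subtype_lt_map_subtype).mpr h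
  rw [Subgroup.map_subtype_commutator, ← MonoidHom.range_eq_map, Y.range_subtype] at h2
  exact h2


/-! ### Cardinalities of maximal subgroups of an elementary abelian group -/

theorem card_covBy_mul [Finite X] {p : ℕ} [Fact p.Prime] {A E : Subgroup X}
    (hAc : ∀ x ∈ A, ∀ y ∈ A, x * y = y * x) (hAp : ∀ x ∈ A, x ^ p = 1) (hE : E ⋖ A) :
    Nat.card E * p = Nat.card A := by
  have h := relIndex_eq_of_covBy A E hAc hAp hE
  have := relIndex_mul_relIndex (⊥ : Subgroup X) E A bot_le hE.le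
  rwa [relIndex_bot_left, relIndex_bot_left, h] at this

theorem pow_le_card_covBy [Finite X] {p k : ℕ} [hp : Fact p.Prime] {A E : Subgroup X}
    (hAc : ∀ x ∈ A, ∀ y ∈ A, x * y = y * x) (hAp : ∀ x ∈ A, x ^ p = 1)
    (hAk : p ^ (k + 2) ≤ Nat.card A) (hE : E ⋖ A) : p ^ (k + 1) ≤ Nat.card E := by
  have h := card_covBy_mul hAc hAp hE
  have hpos := hp.out.pos
  have h1 : p ^ (k + 1) * p ≤ Nat.card E * p := by
    rw [h]
    calc p ^ (k + 1) * p = p ^ (k + 2) := by ring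
      _ ≤ _ := hAk
  exact Nat.le_of_mul_le_mul_right h1 hpos

theorem pow_le_card_inf_covBy [Finite X] {p k : ℕ} [hp : Fact p.Prime] {A E E' : Subgroup X}
    (hAc : ∀ x ∈ A, ∀ y ∈ A, x * y = y * x) (hAp : ∀ x ∈ A, x ^ p = 1)
    (hAk : p ^ (k + 2) ≤ Nat.card A) (hE : E ⋖ A) (hE' : E' ⋖ A) :
    p ^ k ≤ Nat.card (E ⊓ E' : Subgroup X) := by
  have h1 := relIndex_eq_of_covBy A E hAc hAp hE
  have h2 := relIndex_eq_of_covBy A E' hAc hAp hE'
  have h3 : (E ⊓ E').relIndex A ≤ p * p := by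
    have := relIndex_inf_le (H := E) (K := E') (L := A)
    rwa [h1, h2] at this
  have h4 : Nat.card (E ⊓ E' : Subgroup X) * (E ⊓ E').relIndex A = Nat.card A := by
    have := relIndex_mul_relIndex (⊥ : Subgroup X) (E ⊓ E') A bot_le (inf_le_left.trans hE.le)
    rwa [relIndex_bot_left, relIndex_bot_left] at this
  by_contra hlt
  rw [not_le] at hlt
  have hpos := hp.out.pos
  have : Nat.card A < p ^ (k + 2) := by
    calc Nat.card A = Nat.card (E ⊓ E' : Subgroup X) * (E ⊓ E').relIndex A := h4.symm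
      _ ≤ Nat.card (E ⊓ E' : Subgroup X) * (p * p) := Nat.mul_le_mul_left _ h3
      _ < p ^ k * (p * p) := Nat.mul_lt_mul_of_pos_right hlt (Nat.mul_pos hpos hpos)
      _ = p ^ (k + 2) := by ring
  omega

theorem coprime_card_of_le [Finite X] {p : ℕ} [Fact p.Prime] {A W S T' : Subgroup X}
    (hAp : ∀ x ∈ A, x ^ p = 1) (hWp : (Nat.card W).Coprime p) (hS : S ≤ A) (hT : T' ≤ W) :
    (Nat.card S).Coprime (Nat.card T') := by
  have hSp : IsPGroup p S := fun g => ⟨1, by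
    have := hAp g.1 (hS g.2)
    apply Subtype.ext
    simpa using this⟩
  obtain ⟨m, hm⟩ := IsPGroup.iff_card.mp hSp
  rw [hm]
  exact Nat.Coprime.pow_left m (Nat.Coprime.coprime_dvd_right (card_dvd_of_le hT) hWp.symm)

theorem isSolvable_of_le_comm {A S : Subgroup X} (hAc : ∀ x ∈ A, ∀ y ∈ A, x * y = y * x)
    (hS : S ≤ A) : Group.IsSolvable S :=
  Group.isSolvable_of_comm (fun a b => Subtype.ext (hAc a.1 (hS a.2) b.1 (hS b.2)))

/-! ### Delta systems -/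

/-- A Delta system for `A` acting on `W` (see the module docstring). -/
structure IsDeltaSystem (p k : ℕ) (A W : Subgroup X) (Δ : Subgroup X → Subgroup X) : Prop where
  le : ∀ U : Subgroup X, U ≤ A → p ^ k ≤ Nat.card U → Δ U ≤ W
  norm : ∀ U : Subgroup X, U ≤ A → p ^ k ≤ Nat.card U → A ≤ normalizer (Δ U : Set X)
  cent : ∀ U : Subgroup X, U ≤ A → p ^ k ≤ Nat.card U → ∀ S : Subgroup X, S ≤ A →
    Δ U ⊓ centralizer (S : Set X) = Δ (U ⊔ S)

theorem IsDeltaSystem.anti {p k : ℕ} {A W : Subgroup X} {Δ : Subgroup X → Subgroup X}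
    (h : IsDeltaSystem p k A W Δ) {U S : Subgroup X} (hU : U ≤ A) (hUk : p ^ k ≤ Nat.card U)
    (hS : S ≤ A) : Δ (U ⊔ S) ≤ Δ U := by
  rw [← h.cent U hU hUk S hS]
  exact inf_le_left

theorem IsDeltaSystem.mono {p k : ℕ} {A W : Subgroup X} {Δ : Subgroup X → Subgroup X}
    (h : IsDeltaSystem p k A W Δ) {U U' : Subgroup X} (hUU' : U ≤ U') (hU' : U' ≤ A)
    (hUk : p ^ k ≤ Nat.card U) : Δ U' ≤ Δ U := by
  have := h.anti (hUU'.trans hU') hUk hU'
  rwa [sup_of_le_right hUU'] at this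

theorem IsDeltaSystem.inf_right {p k : ℕ} {A W : Subgroup X} {Δ : Subgroup X → Subgroup X}
    (h : IsDeltaSystem p k A W Δ) (M : Subgroup X) (hAM : A ≤ normalizer (M : Set X)) :
    IsDeltaSystem p k A W (fun U => Δ U ⊓ M) where
  le U hU hUk := inf_le_left.trans (h.le U hU hUk)
  norm U hU hUk := le_normalizer_inf' A _ _ (h.norm U hU hUk) hAM
  cent U hU hUk S hS := by
    rw [inf_right_comm, h.cent U hU hUk S hS]


theorem card_lt_of_le_of_lt' [Finite X] {H K L : Subgroup X} (h1 : H ≤ K) (h2 : K < L) :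
    Nat.card H < Nat.card L := by
  by_contra hge
  rw [not_lt] at hge
  have h3 := Subgroup.eq_of_le_of_card_ge (h1.trans h2.le) hge
  subst h3
  exact absurd (le_antisymm h2.le h1) h2.ne

/-- In a Delta system every `Δ U` lies in the join of the `Δ E`, `E` maximal in `A`. -/
theorem IsDeltaSystem.le_iSup_max [Finite X] {p k : ℕ} [hp : Fact p.Prime]
    {A W : Subgroup X} {Δ : Subgroup X → Subgroup X} (hΔ : IsDeltaSystem p k A W Δ)
    (hAc : ∀ x ∈ A, ∀ y ∈ A, x * y = y * x) (hAp : ∀ x ∈ A, x ^ p = 1)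
    (hAk : p ^ (k + 2) ≤ Nat.card A) (hWp : (Nat.card W).Coprime p)
    (U : Subgroup X) (hU : U ≤ A) (hUk : p ^ k ≤ Nat.card U) :
    Δ U ≤ ⨆ E : {E : Subgroup X // E ⋖ A}, Δ E := by
  have hA1 : A ≠ ⊥ := by
    intro h
    rw [h, Subgroup.card_bot] at hAk
    have h2 : 1 < p ^ (k + 2) := Nat.one_lt_pow (by omega) hp.out.one_lt
    omega
  have hkE : ∀ E : Subgroup X, E ⋖ A → p ^ k ≤ Nat.card E := fun E hE =>
    le_trans (Nat.pow_le_pow_right hp.out.pos (Nat.le_succ k)) (pow_le_card_covBy hAc hAp hAk hE)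
  have hTp : (Nat.card (Δ U)).Coprime p :=
    Nat.Coprime.coprime_dvd_left (card_dvd_of_le (hΔ.le U hU hUk)) hWp
  refine le_trans (Cfsg.Agent.Helper29.le_iSup_covBy A (Δ U) hAc hAp hA1 (hΔ.norm U hU hUk) hTp)
    (iSup_le fun B => ?_)
  rw [hΔ.cent U hU hUk B.1 B.2.le, sup_comm]
  exact le_trans (hΔ.anti B.2.le (hkE B.1 B.2) hU)
    (le_iSup (fun E : {E : Subgroup X // E ⋖ A} => Δ E) B)

/-- Inductive step of the main theorem, with the relevant subgroups as variables. -/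
theorem IsDeltaSystem.step [Finite X] {p k : ℕ} [hp : Fact p.Prime]
    {A W : Subgroup X}
    (hAc : ∀ x ∈ A, ∀ y ∈ A, x * y = y * x) (hAp : ∀ x ∈ A, x ^ p = 1)
    (hAk : p ^ (k + 2) ≤ Nat.card A)
    (hWp : (Nat.card W).Coprime p)
    (Δ : Subgroup X → Subgroup X) (hΔ : IsDeltaSystem p k A W Δ)
    (Y Y' M₀ : Subgroup X) (hY : Y = ⨆ E : {E : Subgroup X // E ⋖ A}, Δ E)
    (hY' : Y' = ⁅Y, Y⁆) (hY'Y : Y' ≤ Y)
    (hM₀ : M₀ = ⨆ E : {E : Subgroup X // E ⋖ A}, Δ E ⊓ Y')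
    (hIH : ∀ E₁ : Subgroup X, E₁ ⋖ A → M₀ ⊓ centralizer (E₁ : Set X) ≤ Δ E₁)
    (E₀ : Subgroup X) (hE₀ : E₀ ⋖ A) :
    Y ⊓ centralizer (E₀ : Set X) ≤ Δ E₀ := by
  have hA1 : A ≠ ⊥ := by
    intro h
    rw [h, Subgroup.card_bot] at hAk
    have h2 : 1 < p ^ (k + 2) := Nat.one_lt_pow (by omega) hp.out.one_lt
    omega
  have hkE : ∀ E : Subgroup X, E ⋖ A → p ^ k ≤ Nat.card E := fun E hE =>
    le_trans (Nat.pow_le_pow_right hp.out.pos (Nat.le_succ k)) (pow_le_card_covBy hAc hAp hAk hE)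
  have hkEE : ∀ E E' : Subgroup X, E ⋖ A → E' ⋖ A → p ^ k ≤ Nat.card (E ⊓ E' : Subgroup X) :=
    fun E E' hE hE' => pow_le_card_inf_covBy hAc hAp hAk hE hE'
  have hgen : ∀ T K : Subgroup X, A ≤ normalizer (T : Set X) → T ≤ W →
      (∀ B : Subgroup X, B ⋖ A → T ⊓ centralizer (B : Set X) ≤ K) → T ≤ K := by
    intro T K hAT hTW h
    have hTp : (Nat.card T).Coprime p :=
      Nat.Coprime.coprime_dvd_left (card_dvd_of_le hTW) hWp
    exact le_trans (le_iSup_covBy A T hAc hAp hA1 hAT hTp) (iSup_le fun B => h B.1 B.2)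
  have hΔEY : ∀ E : Subgroup X, E ⋖ A → Δ E ≤ Y := fun E hE => by
    rw [hY]
    exact le_iSup (fun E : {E : Subgroup X // E ⋖ A} => Δ E) ⟨E, hE⟩
  have hYW : Y ≤ W := by
    rw [hY]
    exact iSup_le fun E => hΔ.le E.1 E.2.le (hkE E.1 E.2)
  have hAY : A ≤ normalizer (Y : Set X) := by
    rw [hY]
    exact le_normalizer_iSup' _ _ fun E => hΔ.norm E.1 E.2.le (hkE _ E.2)
  have hΔUY : ∀ U : Subgroup X, U ≤ A → p ^ k ≤ Nat.card U → Δ U ≤ Y := by
    intro U hU hUk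
    apply hgen (Δ U) _ (hΔ.norm U hU hUk) (hΔ.le U hU hUk)
    intro B hB
    rw [hΔ.cent U hU hUk B hB.le, sup_comm]
    exact le_trans (hΔ.anti hB.le (hkE B hB) hU) (hΔEY B hB)
  have hAY' : A ≤ normalizer (Y' : Set X) := by
    rw [hY']
    exact le_normalizer_commutator' A _ hAY
  have hΔ' := hΔ.inf_right Y' hAY'
  have hΔEM : ∀ E : Subgroup X, E ⋖ A → Δ E ⊓ Y' ≤ M₀ := fun E hE => by
    rw [hM₀]
    exact le_iSup (fun E : {E : Subgroup X // E ⋖ A} => Δ E ⊓ Y') ⟨E, hE⟩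
  have hM₀Y' : M₀ ≤ Y' := by
    rw [hM₀]
    exact iSup_le fun E => inf_le_right
  have hM₀Y : M₀ ≤ Y := hM₀Y'.trans hY'Y
  -- (a)
  have ha : ∀ U : Subgroup X, U ≤ A → p ^ k ≤ Nat.card U → Δ U ⊓ Y' ≤ M₀ := by
    intro U hU hUk
    apply hgen (Δ U ⊓ Y') M₀ (hΔ'.norm U hU hUk) (hΔ'.le U hU hUk)
    intro B hB
    have h1 := hΔ'.cent U hU hUk B hB.le
    rw [h1]
    refine le_trans ?_ (hΔEM B hB)
    refine inf_le_inf_right _ ?_
    rw [sup_comm]
    exact hΔ.anti hB.le (hkE B hB) hU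
  have hΔinf : ∀ E E' : Subgroup X, E ⋖ A → E' ⋖ A → Δ E ≤ Δ (E ⊓ E') := fun E E' hE hE' =>
    hΔ.mono inf_le_left hE.le (hkEE E E' hE hE')
  -- (c)
  have hc : ∀ E E' : Subgroup X, E ⋖ A → E' ⋖ A → ∀ x ∈ Δ E, ∀ w ∈ Δ E',
      w * x * w⁻¹ * x⁻¹ ∈ M₀ := by
    intro E E' hE hE' x hx w hw
    have hU := (inf_le_left : E ⊓ E' ≤ E).trans hE.le
    have hUk := hkEE E E' hE hE'
    have hx' : x ∈ Δ (E ⊓ E') := hΔinf E E' hE hE' hx
    have hw' : w ∈ Δ (E ⊓ E') := by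
      have := hΔinf E' E hE' hE hw
      rwa [inf_comm] at this
    apply ha (E ⊓ E') hU hUk
    refine Subgroup.mem_inf.mpr ⟨?_, ?_⟩
    · exact mul_mem (mul_mem (mul_mem hw' hx') (inv_mem hw')) (inv_mem hx')
    · rw [hY']
      have := Subgroup.commutator_mem_commutator (hΔUY _ hU hUk hw') (hΔUY _ hU hUk hx')
      rwa [commutatorElement_def] at this
  -- (b)
  have hb : Y ≤ normalizer (M₀ : Set X) := by
    rw [hY]
    apply iSup_le
    rintro ⟨E', hE'⟩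
    have key : ∀ w ∈ Δ E', ∀ h ∈ M₀, w * h * w⁻¹ ∈ M₀ := by
      intro w hw
      have hmap : M₀.map (MulAut.conj w).toMonoidHom ≤ M₀ := by
        conv_lhs => rw [hM₀]
        rw [Subgroup.map_iSup]
        apply iSup_le
        rintro ⟨E, hE⟩
        rintro _ ⟨x, hx, rfl⟩
        obtain ⟨hx1, hx2⟩ := Subgroup.mem_inf.mp hx
        have hxM : x ∈ M₀ := hΔEM E hE hx
        have h2 := M₀.mul_mem (hc E E' hE hE' x hx1 w hw) hxM
        have e : (MulAut.conj w).toMonoidHom x = w * x * w⁻¹ * x⁻¹ * x := by simp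
        rw [e]
        exact h2
      intro h hh
      have := hmap ⟨h, hh, rfl⟩
      simpa using this
    intro w hw
    rw [mem_normalizer_iff]
    intro h
    constructor
    · exact key w hw h
    · intro hh
      have := key w⁻¹ (inv_mem hw) _ hh
      simpa [mul_assoc] using this
  -- (d)
  have hd : ∀ E : Subgroup X, E ⋖ A → Y ≤ normalizer ((Δ E ⊔ M₀ : Subgroup X) : Set X) := by
    intro E hE
    conv_lhs => rw [hY]
    apply iSup_le
    rintro ⟨E', hE'⟩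
    have key : ∀ w ∈ Δ E', ∀ h ∈ Δ E ⊔ M₀, w * h * w⁻¹ ∈ Δ E ⊔ M₀ := by
      intro w hw
      have hmap : (Δ E ⊔ M₀).map (MulAut.conj w).toMonoidHom ≤ Δ E ⊔ M₀ := by
        rw [Subgroup.map_sup]
        apply sup_le
        · rintro _ ⟨x, hx, rfl⟩
          have h1 := hc E E' hE hE' x hx w hw
          have e : (MulAut.conj w).toMonoidHom x = w * x * w⁻¹ * x⁻¹ * x := by simp
          rw [e]
          exact mul_mem (Subgroup.mem_sup_right h1) (Subgroup.mem_sup_left hx)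
        · rintro _ ⟨x, hx, rfl⟩
          apply Subgroup.mem_sup_right
          have := (mem_normalizer_iff.mp (hb (hΔEY E' hE' hw)) x).mp hx
          simpa using this
      intro h hh
      have := hmap ⟨h, hh, rfl⟩
      simpa using this
    intro w hw
    rw [mem_normalizer_iff]
    intro h
    constructor
    · exact key w hw h
    · intro hh
      have := key w⁻¹ (inv_mem hw) _ hh
      simpa [mul_assoc] using this
  have hAM₀ : A ≤ normalizer (M₀ : Set X) := by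
    rw [hM₀]
    exact le_normalizer_iSup' _ _ fun E => hΔ'.norm E.1 E.2.le (hkE _ E.2)
  have hTY : ∀ E : Subgroup X, E ⋖ A → Δ E ⊔ M₀ ≤ Y := fun E hE => sup_le (hΔEY E hE) hM₀Y
  -- (e)
  have he : ∀ E : Subgroup X, E ⋖ A → (Δ E ⊔ M₀) ⊓ centralizer (E₀ : Set X) ≤ Δ E₀ := by
    intro E hE
    refine le_trans (sup_inf_centralizer_le (Δ E) M₀ E₀ ((hΔEY E hE).trans hb)
      (hE₀.le.trans (hΔ.norm E hE.le (hkE E hE))) (hE₀.le.trans hAM₀)
      (coprime_card_of_le hAp hWp hE₀.le (hΔ.le E hE.le (hkE E hE)))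
      (isSolvable_of_le_comm hAc hE₀.le)) ?_
    apply sup_le
    · rw [hΔ.cent E hE.le (hkE E hE) E₀ hE₀.le, sup_comm]
      exact hΔ.anti hE₀.le (hkE E₀ hE₀) hE.le
    · exact hIH E₀ hE₀
  -- (f)
  have hf := iSup_inf_centralizer_le (fun E : {E : Subgroup X // E ⋖ A} => Δ E ⊔ M₀) E₀
    (fun i j => (hTY i.1 i.2).trans (hd j.1 j.2))
    (fun i => hE₀.le.trans (le_normalizer_sup' A _ _ (hΔ.norm i.1 i.2.le (hkE _ i.2)) hAM₀))
    (fun i => coprime_card_of_le hAp hWp hE₀.le ((hTY i.1 i.2).trans hYW))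
    (isSolvable_of_le_comm hAc hE₀.le)
  have hle : Y ≤ ⨆ E : {E : Subgroup X // E ⋖ A}, Δ E ⊔ M₀ := by
    conv_lhs => rw [hY]
    exact iSup_le fun E => le_trans le_sup_left
      (le_iSup (fun E : {E : Subgroup X // E ⋖ A} => Δ E ⊔ M₀) E)
  exact le_trans (inf_le_inf_right _ hle) (le_trans hf (iSup_le fun E => he E.1 E.2))

/-- **Main theorem on Delta systems** (induction form). -/
theorem IsDeltaSystem.inf_centralizer_le_aux [Finite X] {p k : ℕ} [hp : Fact p.Prime]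
    {A W : Subgroup X}
    (hAc : ∀ x ∈ A, ∀ y ∈ A, x * y = y * x) (hAp : ∀ x ∈ A, x ^ p = 1)
    (hAk : p ^ (k + 2) ≤ Nat.card A)
    (hWp : (Nat.card W).Coprime p) (hWs : Group.IsSolvable W) :
    ∀ (n : ℕ) (Δ : Subgroup X → Subgroup X), IsDeltaSystem p k A W Δ →
      Nat.card (⨆ E : {E : Subgroup X // E ⋖ A}, Δ E : Subgroup X) = n →
      ∀ E₀ : Subgroup X, E₀ ⋖ A →
        (⨆ E : {E : Subgroup X // E ⋖ A}, Δ E) ⊓ centralizer (E₀ : Set X) ≤ Δ E₀ := by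
  intro n
  induction n using Nat.strong_induction_on with
  | _ n ih =>
  intro Δ hΔ hn E₀ hE₀
  have hkE : ∀ E : Subgroup X, E ⋖ A → p ^ k ≤ Nat.card E := fun E hE =>
    le_trans (Nat.pow_le_pow_right hp.out.pos (Nat.le_succ k)) (pow_le_card_covBy hAc hAp hAk hE)
  obtain ⟨Y, hY⟩ : ∃ Y : Subgroup X, Y = ⨆ E : {E : Subgroup X // E ⋖ A}, Δ E := ⟨_, rfl⟩
  rw [← hY] at hn ⊢
  have hYW : Y ≤ W := by
    rw [hY]
    exact iSup_le fun E => hΔ.le E.1 E.2.le (hkE E.1 E.2)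
  have hAY : A ≤ normalizer (Y : Set X) := by
    rw [hY]
    exact le_normalizer_iSup' _ _ fun E => hΔ.norm E.1 E.2.le (hkE _ E.2)
  by_cases hY1 : Y = ⊥
  · rw [hY1]
    exact le_trans inf_le_left bot_le
  have hYs : Group.IsSolvable Y :=
    Group.isSolvable_of_isSolvable_injective (Subgroup.inclusion_injective hYW)
  have hY'lt := commutator_lt_of_isSolvable hYs hY1
  have hAY' := le_normalizer_commutator' A _ hAY
  have hΔ' := hΔ.inf_right _ hAY'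
  obtain ⟨M₀, hM₀⟩ : ∃ M₀ : Subgroup X,
      M₀ = ⨆ E : {E : Subgroup X // E ⋖ A}, Δ E ⊓ ⁅Y, Y⁆ := ⟨_, rfl⟩
  have hM₀Y' : M₀ ≤ ⁅Y, Y⁆ := by
    rw [hM₀]
    exact iSup_le fun E => inf_le_right
  have hlt : Nat.card M₀ < n := by
    rw [← hn]
    exact card_lt_of_le_of_lt' hM₀Y' hY'lt
  have hIH : ∀ E₁ : Subgroup X, E₁ ⋖ A → M₀ ⊓ centralizer (E₁ : Set X) ≤ Δ E₁ := by
    intro E₁ hE₁
    have := ih (Nat.card M₀) hlt (fun U => Δ U ⊓ ⁅Y, Y⁆) hΔ' (by rw [hM₀]) E₁ hE₁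
    rw [← hM₀] at this
    exact le_trans this inf_le_left
  exact hΔ.step hAc hAp hAk hWp Δ Y ⁅Y, Y⁆ M₀ hY rfl hY'lt.le hM₀ hIH E₀ hE₀

/-- **Main theorem on Delta systems.** -/
theorem IsDeltaSystem.inf_centralizer_le [Finite X] {p k : ℕ} [Fact p.Prime]
    {A W : Subgroup X} {Δ : Subgroup X → Subgroup X} (hΔ : IsDeltaSystem p k A W Δ)
    (hAc : ∀ x ∈ A, ∀ y ∈ A, x * y = y * x) (hAp : ∀ x ∈ A, x ^ p = 1)
    (hAk : p ^ (k + 2) ≤ Nat.card A)
    (hWp : (Nat.card W).Coprime p) (hWs : Group.IsSolvable W)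
    (E₀ : Subgroup X) (hE₀ : E₀ ⋖ A) :
    (⨆ E : {E : Subgroup X // E ⋖ A}, Δ E) ⊓ centralizer (E₀ : Set X) ≤ Δ E₀ :=
  IsDeltaSystem.inf_centralizer_le_aux hAc hAp hAk hWp hWs _ Δ hΔ rfl E₀ hE₀

end Cfsg.Agent.Helper29
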