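import Cfsg.Prelude.Def_Local

set_option autoImplicit false

namespace Cfsg.Agent.Helper29

theorem map_center_mulEquiv {H H' : Type*} [Group H] [Group H'] (e : H ≃* H') :
    (Subgroup.center H).map (e : H →* H') = Subgroup.center H' := by
  ext x
  constructor
  · rintro ⟨y, hy, rfl⟩
    rw [Subgroup.mem_center_iff]
    intro g
    obtain ⟨g', rfl⟩ := e.surjective g
    have := Subgroup.mem_center_iff.mp hy g'
    change e g' * e y = e y * e g'
    rw [← map_mul, ← map_mul, this]
  · intro hx
    refine ⟨e.symm x, ?_, by simp⟩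
    change e.symm x ∈ Subgroup.center H
    rw [Subgroup.mem_center_iff]
    intro g
    have := Subgroup.mem_center_iff.mp hx (e g)
    apply e.injective
    simpa using this

theorem isQuasisimple_of_mulEquiv {H H' : Type*} [Group H] [Group H'] (e : H ≃* H')
    (h : Cfsg.IsQuasisimple H) : Cfsg.IsQuasisimple H' := by
  obtain ⟨hp, hs⟩ := h
  refine ⟨Group.IsPerfect.ofSurjective (f := (e : H →* H')) e.surjective, ?_⟩
  have e' : H ⧸ Subgroup.center H ≃* H' ⧸ Subgroup.center H' :=
    QuotientGroup.congr _ _ e (map_center_mulEquiv e)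
  exact e'.symm.isSimpleGroup

end Cfsg.Agent.Helper29
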