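import Cfsg.Prelude.Def_Local
import Cfsg.Agent.Lib.Helper29.Basic

set_option autoImplicit false

namespace Cfsg.Agent.Helper29

variable {G G' : Type*} [Group G] [Group G']

theorem isComponent_map_mulEquiv (e : G ≃* G') (K : Subgroup G) (hK : Cfsg.IsComponent K) :
    Cfsg.IsComponent (K.map (e : G →* G')) := by
  refine ⟨hK.1.map (f := (e : G →* G')) e.surjective, ?_⟩
  exact isQuasisimple_of_mulEquiv (K.equivMapOfInjective (e : G →* G') e.injective) hK.2

theorem layer_map_le (e : G ≃* G') : (Cfsg.layer G).map (e : G →* G') ≤ Cfsg.layer G' := by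
  unfold Cfsg.layer
  rw [sSup_eq_iSup, Subgroup.map_iSup]
  apply iSup_le
  intro K
  rw [Subgroup.map_iSup]
  apply iSup_le
  intro hK
  exact le_sSup (isComponent_map_mulEquiv e K hK)

theorem layer_map_mulEquiv (e : G ≃* G') : (Cfsg.layer G).map (e : G →* G') = Cfsg.layer G' := by
  apply le_antisymm (layer_map_le e)
  have h := layer_map_le e.symm
  intro x hx
  refine ⟨e.symm x, h ⟨x, hx, rfl⟩, by simp⟩

theorem fittingSubgroup_map_le (e : G ≃* G') :
    (Cfsg.fittingSubgroup G).map (e : G →* G') ≤ Cfsg.fittingSubgroup G' := by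
  unfold Cfsg.fittingSubgroup
  rw [sSup_eq_iSup, Subgroup.map_iSup]
  apply iSup_le
  intro K
  rw [Subgroup.map_iSup]
  apply iSup_le
  rintro ⟨hKn, hKnil⟩
  apply le_sSup
  refine ⟨hKn.map (e : G →* G') e.surjective, ?_⟩
  exact Group.nilpotent_of_mulEquiv (K.equivMapOfInjective (e : G →* G') e.injective)

theorem fittingSubgroup_map_mulEquiv (e : G ≃* G') :
    (Cfsg.fittingSubgroup G).map (e : G →* G') = Cfsg.fittingSubgroup G' := by
  apply le_antisymm (fittingSubgroup_map_le e)
  have h := fittingSubgroup_map_le e.symm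
  intro x hx
  refine ⟨e.symm x, h ⟨x, hx, rfl⟩, by simp⟩

theorem generalizedFittingSubgroup_map_mulEquiv (e : G ≃* G') :
    (Cfsg.generalizedFittingSubgroup G).map (e : G →* G') = Cfsg.generalizedFittingSubgroup G' := by
  unfold Cfsg.generalizedFittingSubgroup
  rw [Subgroup.map_sup, layer_map_mulEquiv, fittingSubgroup_map_mulEquiv]

instance layer_characteristic : (Cfsg.layer G).Characteristic :=
  Subgroup.characteristic_iff_map_eq.mpr fun ϕ => layer_map_mulEquiv ϕ

instance fittingSubgroup_characteristic : (Cfsg.fittingSubgroup G).Characteristic :=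
  Subgroup.characteristic_iff_map_eq.mpr fun ϕ => fittingSubgroup_map_mulEquiv ϕ

instance generalizedFittingSubgroup_characteristic :
    (Cfsg.generalizedFittingSubgroup G).Characteristic :=
  Subgroup.characteristic_iff_map_eq.mpr fun ϕ => generalizedFittingSubgroup_map_mulEquiv ϕ

theorem generalizedFittingSubgroup_normal : (Cfsg.generalizedFittingSubgroup G).Normal :=
  inferInstance

theorem fittingSubgroup_le_generalizedFittingSubgroup :
    Cfsg.fittingSubgroup G ≤ Cfsg.generalizedFittingSubgroup G := le_sup_right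

theorem layer_le_generalizedFittingSubgroup :
    Cfsg.layer G ≤ Cfsg.generalizedFittingSubgroup G := le_sup_left

theorem isNilpotent_of_isMulCommutative (H : Type*) [Group H] [IsMulCommutative H] :
    Group.IsNilpotent H := by
  refine ⟨⟨1, ?_⟩⟩
  rw [Subgroup.upperCentralSeries_one]
  exact Subgroup.center_eq_top

theorem center_le_fittingSubgroup : Subgroup.center G ≤ Cfsg.fittingSubgroup G := by
  apply le_sSup
  exact ⟨inferInstance, isNilpotent_of_isMulCommutative _⟩

theorem center_le_generalizedFittingSubgroup :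
    Subgroup.center G ≤ Cfsg.generalizedFittingSubgroup G :=
  center_le_fittingSubgroup.trans fittingSubgroup_le_generalizedFittingSubgroup

end Cfsg.Agent.Helper29
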