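import Mathlib

/-!
A normal subgroup `K` of a finite group `X` that contains the centralizers of all its
nontrivial elements is a Hall subgroup: `|K|` and `|X : K|` are coprime.
(Requested by helper82 for S1526.)  Mathlib-only.
-/

namespace Cfsg.Agent.Helper29.FrobCoprime

open scoped commutatorElement

/-- A nontrivial normal subgroup of a nilpotent group contains a nontrivial central
element. -/
theorem exists_central_mem {P : Type*} [Group P] [Group.IsNilpotent P]
    (N : Subgroup P) [N.Normal] (hN : N ≠ ⊥) :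
    ∃ z ∈ N, z ≠ 1 ∧ ∀ g : P, g * z = z * g := by
  classical
  obtain ⟨c, hc⟩ := Group.IsNilpotent.nilpotent' (G := P)
  have hex : ∃ n, Subgroup.upperCentralSeries P n ⊓ N ≠ ⊥ :=
    ⟨c, by rw [hc, top_inf_eq]; exact hN⟩
  have hn1 : Subgroup.upperCentralSeries P (Nat.find hex) ⊓ N ≠ ⊥ := Nat.find_spec hex
  have hn0 : Nat.find hex ≠ 0 := by
    intro h0
    rw [h0, Subgroup.upperCentralSeries_zero, bot_inf_eq] at hn1
    exact hn1 rfl
  obtain ⟨m, hm⟩ := Nat.exists_eq_succ_of_ne_zero hn0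
  have hmin : Subgroup.upperCentralSeries P m ⊓ N = ⊥ := by
    by_contra h
    have := Nat.find_min' hex h
    omega
  rw [hm] at hn1
  obtain ⟨a, ha⟩ := (Subgroup.ne_bot_iff_exists_ne_one).mp hn1
  obtain ⟨x, hx, hx1⟩ : ∃ x : P, x ∈ Subgroup.upperCentralSeries P (m + 1) ⊓ N ∧ x ≠ 1 :=
    ⟨(a : P), a.2, fun h => ha (Subtype.ext h)⟩
  rw [Subgroup.mem_inf] at hx
  refine ⟨x, hx.2, hx1, ?_⟩
  intro g
  have h1 : ⁅x, g⁆ ∈ Subgroup.upperCentralSeries P m :=
    (Subgroup.mem_upperCentralSeries_succ_iff.mp hx.1) g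
  have h2 : ⁅x, g⁆ ∈ N := by
    rw [commutatorElement_def]
    have : g * x⁻¹ * g⁻¹ ∈ N := ‹N.Normal›.conj_mem _ (N.inv_mem hx.2) g
    have h3 := N.mul_mem hx.2 this
    simpa [mul_assoc] using h3
  have h3 : ⁅x, g⁆ ∈ Subgroup.upperCentralSeries P m ⊓ N := ⟨h1, h2⟩
  rw [hmin, Subgroup.mem_bot, commutatorElement_eq_one_iff_mul_comm] at h3
  exact h3.symm

/-- helper82's request: if the normal subgroup `K` contains the centralizer of each of its
nontrivial elements then `|K|` and `|X : K|` are coprime. -/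
theorem frob_coprime_of_centralizer {X : Type*} [Group X] [Finite X] (K : Subgroup X)
    [K.Normal] (hC : ∀ k ∈ K, k ≠ 1 → Subgroup.centralizer ({k} : Set X) ≤ K) :
    Nat.Coprime (Nat.card K) K.index := by
  classical
  by_contra hcop
  obtain ⟨p, hp, hpK, hpI⟩ := Nat.Prime.not_coprime_iff_dvd.mp hcop
  haveI := Fact.mk hp
  -- an element of order `p` in `K`
  obtain ⟨k, hk⟩ := exists_prime_orderOf_dvd_card' (G := K) p hpK
  have hk1 : (k : X) ≠ 1 := by
    intro h
    have : k = 1 := Subtype.ext h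
    rw [this, orderOf_one] at hk
    exact hp.one_lt.ne hk
  -- a Sylow `p`-subgroup containing it
  have hpg : IsPGroup p (Subgroup.zpowers (k : X)) := by
    apply IsPGroup.of_card (n := 1)
    rw [Nat.card_zpowers, pow_one, Subgroup.orderOf_coe, hk]
  obtain ⟨P, hP⟩ := hpg.exists_le_sylow
  have hkP : (k : X) ∈ (P : Subgroup X) := hP (Subgroup.mem_zpowers _)
  -- the normal subgroup `K ∩ P` of `P`
  haveI : Group.IsNilpotent (P : Subgroup X) := P.isPGroup'.isNilpotent
  have hN : K.subgroupOf (P : Subgroup X) ≠ ⊥ := by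
    intro h
    have : (⟨(k : X), hkP⟩ : (P : Subgroup X)) ∈ K.subgroupOf (P : Subgroup X) := by
      rw [Subgroup.mem_subgroupOf]; exact k.2
    rw [h, Subgroup.mem_bot] at this
    exact hk1 (congrArg Subtype.val this)
  obtain ⟨z, hzN, hz1, hzc⟩ := exists_central_mem (K.subgroupOf (P : Subgroup X)) hN
  have hzK : (z : X) ∈ K := by rwa [Subgroup.mem_subgroupOf] at hzN
  have hz1' : (z : X) ≠ 1 := fun h => hz1 (Subtype.ext h)
  have hPK : (P : Subgroup X) ≤ K := by
    refine le_trans ?_ (hC _ hzK hz1')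
    intro g hg
    rw [Subgroup.mem_centralizer_iff]
    intro h hh
    rw [Set.mem_singleton_iff] at hh
    subst hh
    have := hzc ⟨g, hg⟩
    exact (congrArg Subtype.val this).symm
  have hdvd : K.index ∣ (P : Subgroup X).index := Subgroup.index_dvd_of_le hPK
  exact P.not_dvd_index (hpI.trans hdvd)

end Cfsg.Agent.Helper29.FrobCoprime
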