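import Mathlib
import Cfsg.Agent.S0659
import Cfsg.Agent.Lib.Helper52.Thompson
import Cfsg.Agent.Lib.Helper29.FrobCoprime

/-!
`frob_pair` (requested by helper82 for S1526): a "Frobenius pair" `H < L` (`H` normal in `L`,
and `C_L(h) ≤ H` for `1 ≠ h ∈ H`) has `|H|` coprime to `|L : H|` and `H` nilpotent
(Thompson, via `Helper52.thompson_aux` and the landed `S0659`).
-/

set_option autoImplicit false

namespace Cfsg.Agent.Helper29.FrobPair

theorem frob_pair {G : Type*} [Group G] [Finite G] (H L : Subgroup G) (hHL : H < L)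
    (hHn : ∀ g ∈ L, ∀ h ∈ H, g * h * g⁻¹ ∈ H)
    (hfrob : ∀ h ∈ H, h ≠ 1 → L ⊓ Subgroup.centralizer ({h} : Set G) ≤ H) :
    Nat.Coprime (Nat.card H) (H.relIndex L) ∧ Group.IsNilpotent H := by
  classical
  -- work inside `L`
  obtain ⟨K, hKdef⟩ : ∃ K : Subgroup L, K = H.subgroupOf L := ⟨_, rfl⟩
  have hKmem : ∀ x : L, x ∈ K ↔ (x : G) ∈ H := by
    intro x; rw [hKdef, Subgroup.mem_subgroupOf]
  haveI hKn : K.Normal := by
    refine ⟨fun n hn g => ?_⟩
    rw [hKmem] at hn ⊢
    have := hHn g g.2 n hn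
    simpa using this
  have hC : ∀ k ∈ K, k ≠ 1 → Subgroup.centralizer ({k} : Set L) ≤ K := by
    intro k hk hk1 x hx
    rw [hKmem] at hk ⊢
    have hk1' : (k : G) ≠ 1 := fun h => hk1 (Subtype.ext h)
    apply hfrob (k : G) hk hk1'
    rw [Subgroup.mem_centralizer_iff] at hx
    have hx' : (x : G) ∈ Subgroup.centralizer ({(k : G)} : Set G) := by
      rw [Subgroup.mem_centralizer_iff]
      intro h hh
      rw [Set.mem_singleton_iff] at hh
      subst hh
      have := hx k rfl
      exact congrArg Subtype.val this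
    exact ⟨x.2, hx'⟩
  have hcop : Nat.Coprime (Nat.card K) K.index :=
    Cfsg.Agent.Helper29.FrobCoprime.frob_coprime_of_centralizer K hC
  have hcardK : Nat.card K = Nat.card H := by
    rw [hKdef]
    exact Nat.card_congr (Subgroup.subgroupOfEquivOfLe hHL.le).toEquiv
  have hidx : K.index = H.relIndex L := by
    rw [hKdef]; rfl
  refine ⟨by rw [← hcardK, ← hidx]; exact hcop, ?_⟩
  -- nilpotency
  have hKtop : K ≠ ⊤ := by
    intro h
    rw [hKdef, Subgroup.subgroupOf_eq_top] at h
    exact (not_le_of_gt hHL) h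
  have hidx1 : K.index ≠ 1 := fun h => hKtop (Subgroup.index_eq_one.mp h)
  obtain ⟨p, hp, hpdvd⟩ := Nat.exists_prime_and_dvd hidx1
  haveI : Fact p.Prime := ⟨hp⟩
  have hpL : p ∣ Nat.card L := hpdvd.trans (Subgroup.index_dvd_card K)
  obtain ⟨w, hw⟩ := exists_prime_orderOf_dvd_card' (G := L) p hpL
  have hwK : w ∉ K := by
    intro hwK
    have h1 : orderOf (⟨w, hwK⟩ : K) ∣ Nat.card K := orderOf_dvd_natCard _
    have h2 : orderOf (⟨w, hwK⟩ : K) = p := by
      rw [← hw, ← Subgroup.orderOf_coe]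
    rw [h2] at h1
    have := Nat.dvd_gcd h1 hpdvd
    rw [Nat.Coprime] at hcop
    rw [hcop] at this
    exact hp.one_lt.ne' (Nat.dvd_one.mp this)
  have hnilK : Group.IsNilpotent K := by
    obtain ⟨φ, hφdef⟩ : ∃ φ : K ≃* K, φ = MulAut.conjNormal w := ⟨_, rfl⟩
    have hφapp : ∀ k : K, ((φ k : K) : L) = w * k * w⁻¹ := by
      intro k; rw [hφdef]; exact MulAut.conjNormal_apply w k
    have hφ : MonoidHom.FixedPointFree (φ : K →* K) := by
      intro k hk
      by_contra hk1
      apply hwK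
      apply hC k.1 k.2 (fun h => hk1 (Subtype.ext h))
      rw [Subgroup.mem_centralizer_iff]
      intro h hh
      rw [Set.mem_singleton_iff] at hh
      subst hh
      have h1 : ((φ k : K) : L) = k := congrArg Subtype.val hk
      rw [hφapp] at h1
      -- w * k * w⁻¹ = k
      have h2 : w * (k : L) = k * w := by
        calc w * (k : L) = (w * k * w⁻¹) * w := by group
          _ = k * w := by rw [h1]
      exact h2.symm
    have hφp : (⇑φ)^[p] = id := by
      funext x
      rw [← Cfsg.Agent.Helper52.mulAut_pow_apply]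
      have h1 : φ ^ p = 1 := by
        rw [hφdef, ← map_pow, ← hw, pow_orderOf_eq_one, map_one]
      rw [h1]
      rfl
    refine Cfsg.Agent.Helper52.thompson_aux ?_ p hp _ K φ rfl hφ hφp
    intro H' _ _ q _ hq P hN
    exact Cfsg.Agent.S0659.result hq P hN
  -- transport to `H`
  have e : K ≃* H := by
    rw [hKdef]
    exact Subgroup.subgroupOfEquivOfLe hHL.le
  exact (Group.isNilpotent_congr e).mp hnilK

end Cfsg.Agent.Helper29.FrobPair
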