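import Mathlib
import Cfsg.Agent.Lib.Helper14.GLIDefs

set_option autoImplicit false

/-! # GLI (GTRANSIT), for helper14's GLI server (S5958) -/

namespace Cfsg.Agent.Helper29.GLI

open Module Polynomial Cfsg.Agent.Helper14.GLI

/-- a linear equivalence of `Fin n → F` as an element of `GL_n(F)` -/
noncomputable def h29_glOfEquiv {F : Type*} [Field F] {n : ℕ}
    (e : (Fin n → F) ≃ₗ[F] (Fin n → F)) : GL (Fin n) F :=
  ⟨LinearMap.toMatrix' (e : (Fin n → F) →ₗ[F] (Fin n → F)),
    LinearMap.toMatrix' (e.symm : (Fin n → F) →ₗ[F] (Fin n → F)),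
    by
      rw [← LinearMap.toMatrix'_comp]
      have : (e : (Fin n → F) →ₗ[F] (Fin n → F)) ∘ₗ (e.symm : (Fin n → F) →ₗ[F] (Fin n → F)) =
          LinearMap.id := by
        ext v : 1
        simp
      rw [this, LinearMap.toMatrix'_id],
    by
      rw [← LinearMap.toMatrix'_comp]
      have : (e.symm : (Fin n → F) →ₗ[F] (Fin n → F)) ∘ₗ (e : (Fin n → F) →ₗ[F] (Fin n → F)) =
          LinearMap.id := by
        ext v : 1
        simp
      rw [this, LinearMap.toMatrix'_id]⟩

theorem h29_toLin'_glOfEquiv {F : Type*} [Field F] {n : ℕ}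
    (e : (Fin n → F) ≃ₗ[F] (Fin n → F)) :
    Matrix.toLin' ((h29_glOfEquiv e : GL (Fin n) F) : Matrix (Fin n) (Fin n) F) =
      (e : (Fin n → F) →ₗ[F] (Fin n → F)) := by
  show Matrix.toLin' (LinearMap.toMatrix' (e : (Fin n → F) →ₗ[F] (Fin n → F))) = _
  rw [Matrix.toLin'_toMatrix']

/-- the collected basis of an internal decomposition spans each part -/
theorem h29_span_collected {F V : Type*} [Field F] [AddCommGroup V] [Module F V] {t a : ℕ}
    (D : Fin t → Submodule F V) (hI : DirectSum.IsInternal D)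
    (v : ∀ j, Basis (Fin a) F (D j)) (j : Fin t) :
    Submodule.span F (Set.range fun k : Fin a => hI.collectedBasis v ⟨j, k⟩) = D j := by
  have h1 : (fun k : Fin a => hI.collectedBasis v ⟨j, k⟩) = fun k => ((v j k : D j) : V) := by
    funext k
    exact congrFun (hI.collectedBasis_coe v) ⟨j, k⟩
  rw [h1]
  have h2 : (Set.range fun k : Fin a => ((v j k : D j) : V)) =
      (D j).subtype '' (Set.range (v j)) := by
    ext x
    constructor
    · rintro ⟨k, rfl⟩
      exact ⟨v j k, ⟨k, rfl⟩, rfl⟩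
    · rintro ⟨_, ⟨k, rfl⟩, rfl⟩
      exact ⟨k, rfl⟩
  rw [h2, Submodule.span_image, (v j).span_eq, Submodule.map_top, Submodule.range_subtype]

/-- (GTRANSIT) `GL_n(F)` is transitive on ordered decompositions (bases of the parts). -/
theorem exists_gl_map_decomp {F : Type*} [Field F] (n a t : ℕ)
    (D D' : Fin t → Submodule F (Fin n → F)) (hD : Cfsg.Geo.IsMDecomposition a D)
    (hD' : Cfsg.Geo.IsMDecomposition a D') :
    ∃ g : GL (Fin n) F, ∀ j,
      (D j).map (Matrix.toLin' (g : Matrix (Fin n) (Fin n) F)) = D' j := by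
  classical
  have hI : DirectSum.IsInternal D :=
    DirectSum.isInternal_submodule_of_iSupIndep_of_iSup_eq_top hD.indep hD.iSup_eq_top
  have hI' : DirectSum.IsInternal D' :=
    DirectSum.isInternal_submodule_of_iSupIndep_of_iSup_eq_top hD'.indep hD'.iSup_eq_top
  let v : ∀ j, Basis (Fin a) F (D j) := fun j => Module.finBasisOfFinrankEq F (D j) (hD.finrank_eq j)
  let v' : ∀ j, Basis (Fin a) F (D' j) :=
    fun j => Module.finBasisOfFinrankEq F (D' j) (hD'.finrank_eq j)
  let b := hI.collectedBasis v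
  let b' := hI'.collectedBasis v'
  let e : (Fin n → F) ≃ₗ[F] (Fin n → F) := b.equiv b' (Equiv.refl _)
  refine ⟨h29_glOfEquiv e, fun j => ?_⟩
  rw [h29_toLin'_glOfEquiv, ← h29_span_collected D hI v j, Submodule.map_span,
    ← h29_span_collected D' hI' v' j]
  congr 1
  ext x
  constructor
  · rintro ⟨_, ⟨k, rfl⟩, rfl⟩
    refine ⟨k, ?_⟩
    show b' ⟨j, k⟩ = e (b ⟨j, k⟩)
    rw [Basis.equiv_apply]
    rfl
  · rintro ⟨k, rfl⟩
    refine ⟨b ⟨j, k⟩, ⟨k, rfl⟩, ?_⟩
    show e (b ⟨j, k⟩) = b' ⟨j, k⟩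
    rw [Basis.equiv_apply]
    rfl

end Cfsg.Agent.Helper29.GLI
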