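import Mathlib
import Cfsg.Agent.Lib.Helper14.GLIDefs
import Cfsg.Agent.Lib.Helper29.GLIGTRANSIT

set_option autoImplicit false

/-! # GLI (GORB), for helper14's GLI server (S5958) -/

namespace Cfsg.Agent.Helper29.GLI

open Module Polynomial Cfsg.Agent.Helper14.GLI

/-- an invertible matrix as a linear equivalence -/
noncomputable def h29_glEquiv {F : Type*} [Field F] {n : ℕ} (g : GL (Fin n) F) :
    (Fin n → F) ≃ₗ[F] (Fin n → F) :=
  LinearEquiv.ofLinearMap (Matrix.toLin' (g : Matrix (Fin n) (Fin n) F))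
    (Matrix.toLin' ((g⁻¹ : GL (Fin n) F) : Matrix (Fin n) (Fin n) F))
    (by
      rw [← Matrix.toLin'_mul, ← Units.val_mul, mul_inv_cancel]
      exact Matrix.toLin'_one)
    (by
      rw [← Matrix.toLin'_mul, ← Units.val_mul, inv_mul_cancel]
      exact Matrix.toLin'_one)

/-- `IsMDecomposition` is invariant under `GL_n(F)` -/
theorem h29_isMDecomposition_map {F : Type*} [Field F] {n a t : ℕ}
    {D : Fin t → Submodule F (Fin n → F)} (h1 : Cfsg.Geo.IsMDecomposition a D)
    (g : GL (Fin n) F) :
    Cfsg.Geo.IsMDecomposition a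
      (fun j => (D j).map (Matrix.toLin' (g : Matrix (Fin n) (Fin n) F))) := by
  have hinj : Function.Injective (Matrix.toLin' (g : Matrix (Fin n) (Fin n) F)) :=
    (h29_glEquiv g).injective
  refine ⟨h1.two_le, h1.pos, ?_, ?_, ?_⟩
  · intro i
    rw [← h1.finrank_eq i]
    exact (LinearEquiv.finrank_eq (Submodule.equivMapOfInjective _ hinj (D i))).symm
  · have := h1.indep.map_orderIso (Submodule.orderIsoMapComap (h29_glEquiv g))
    exact this
  · rw [← Submodule.map_iSup, h1.iSup_eq_top, Submodule.map_top, LinearMap.range_eq_top]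
    exact (h29_glEquiv g).surjective

/-- the action of `GL_n(F)` on the ordered decompositions -/
noncomputable instance h29_glAction {F : Type*} [Field F] (n a t : ℕ) :
    MulAction (GL (Fin n) F)
      {D : Fin t → Submodule F (Fin n → F) // Cfsg.Geo.IsMDecomposition a D} where
  smul g D := ⟨fun j => (D.1 j).map (Matrix.toLin' (g : Matrix (Fin n) (Fin n) F)),
    h29_isMDecomposition_map D.2 g⟩
  one_smul D := by
    apply Subtype.ext
    funext j
    show (D.1 j).map (Matrix.toLin' ((1 : GL (Fin n) F) : Matrix (Fin n) (Fin n) F)) = D.1 j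
    rw [Units.val_one, Matrix.toLin'_one]
    exact Submodule.map_id _
  mul_smul g h D := by
    apply Subtype.ext
    funext j
    show (D.1 j).map (Matrix.toLin' ((g * h : GL (Fin n) F) : Matrix (Fin n) (Fin n) F)) =
      ((D.1 j).map (Matrix.toLin' (h : Matrix (Fin n) (Fin n) F))).map
        (Matrix.toLin' (g : Matrix (Fin n) (Fin n) F))
    rw [Units.val_mul, Matrix.toLin'_mul, Submodule.map_comp]

/-- (GORB) orbit-stabiliser with (GTRANSIT) (= SPI (ORB)). -/
theorem gl_card_dvd_card {F : Type*} [Field F] [Fintype F] (n a t : ℕ)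
    (hne : Nonempty {D : Fin t → Submodule F (Fin n → F) // Cfsg.Geo.IsMDecomposition a D}) :
    Nat.card {D : Fin t → Submodule F (Fin n → F) // Cfsg.Geo.IsMDecomposition a D} ∣
      Nat.card (GL (Fin n) F) := by
  obtain ⟨D₀⟩ := hne
  have horb : MulAction.orbit (GL (Fin n) F) D₀ = Set.univ := by
    rw [Set.eq_univ_iff_forall]
    intro D'
    obtain ⟨g, hg⟩ := exists_gl_map_decomp n a t D₀.1 D'.1 D₀.2 D'.2
    refine ⟨g, ?_⟩
    apply Subtype.ext
    funext j
    exact hg j
  have e1 : Nat.card {D : Fin t → Submodule F (Fin n → F) // Cfsg.Geo.IsMDecomposition a D} =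
      Nat.card (MulAction.orbit (GL (Fin n) F) D₀) := by
    rw [horb]
    exact (Nat.card_congr (Equiv.Set.univ _)).symm
  rw [e1, Nat.card_congr (MulAction.orbitEquivQuotientStabilizer _ D₀)]
  exact Subgroup.index_dvd_card _

end Cfsg.Agent.Helper29.GLI
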