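import Mathlib
import Cfsg.Agent.Lib.Helper14.SPIDefs
import Cfsg.Agent.S0752

set_option autoImplicit false

/-! # SPI (EVEN), for helper14's SPI server (S5961) -/

namespace Cfsg.Agent.Helper29.SPI

open Module Polynomial Cfsg.Agent.Helper14.SPI

/-- (EVEN) a subspace on which an alternating form is nondegenerate has even dimension
(S0752.result applied to `B.restrict W`). -/
theorem even_finrank_of_nondegOn {F V : Type*} [Field F] [AddCommGroup V] [Module F V]
    [FiniteDimensional F V] (B : LinearMap.BilinForm F V) (hB : B.IsAlt)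
    (W : Submodule F V) (hW : NondegOn B W) : Even (finrank F W) := by
  have hA : (B.restrict W).IsAlt := fun u => by
    rw [LinearMap.BilinForm.restrict_apply]; exact hB u
  obtain ⟨m, k, b, -, -, -, h4⟩ := Cfsg.Agent.S0752.result (B.restrict W) hA
  have hk : k = 0 := by
    by_contra hk
    have j : Fin k := ⟨0, Nat.pos_of_ne_zero hk⟩
    have hne : b (Sum.inr j) ≠ 0 := b.ne_zero _
    obtain ⟨v, hv, hBv⟩ := hW (b (Sum.inr j) : V) (b (Sum.inr j)).2
      (fun h0 => hne (Subtype.ext h0))
    apply hBv
    have := h4 j ⟨v, hv⟩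
    rwa [LinearMap.BilinForm.restrict_apply] at this
  rw [Module.finrank_eq_card_basis b]
  subst hk
  simp only [Fintype.card_sum, Fintype.card_fin, add_zero]
  exact ⟨m, rfl⟩

end Cfsg.Agent.Helper29.SPI
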