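import Mathlib
import Cfsg.Agent.Lib.Helper14.SPIDefs
import Cfsg.Agent.Lib.Helper29.SPIEVEN

set_option autoImplicit false

/-! # SPI (CDVD) (with a private copy of (CNT)), for helper14's SPI server (S5961) -/

namespace Cfsg.Agent.Helper29.SPI

open Module Polynomial Cfsg.Agent.Helper14.SPI

/-- private copy of (CNT): `⟨x⟩` acts freely on `W \ {0}`, so `r ∣ q ^ dim W - 1`. -/
theorem h29_order_dvd_finrank {F V : Type*} [Field F] [Fintype F] [AddCommGroup V] [Module F V]
    [FiniteDimensional F V] (x : V →ₗ[F] V) (r : ℕ) [Fact r.Prime]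
    (hrq : ¬ r ∣ Fintype.card F) (hxr : x ^ r = 1)
    (W : Submodule F V) (hWx : W.map x ≤ W) (hfpf : ∀ v ∈ W, x v = v → v = 0) :
    orderOf ((Fintype.card F : ℕ) : ZMod r) ∣ finrank F W := by
  classical
  haveI : Finite V := Module.finite_of_finite F
  haveI : Fintype W := Fintype.ofFinite W
  let f : Function.End W := fun w => ⟨x w, hWx (Submodule.mem_map_of_mem w.2)⟩
  have hfpow : ∀ (n : ℕ) (w : W), (((f ^ n) w : W) : V) = (x ^ n) w := by
    intro n
    induction n with
    | zero => intro w; rfl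
    | succ n ih =>
      intro w
      rw [pow_succ, pow_succ, Module.End.mul_apply]
      exact ih (f w)
  have hf : f ^ r ^ 1 = 1 := by
    rw [pow_one]
    funext w
    apply Subtype.ext
    rw [hfpow, hxr]
    rfl
  have hmod := Equiv.Perm.card_fixedPoints_modEq (p := r) (n := 1) hf
  have hfix : Fintype.card (Function.fixedPoints f) = 1 := by
    rw [Fintype.card_eq_one_iff]
    refine ⟨⟨0, ?_⟩, ?_⟩
    · show f 0 = 0
      apply Subtype.ext
      show x ((0 : W) : V) = ((0 : W) : V)
      simp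
    · rintro ⟨w, hw⟩
      apply Subtype.ext
      apply Subtype.ext
      have hw' : x (w : V) = (w : V) := congrArg Subtype.val hw
      simpa using hfpf (w : V) w.2 hw'
  rw [hfix] at hmod
  have hcard : Fintype.card W = Fintype.card F ^ finrank F W := by
    rw [Fintype.card_eq_nat_card, Module.natCard_eq_pow_finrank (K := F) (V := W),
      Fintype.card_eq_nat_card]
  rw [hcard] at hmod
  rw [orderOf_dvd_iff_pow_eq_one]
  have := (ZMod.natCast_eq_natCast_iff _ _ r).2 hmod
  simpa using this

/-- (CDVD) from (CNT) + (EVEN): `c ∣ dim W`. -/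
theorem c_dvd_finrank {F V : Type*} [Field F] [Fintype F] [AddCommGroup V] [Module F V]
    [FiniteDimensional F V] (B : LinearMap.BilinForm F V) (hB : B.IsAlt)
    (x : V →ₗ[F] V) (r : ℕ) [Fact r.Prime]
    (hrq : ¬ r ∣ Fintype.card F) (hxr : x ^ r = 1)
    (W : Submodule F V) (hWx : W.map x ≤ W) (hW : NondegOn B W)
    (hfpf : ∀ v ∈ W, x v = v → v = 0) :
    cOf (Fintype.card F) r ∣ finrank F W := by
  have h1 := h29_order_dvd_finrank x r hrq hxr W hWx hfpf
  have h2 : 2 ∣ finrank F W := (even_finrank_of_nondegOn B hB W hW).two_dvd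
  unfold cOf
  split_ifs with he
  · exact h1
  · have hodd : Odd (orderOf ((Fintype.card F : ℕ) : ZMod r)) := Nat.not_even_iff_odd.1 he
    exact Nat.Coprime.mul_dvd_of_dvd_of_dvd (Nat.coprime_two_left.2 hodd) h2 h1

end Cfsg.Agent.Helper29.SPI
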