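import Mathlib
import Cfsg.Agent.Lib.Helper14.SPIDefs

set_option autoImplicit false

/-! # SPI (FREE), for helper14's SPI server (S5961) -/

namespace Cfsg.Agent.Helper29.SPI

open Module Polynomial Cfsg.Agent.Helper14.SPI

/-- `OmegaProp` is invariant under reindexing by a permutation -/
theorem h29_omegaProp_comp {F : Type*} [Field F] {d a t : ℕ}
    {D : Fin t → Submodule F (Fin d ⊕ Fin d → F)} (h : OmegaProp d a D) (e : Equiv.Perm (Fin t)) :
    OmegaProp d a (fun j => D (e j)) := by
  obtain ⟨h1, h2, h3⟩ := h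
  refine ⟨⟨h1.two_le, h1.pos, fun i => h1.finrank_eq (e i), ?_, ?_⟩, fun j => h2 (e j), ?_⟩
  · exact h1.indep.comp e.injective
  · rw [← h1.iSup_eq_top]
    exact e.iSup_comp (g := D)
  · intro j j' hjj'
    exact h3 (e j) (e j') (fun h => hjj' (e.injective h))

/-- members of `OmegaProp` are injective families -/
theorem h29_omegaProp_injective {F : Type*} [Field F] {d a t : ℕ}
    {D : Fin t → Submodule F (Fin d ⊕ Fin d → F)} (h : OmegaProp d a D) : Function.Injective D := by
  apply h.1.indep.injective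
  intro i hi
  have := h.1.finrank_eq i
  rw [hi, finrank_bot] at this
  exact absurd this.symm (Nat.pos_iff_ne_zero.1 h.1.pos)

/-- the action of `S_t` on the ordered decompositions -/
noncomputable instance h29_permAction {F : Type*} [Field F] (d a t : ℕ) :
    MulAction (Equiv.Perm (Fin t))
      {D : Fin t → Submodule F (Fin d ⊕ Fin d → F) // OmegaProp d a D} where
  smul σ D := ⟨fun j => D.1 (σ⁻¹ j), h29_omegaProp_comp D.2 σ⁻¹⟩
  one_smul D := by
    apply Subtype.ext
    funext j
    show D.1 ((1 : Equiv.Perm (Fin t))⁻¹ j) = D.1 j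
    simp
  mul_smul σ τ D := by
    apply Subtype.ext
    funext j
    show D.1 ((σ * τ)⁻¹ j) = D.1 (τ⁻¹ (σ⁻¹ j))
    simp [mul_inv_rev]

/-- (FREE) `S_t` acts freely on the ordered decompositions (`D` is injective). -/
theorem factorial_dvd_card {F : Type*} [Field F] [Fintype F] (d a t : ℕ) :
    t.factorial ∣ Nat.card {D : Fin t → Submodule F (Fin d ⊕ Fin d → F) // OmegaProp d a D} := by
  have hfree : ∀ b : {D : Fin t → Submodule F (Fin d ⊕ Fin d → F) // OmegaProp d a D},
      MulAction.stabilizer (Equiv.Perm (Fin t)) b = ⊥ := by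
    intro b
    rw [eq_bot_iff]
    intro σ hσ
    rw [MulAction.mem_stabilizer_iff] at hσ
    rw [Subgroup.mem_bot]
    have h1 : ∀ j, b.1 (σ⁻¹ j) = b.1 j := fun j => congrFun (congrArg Subtype.val hσ) j
    have h2 : ∀ j, σ⁻¹ j = j := fun j => h29_omegaProp_injective b.2 (h1 j)
    have h3 : σ⁻¹ = 1 := Equiv.ext h2
    exact inv_eq_one.1 h3
  have e := MulAction.selfEquivOrbitsQuotientProd hfree
  rw [Nat.card_congr e, Nat.card_prod]
  have : Nat.card (Equiv.Perm (Fin t)) = t.factorial := by
    rw [Nat.card_eq_fintype_card, Fintype.card_perm, Fintype.card_fin]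
  rw [this]
  exact Dvd.intro_left _ rfl

end Cfsg.Agent.Helper29.SPI
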