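import Mathlib
import Cfsg.Agent.Lib.Helper14.SPIDefs
import Cfsg.Agent.Lib.Helper13.Symp
import Cfsg.Agent.Lib.Helper42.SPITRANSIT

set_option autoImplicit false

/-! # SPI (ORB), for helper14's SPI server (S5961) -/

namespace Cfsg.Agent.Helper29.SPI

open Module Polynomial Cfsg.Agent.Helper14.SPI

/-- a symplectic matrix as a linear equivalence -/
noncomputable def h29_spEquiv {F : Type*} [Field F] {d : ℕ} (g : Matrix.symplecticGroup (Fin d) F) :
    (Fin d ⊕ Fin d → F) ≃ₗ[F] (Fin d ⊕ Fin d → F) :=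
  LinearEquiv.ofLinearMap (Matrix.toLin' g.1) (Matrix.toLin' (g⁻¹).1)
    (by
      rw [← Matrix.toLin'_mul, ← Submonoid.coe_mul, mul_inv_cancel]
      exact Matrix.toLin'_one)
    (by
      rw [← Matrix.toLin'_mul, ← Submonoid.coe_mul, inv_mul_cancel]
      exact Matrix.toLin'_one)

theorem h29_spEquiv_coe {F : Type*} [Field F] {d : ℕ} (g : Matrix.symplecticGroup (Fin d) F) :
    ((h29_spEquiv g : (Fin d ⊕ Fin d → F) ≃ₗ[F] (Fin d ⊕ Fin d → F)) :
      (Fin d ⊕ Fin d → F) →ₗ[F] (Fin d ⊕ Fin d → F)) = Matrix.toLin' g.1 := rfl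

/-- `OmegaProp` is invariant under the symplectic group -/
theorem h29_omegaProp_map {F : Type*} [Field F] {d a t : ℕ}
    {D : Fin t → Submodule F (Fin d ⊕ Fin d → F)} (h : OmegaProp d a D)
    (g : Matrix.symplecticGroup (Fin d) F) :
    OmegaProp d a (fun j => (D j).map (Matrix.toLin' (g : Matrix (Fin d ⊕ Fin d) (Fin d ⊕ Fin d) F))) := by
  obtain ⟨h1, h2, h3⟩ := h
  have hform : ∀ u v : Fin d ⊕ Fin d → F,
      Cfsg.sympForm d F (Matrix.toLin' g.1 u) (Matrix.toLin' g.1 v) = Cfsg.sympForm d F u v := by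
    intro u v
    rw [Matrix.toLin'_apply, Matrix.toLin'_apply]
    exact Cfsg.Agent.Helper13.sympForm_mulVec g.2 u v
  have hinj : Function.Injective (Matrix.toLin' g.1) := (h29_spEquiv g).injective
  refine ⟨⟨h1.two_le, h1.pos, ?_, ?_, ?_⟩, ?_, ?_⟩
  · intro i
    rw [← h1.finrank_eq i]
    exact (LinearEquiv.finrank_eq (Submodule.equivMapOfInjective _ hinj (D i))).symm
  · have := h1.indep.map_orderIso (Submodule.orderIsoMapComap (h29_spEquiv g))
    exact this
  · rw [← Submodule.map_iSup, h1.iSup_eq_top, Submodule.map_top, LinearMap.range_eq_top]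
    exact (h29_spEquiv g).surjective
  · intro j u hu hu0
    obtain ⟨u0, hu0D, rfl⟩ := (Submodule.mem_map).1 hu
    have hne : u0 ≠ 0 := by
      rintro rfl
      exact hu0 (map_zero _)
    obtain ⟨v0, hv0, hv⟩ := h2 j u0 hu0D hne
    exact ⟨_, Submodule.mem_map_of_mem hv0, by rwa [hform]⟩
  · intro j j' hjj' u hu v hv
    obtain ⟨u0, hu0D, rfl⟩ := (Submodule.mem_map).1 hu
    obtain ⟨v0, hv0D, rfl⟩ := (Submodule.mem_map).1 hv
    rw [hform]
    exact h3 j j' hjj' u0 hu0D v0 hv0D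

/-- the action of `Sp_2d(F)` on the ordered decompositions -/
noncomputable instance h29_spAction {F : Type*} [Field F] (d a t : ℕ) :
    MulAction (Matrix.symplecticGroup (Fin d) F)
      {D : Fin t → Submodule F (Fin d ⊕ Fin d → F) // OmegaProp d a D} where
  smul g D := ⟨fun j => (D.1 j).map (Matrix.toLin' (g : Matrix (Fin d ⊕ Fin d) (Fin d ⊕ Fin d) F)),
    h29_omegaProp_map D.2 g⟩
  one_smul D := by
    apply Subtype.ext
    funext j
    show (D.1 j).map (Matrix.toLin' ((1 : Matrix.symplecticGroup (Fin d) F) :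
      Matrix (Fin d ⊕ Fin d) (Fin d ⊕ Fin d) F)) = D.1 j
    rw [show ((1 : Matrix.symplecticGroup (Fin d) F) : Matrix (Fin d ⊕ Fin d) (Fin d ⊕ Fin d) F) = 1
      from rfl, Matrix.toLin'_one]
    exact Submodule.map_id _
  mul_smul g h D := by
    apply Subtype.ext
    funext j
    show (D.1 j).map (Matrix.toLin' ((g * h : Matrix.symplecticGroup (Fin d) F) :
      Matrix (Fin d ⊕ Fin d) (Fin d ⊕ Fin d) F)) =
      ((D.1 j).map (Matrix.toLin' (h : Matrix (Fin d ⊕ Fin d) (Fin d ⊕ Fin d) F))).map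
        (Matrix.toLin' (g : Matrix (Fin d ⊕ Fin d) (Fin d ⊕ Fin d) F))
    rw [show ((g * h : Matrix.symplecticGroup (Fin d) F) :
      Matrix (Fin d ⊕ Fin d) (Fin d ⊕ Fin d) F) = g.1 * h.1 from rfl, Matrix.toLin'_mul,
      Submodule.map_comp]

/-- (ORB) orbit-stabiliser with (TRANSIT). -/
theorem card_dvd_card_sp {F : Type*} [Field F] [Fintype F] (d a t : ℕ)
    (hne : Nonempty {D : Fin t → Submodule F (Fin d ⊕ Fin d → F) // OmegaProp d a D}) :
    Nat.card {D : Fin t → Submodule F (Fin d ⊕ Fin d → F) // OmegaProp d a D} ∣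
      Nat.card (Matrix.symplecticGroup (Fin d) F) := by
  obtain ⟨D₀⟩ := hne
  have horb : MulAction.orbit (Matrix.symplecticGroup (Fin d) F) D₀ = Set.univ := by
    rw [Set.eq_univ_iff_forall]
    intro D'
    obtain ⟨g, hg⟩ := Cfsg.Agent.Helper42.SPI.exists_sp_map_decomp d a t D₀.1 D'.1 D₀.2 D'.2
    refine ⟨g, ?_⟩
    apply Subtype.ext
    funext j
    exact hg j
  have e1 : Nat.card {D : Fin t → Submodule F (Fin d ⊕ Fin d → F) // OmegaProp d a D} =
      Nat.card (MulAction.orbit (Matrix.symplecticGroup (Fin d) F) D₀) := by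
    rw [horb]
    exact (Nat.card_congr (Equiv.Set.univ _)).symm
  rw [e1, Nat.card_congr (MulAction.orbitEquivQuotientStabilizer _ D₀)]
  exact Subgroup.index_dvd_card _

end Cfsg.Agent.Helper29.SPI
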