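import Mathlib
import Cfsg.Agent.Lib.Helper63.PGroup

/-!
# A `p`-element acting on an elementary abelian group of order `p ^ 2` (helper29)

If `x` normalizes but does not centralize `A ≅ E_{p²}` and lies with `A` in a `p`-group, then `x` acts
as a transvection: it centralizes a unique subgroup `Z₀` of order `p` of `A`, and the powers of `x`
permute the other `p` subgroups of order `p` transitively.
-/

set_option autoImplicit false

namespace Cfsg.Agent.Helper29.BG127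

open Subgroup

variable {G : Type*} [Group G]

/-- the map `a ↦ x a x⁻¹ a⁻¹` on an abelian subgroup `A` normalized by `x`, as a hom `A →* A`. -/
def commHom (A : Subgroup G) (hAc : ∀ a ∈ A, ∀ b ∈ A, a * b = b * a) (x : G)
    (hx : ∀ a ∈ A, x * a * x⁻¹ ∈ A) : A →* A where
  toFun a := ⟨x * a * x⁻¹ * a⁻¹, A.mul_mem (hx a a.2) (A.inv_mem a.2)⟩
  map_one' := by ext; simp
  map_mul' a b := by
    ext
    have h := hAc _ (A.inv_mem a.2) _ (A.mul_mem (hx b b.2) (A.inv_mem b.2))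
    show x * ((a : G) * b) * x⁻¹ * ((a : G) * b)⁻¹ = x * a * x⁻¹ * (a : G)⁻¹ * (x * b * x⁻¹ * (b : G)⁻¹)
    calc x * ((a : G) * b) * x⁻¹ * ((a : G) * b)⁻¹
        = x * a * x⁻¹ * ((x * b * x⁻¹ * (b : G)⁻¹) * (a : G)⁻¹) := by group
      _ = x * a * x⁻¹ * ((a : G)⁻¹ * (x * b * x⁻¹ * (b : G)⁻¹)) := by rw [h]
      _ = x * a * x⁻¹ * (a : G)⁻¹ * (x * b * x⁻¹ * (b : G)⁻¹) := by group

theorem commHom_coe (A : Subgroup G) (hAc : ∀ a ∈ A, ∀ b ∈ A, a * b = b * a) (x : G)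
    (hx : ∀ a ∈ A, x * a * x⁻¹ ∈ A) (a : A) :
    ((commHom A hAc x hx a : A) : G) = x * a * x⁻¹ * (a : G)⁻¹ := rfl

/-- a subgroup of prime order is generated by any of its non-identity elements (ℕ-powers). -/
theorem exists_pow_eq_of_card_prime [Finite G] {p : ℕ} [hp : Fact p.Prime] {Z : Subgroup G}
    (hZ : Nat.card Z = p) {c d : G} (hc : c ∈ Z) (hc1 : c ≠ 1) (hd : d ∈ Z) :
    ∃ n : ℕ, c ^ n = d := by
  have h1 : (⟨c, hc⟩ : Z) ≠ 1 := fun h => hc1 (congrArg Subtype.val h)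
  have h2 : (⟨d, hd⟩ : Z) ∈ Submonoid.powers (⟨c, hc⟩ : Z) := mem_powers_of_prime_card hZ h1
  obtain ⟨n, hn⟩ := (Submonoid.mem_powers_iff _ _).mp h2
  exact ⟨n, by simpa using congrArg Subtype.val hn⟩

theorem le_of_card_prime_of_mem [Finite G] {p : ℕ} [hp : Fact p.Prime] {X H : Subgroup G}
    (hX : Nat.card X = p) {a : G} (ha : a ∈ X) (ha1 : a ≠ 1) (haH : a ∈ H) : X ≤ H := by
  intro y hy
  obtain ⟨n, hn⟩ := exists_pow_eq_of_card_prime hX ha ha1 hy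
  rw [← hn]
  exact H.pow_mem haH n

theorem exists_ne_one_of_card_prime {p : ℕ} [hp : Fact p.Prime] {X : Subgroup G}
    (hX : Nat.card X = p) : ∃ a ∈ X, a ≠ 1 := by
  by_contra h
  push Not at h
  have : X = ⊥ := (Subgroup.eq_bot_iff_forall X).mpr h
  rw [this, Subgroup.card_bot] at hX
  exact hp.out.one_lt.ne hX

theorem card_map_conj (g : G) (Y : Subgroup G) :
    Nat.card (Y.map (MulAut.conj g).toMonoidHom) = Nat.card Y :=
  Subgroup.card_map_of_injective (MulAut.conj g).injective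

/-- **Transvection lemma.** -/
theorem transvection [Finite G] {p : ℕ} [hp : Fact p.Prime]
    (A : Subgroup G) (hAc : ∀ a ∈ A, ∀ b ∈ A, a * b = b * a) (hAcard : Nat.card A = p ^ 2)
    (x : G) (hx : ∀ a ∈ A, x * a * x⁻¹ ∈ A)
    (T : Subgroup G) (hT : IsPGroup p T) (hxT : x ∈ T) (hAT : A ≤ T)
    (z : G) (hzA : z ∈ A) (hz1 : z ≠ 1) (hzx : x * z * x⁻¹ = z)
    (hxC : ∃ a ∈ A, x * a * x⁻¹ ≠ a) :
    ∃ Z₀ : Subgroup G, Z₀ ≤ A ∧ Nat.card Z₀ = p ∧ (∀ w ∈ Z₀, x * w * x⁻¹ = w) ∧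
      (∀ w ∈ A, x * w * x⁻¹ = w → w ∈ Z₀) ∧
      ∀ X Y : Subgroup G, X ≤ A → Y ≤ A → Nat.card X = p → Nat.card Y = p → X ≠ Z₀ → Y ≠ Z₀ →
        ∃ i : ℕ, X = Y.map (MulAut.conj (x ^ i)).toMonoidHom := by
  classical
  set φ := commHom A hAc x hx with hφ
  -- kernel
  have hkermem : ∀ a : A, a ∈ φ.ker ↔ x * a * x⁻¹ = (a : G) := by
    intro a
    rw [MonoidHom.mem_ker]
    constructor
    · intro h
      have h1 : x * a * x⁻¹ * (a : G)⁻¹ = 1 := by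
        have := congrArg Subtype.val h
        simpa [hφ, commHom_coe] using this
      exact mul_inv_eq_one.mp h1
    · intro h
      apply Subtype.ext
      show x * a * x⁻¹ * (a : G)⁻¹ = 1
      rw [h]; simp
  have hker_ne_bot : φ.ker ≠ ⊥ := by
    intro h
    have : (⟨z, hzA⟩ : A) ∈ φ.ker := (hkermem _).mpr hzx
    rw [h, Subgroup.mem_bot] at this
    exact hz1 (congrArg Subtype.val this)
  have hker_ne_top : φ.ker ≠ ⊤ := by
    intro h
    obtain ⟨a, ha, hne⟩ := hxC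
    have : (⟨a, ha⟩ : A) ∈ φ.ker := by rw [h]; trivial
    exact hne ((hkermem _).mp this)
  have hmul : Nat.card φ.ker * Nat.card φ.range = p ^ 2 := by
    rw [← Subgroup.index_ker, Subgroup.card_mul_index, hAcard]
  have hkcard : Nat.card φ.ker = p := by
    have hdvd : Nat.card φ.ker ∣ p ^ 2 := Dvd.intro _ hmul
    obtain ⟨k, hk2, hk⟩ := (Nat.dvd_prime_pow hp.out).mp hdvd
    have hk0 : k ≠ 0 := by
      rintro rfl
      rw [pow_zero] at hk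
      exact hker_ne_bot (Subgroup.card_eq_one.mp hk)
    have hk2' : k ≠ 2 := by
      rintro rfl
      apply hker_ne_top
      apply (Subgroup.card_eq_iff_eq_top _).mp
      rw [hk, hAcard]
    have : k = 1 := by omega
    rw [hk, this, pow_one]
  have hrcard : Nat.card φ.range = p := by
    rw [hkcard] at hmul
    have hp0 : 0 < p := hp.out.pos
    have : p * Nat.card φ.range = p * p := by rw [hmul]; ring
    exact Nat.eq_of_mul_eq_mul_left hp0 this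
  -- the subgroups of `G`
  set Z₀ : Subgroup G := φ.ker.map A.subtype with hZ₀
  set W : Subgroup G := φ.range.map A.subtype with hW
  have hZ₀card : Nat.card Z₀ = p := by
    rw [hZ₀, Subgroup.card_map_of_injective A.subtype_injective, hkcard]
  have hWcard : Nat.card W = p := by
    rw [hW, Subgroup.card_map_of_injective A.subtype_injective, hrcard]
  have hZ₀A : Z₀ ≤ A := by
    rw [hZ₀]; exact Subgroup.map_subtype_le _
  have hWA : W ≤ A := by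
    rw [hW]; exact Subgroup.map_subtype_le _
  have hZ₀mem : ∀ w : G, w ∈ Z₀ ↔ w ∈ A ∧ x * w * x⁻¹ = w := by
    intro w
    rw [hZ₀, Subgroup.mem_map]
    constructor
    · rintro ⟨a, ha, rfl⟩
      exact ⟨a.2, (hkermem a).mp ha⟩
    · rintro ⟨hwA, hw⟩
      exact ⟨⟨w, hwA⟩, (hkermem _).mpr hw, rfl⟩
  have hWmem : ∀ a ∈ A, x * a * x⁻¹ * a⁻¹ ∈ W := by
    intro a ha
    rw [hW, Subgroup.mem_map]
    exact ⟨φ ⟨a, ha⟩, ⟨⟨a, ha⟩, rfl⟩, rfl⟩
  have hWmem' : ∀ w ∈ W, ∃ a ∈ A, w = x * a * x⁻¹ * a⁻¹ := by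
    intro w hw
    rw [hW, Subgroup.mem_map] at hw
    obtain ⟨b, ⟨a, rfl⟩, rfl⟩ := hw
    exact ⟨a, a.2, rfl⟩
  -- `x` normalizes `W`
  have hxW : ∀ w ∈ W, x * w * x⁻¹ ∈ W := by
    intro w hw
    obtain ⟨a, ha, rfl⟩ := hWmem' w hw
    have := hWmem (x * a * x⁻¹) (hx a ha)
    have heq : x * (x * a * x⁻¹ * a⁻¹) * x⁻¹ = x * (x * a * x⁻¹) * x⁻¹ * (x * a * x⁻¹)⁻¹ := by group
    rw [heq]; exact this
  -- `x` centralizes `W`
  have hxWc : ∀ w ∈ W, x * w * x⁻¹ = w := by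
    set T₁ : Subgroup G := W ⊔ Subgroup.zpowers x with hT₁
    have hT₁T : T₁ ≤ T := sup_le (hWA.trans hAT) (by rw [Subgroup.zpowers_le]; exact hxT)
    have hT₁p : IsPGroup p T₁ := hT.to_le hT₁T
    have hxn : x ∈ Subgroup.normalizer (W : Set G) := Subgroup.mem_normalizer_fintype hxW
    have hT₁n : T₁ ≤ Subgroup.normalizer (W : Set G) :=
      sup_le Subgroup.le_normalizer (by rw [Subgroup.zpowers_le]; exact hxn)
    have hWT₁ : W ≤ T₁ := le_sup_left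
    haveI : (W.subgroupOf T₁).Normal :=
      (Subgroup.normal_subgroupOf_iff_le_normalizer hWT₁).mpr hT₁n
    have hc1 : Nat.card (W.subgroupOf T₁) = p := by
      rw [← hWcard]
      exact Nat.card_congr (Subgroup.subgroupOfEquivOfLe hWT₁).toEquiv
    have hcen := Cfsg.Agent.Helper63.normal_card_prime_le_center hT₁p (W.subgroupOf T₁) hc1
    intro w hw
    have hxT₁ : x ∈ T₁ := (le_sup_right : Subgroup.zpowers x ≤ T₁) (Subgroup.mem_zpowers x)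
    have hw' : (⟨w, hWT₁ hw⟩ : T₁) ∈ W.subgroupOf T₁ := by
      rw [Subgroup.mem_subgroupOf]; exact hw
    have h1 := Subgroup.mem_center_iff.mp (hcen hw') ⟨x, hxT₁⟩
    have h2 : x * w = w * x := congrArg Subtype.val h1
    rw [h2]; group
  have hWZ : W = Z₀ := by
    apply Subgroup.eq_of_le_of_card_ge
    · intro w hw
      exact (hZ₀mem w).mpr ⟨hWA hw, hxWc w hw⟩
    · rw [hWcard, hZ₀card]
  -- notation `c a = x a x⁻¹ a⁻¹`
  have hc_mem : ∀ a ∈ A, x * a * x⁻¹ * a⁻¹ ∈ Z₀ := fun a ha => hWZ ▸ hWmem a ha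
  have hc_fix : ∀ a ∈ A, x * (x * a * x⁻¹ * a⁻¹) * x⁻¹ = x * a * x⁻¹ * a⁻¹ := fun a ha =>
    ((hZ₀mem _).mp (hc_mem a ha)).2
  have hc_one : ∀ a ∈ A, x * a * x⁻¹ * a⁻¹ = 1 → a ∈ Z₀ := by
    intro a ha h
    exact (hZ₀mem a).mpr ⟨ha, mul_inv_eq_one.mp h⟩
  have hc_pow : ∀ a ∈ A, ∀ m : ℕ, x * a ^ m * x⁻¹ * (a ^ m)⁻¹ = (x * a * x⁻¹ * a⁻¹) ^ m := by
    intro a ha m
    have h1 : φ (⟨a, ha⟩ ^ m) = (φ ⟨a, ha⟩) ^ m := map_pow φ _ m
    have h2 := congrArg Subtype.val h1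
    simpa [hφ, commHom_coe] using h2
  have hc_mul : ∀ a ∈ A, ∀ b ∈ A, x * (a * b) * x⁻¹ * (a * b)⁻¹
      = (x * a * x⁻¹ * a⁻¹) * (x * b * x⁻¹ * b⁻¹) := by
    intro a ha b hb
    have h1 : φ (⟨a, ha⟩ * ⟨b, hb⟩) = φ ⟨a, ha⟩ * φ ⟨b, hb⟩ := map_mul φ _ _
    have h2 := congrArg Subtype.val h1
    simpa [hφ, commHom_coe] using h2
  -- conjugation by powers of `x`
  have hconj : ∀ a ∈ A, ∀ n : ℕ, x ^ n * a * (x ^ n)⁻¹ = a * (x * a * x⁻¹ * a⁻¹) ^ n := by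
    intro a ha n
    induction n with
    | zero => simp
    | succ n ih =>
      have hcA : x * a * x⁻¹ * a⁻¹ ∈ A := hZ₀A (hc_mem a ha)
      have hcomm : (x * a * x⁻¹ * a⁻¹) * a = a * (x * a * x⁻¹ * a⁻¹) := hAc _ hcA _ ha
      have hfixn : x * (x * a * x⁻¹ * a⁻¹) ^ n * x⁻¹ = (x * a * x⁻¹ * a⁻¹) ^ n := by
        have := hc_fix a ha
        calc x * (x * a * x⁻¹ * a⁻¹) ^ n * x⁻¹ = (x * (x * a * x⁻¹ * a⁻¹) * x⁻¹) ^ n := by
              rw [conj_pow]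
          _ = _ := by rw [this]
      calc x ^ (n + 1) * a * (x ^ (n + 1))⁻¹ = x * (x ^ n * a * (x ^ n)⁻¹) * x⁻¹ := by
            rw [pow_succ']; group
        _ = x * (a * (x * a * x⁻¹ * a⁻¹) ^ n) * x⁻¹ := by rw [ih]
        _ = (x * a * x⁻¹) * (x * (x * a * x⁻¹ * a⁻¹) ^ n * x⁻¹) := by group
        _ = (x * a * x⁻¹) * (x * a * x⁻¹ * a⁻¹) ^ n := by rw [hfixn]
        _ = ((x * a * x⁻¹ * a⁻¹) * a) * (x * a * x⁻¹ * a⁻¹) ^ n := by group
        _ = (a * (x * a * x⁻¹ * a⁻¹)) * (x * a * x⁻¹ * a⁻¹) ^ n := by rw [hcomm]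
        _ = a * (x * a * x⁻¹ * a⁻¹) ^ (n + 1) := by rw [pow_succ', mul_assoc]
  refine ⟨Z₀, hZ₀A, hZ₀card, fun w hw => ((hZ₀mem w).mp hw).2,
    fun w hwA hw => (hZ₀mem w).mpr ⟨hwA, hw⟩, ?_⟩
  intro X Y hXA hYA hXc hYc hXZ hYZ
  obtain ⟨a, haX, ha1⟩ := exists_ne_one_of_card_prime hXc
  obtain ⟨b, hbY, hb1⟩ := exists_ne_one_of_card_prime hYc
  have haA : a ∈ A := hXA haX
  have hbA : b ∈ A := hYA hbY
  have haZ : a ∉ Z₀ := by
    intro h
    apply hXZ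
    exact Subgroup.eq_of_le_of_card_ge (le_of_card_prime_of_mem hXc haX ha1 h) (by rw [hXc, hZ₀card])
  have hbZ : b ∉ Z₀ := by
    intro h
    apply hYZ
    exact Subgroup.eq_of_le_of_card_ge (le_of_card_prime_of_mem hYc hbY hb1 h) (by rw [hYc, hZ₀card])
  have hcb1 : x * b * x⁻¹ * b⁻¹ ≠ 1 := fun h => hbZ (hc_one b hbA h)
  obtain ⟨m, hm⟩ := exists_pow_eq_of_card_prime hZ₀card (hc_mem b hbA) hcb1 (hc_mem a haA)
  -- `d = a (b^m)⁻¹ ∈ Z₀`
  have hbmA : b ^ m ∈ A := A.pow_mem hbA m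
  have hd : a * (b ^ m)⁻¹ ∈ Z₀ := by
    apply hc_one _ (A.mul_mem haA (A.inv_mem hbmA))
    rw [hc_mul a haA _ (A.inv_mem hbmA)]
    have h1 : x * (b ^ m)⁻¹ * x⁻¹ * ((b ^ m)⁻¹)⁻¹ = ((x * b * x⁻¹ * b⁻¹) ^ m)⁻¹ := by
      have h2 := hc_pow b hbA m
      -- c(g⁻¹) = c(g)⁻¹ in the abelian group
      have h3 := hc_mul (b ^ m) hbmA (b ^ m)⁻¹ (A.inv_mem hbmA)
      rw [mul_inv_cancel] at h3
      have h4 : x * 1 * x⁻¹ * (1 : G)⁻¹ = 1 := by group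
      rw [h4, h2] at h3
      exact (eq_inv_of_mul_eq_one_right h3.symm)
    rw [h1, hm]
    exact mul_inv_cancel _
  have hbmZ : b ^ m ∉ Z₀ := by
    intro h
    apply haZ
    have : a = (a * (b ^ m)⁻¹) * b ^ m := by group
    rw [this]
    exact Z₀.mul_mem hd h
  have hcbm1 : x * b ^ m * x⁻¹ * (b ^ m)⁻¹ ≠ 1 := fun h => hbmZ (hc_one _ hbmA h)
  obtain ⟨n, hn⟩ := exists_pow_eq_of_card_prime hZ₀card (hc_mem _ hbmA) hcbm1 hd
  have hfinal : x ^ n * b ^ m * (x ^ n)⁻¹ = a := by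
    rw [hconj _ hbmA n, hn]
    have hcomm := hAc _ hbmA _ (A.mul_mem haA (A.inv_mem hbmA))
    rw [hcomm]; group
  refine ⟨n, ?_⟩
  apply Subgroup.eq_of_le_of_card_ge
  · apply le_of_card_prime_of_mem hXc haX ha1
    rw [Subgroup.mem_map]
    refine ⟨b ^ m, Y.pow_mem hbY m, ?_⟩
    rw [MulEquiv.coe_toMonoidHom, MulAut.conj_apply]
    exact hfinal
  · rw [card_map_conj, hXc, hYc]

end Cfsg.Agent.Helper29.BG127
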