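import Mathlib
import Cfsg.Prelude.Def_OddOrderLocal
import Cfsg.Agent.Lib.Helper29.BG12
import Cfsg.Agent.Lib.Helper29.BG127a
import Cfsg.Agent.Lib.Helper29.CoprimeGen
import Cfsg.Agent.Lib.Helper79.BG10.Conj
import Cfsg.Agent.Lib.Helper34.BG10a
import Cfsg.Agent.Lib.Helper96.BGU

/-!
# B-G Theorem 12.7, first part: the lines of `A` (helper29)
-/

set_option autoImplicit false

namespace Cfsg.Agent.Helper29.BG127

open Subgroup Cfsg
open Cfsg.Agent.Helper79.BG10 (cj mem_cj conj_mem_cj cj_mono cj_le_iff cj_inv_cj cj_cj_inv centralizer_cj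
  normalizer_cj card_cj cj_eq_self_of_mem_normalizer mem_normalizer_of_cj_eq)
open Cfsg.Agent.Helper29.BG12

variable {G : Type*} [Group G]

theorem elemAb_comm {p : ℕ} {A : Subgroup G} (hA : IsElementaryAbelian p A) :
    ∀ a ∈ A, ∀ b ∈ A, a * b = b * a := by
  intro a ha b hb
  have := hA.1.is_comm.comm ⟨a, ha⟩ ⟨b, hb⟩
  exact congrArg Subtype.val this

theorem centralizer_singleton_le_zpowers (c : G) :
    centralizer ({c} : Set G) ≤ centralizer ((zpowers c : Subgroup G) : Set G) := by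
  intro g hg
  rw [Subgroup.mem_centralizer_iff] at hg ⊢
  intro y hy
  obtain ⟨k, rfl⟩ := Subgroup.mem_zpowers_iff.mp hy
  have h1 : c * g = g * c := hg c (Set.mem_singleton c)
  have h2 : Commute g c := h1.symm
  exact (h2.zpow_right k).eq.symm

theorem card_zpowers_of_pow_eq_one {p : ℕ} [hp : Fact p.Prime] {c : G} (hc : c ^ p = 1)
    (hc1 : c ≠ 1) : Nat.card (zpowers c) = p := by
  rw [Nat.card_zpowers]
  exact orderOf_eq_prime hc hc1

/-- **Part A**: a `p`-element `x ∈ N_G(A) ∖ M` inside a Sylow `p`-subgroup `S ⊇ A` of `G` with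
`S ∩ M ≤ C_G(A)`, and `z ∈ A ∩ Z(S)` of order `p`. -/
theorem exists_p_element [Finite G] (M : Subgroup G) (p : ℕ) [hp : Fact p.Prime]
    (hS : ∀ S : Sylow p G, ¬ IsMulCommutative (S : Subgroup G))
    (A : Subgroup G) (hAM : A ≤ M) (hAcard : Nat.card A = p ^ 2)
    (h17b : ∀ P : Sylow p M, IsMulCommutative (P : Subgroup M) ∧
        (A ≤ (P : Subgroup M).map M.subtype →
          (∀ x ∈ (P : Subgroup M).map M.subtype, x ^ p = 1 ↔ x ∈ A) ∧
          ¬ Subgroup.normalizer ((((P : Subgroup M).map M.subtype : Subgroup G)) : Set G) ≤ M))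
    (hCA : centralizer (A : Set G) ≤ M) :
    ∃ (S : Sylow p G) (x z : G), A ≤ (S : Subgroup G) ∧ x ∈ (S : Subgroup G) ∧
      x ∈ normalizer (A : Set G) ∧ x ∉ M ∧
      (∀ y ∈ (S : Subgroup G), y ∈ M → y ∈ centralizer (A : Set G)) ∧
      z ∈ A ∧ z ≠ 1 ∧ (∀ y ∈ (S : Subgroup G), y * z = z * y) ∧
      ∃ P : Sylow p M, A ≤ (P : Subgroup M).map M.subtype ∧
        (P : Subgroup M).map M.subtype ≤ (S : Subgroup G) ∧
        (∀ y ∈ (S : Subgroup G), y ∈ M → y ∈ (P : Subgroup M).map M.subtype) := by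
  classical
  have hAp : IsPGroup p A := IsPGroup.of_card hAcard
  obtain ⟨P', hP'⟩ := (hAp.comap_subtype (K := M)).exists_le_sylow
  set P : Subgroup G := (P' : Subgroup M).map M.subtype with hPdef
  have hAP : A ≤ P := by
    intro a ha
    exact ⟨⟨a, hAM ha⟩, hP' (by simpa [Subgroup.mem_subgroupOf] using ha), rfl⟩
  obtain ⟨hPcomm, hP2⟩ := h17b P'
  obtain ⟨hPiff, -⟩ := hP2 hAP
  have hPp : IsPGroup p P := P'.isPGroup'.map _
  obtain ⟨S', hS'⟩ := hPp.exists_le_sylow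
  set S : Subgroup G := (S' : Subgroup G) with hSdef
  have hSp : IsPGroup p S := S'.isPGroup'
  have hPM : P ≤ M := by
    rw [hPdef]; exact Subgroup.map_subtype_le _
  -- elements of `P` commute
  have hPc : ∀ a ∈ P, ∀ b ∈ P, a * b = b * a := by
    rintro _ ⟨a, ha, rfl⟩ _ ⟨b, hb, rfl⟩
    have := hPcomm.is_comm.comm ⟨a, ha⟩ ⟨b, hb⟩
    have h2 : (a * b : M) = b * a := congrArg Subtype.val this
    exact congrArg Subtype.val h2
  have hPS : P ≠ S := by
    intro h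
    apply hS S'
    refine ⟨⟨fun a b => ?_⟩⟩
    apply Subtype.ext
    have ha : (a : G) ∈ P := by rw [h]; exact a.2
    have hb : (b : G) ∈ P := by rw [h]; exact b.2
    exact hPc _ ha _ hb
  obtain ⟨x, hxS, hxN, hxP⟩ := Cfsg.Agent.Helper79.BG10.exists_mem_normalizer_not_mem hSp hS' hPS
  -- `S ∩ M = P`
  have hSM : ∀ y ∈ S, y ∈ M → y ∈ P := by
    intro y hyS hyM
    have hQ : IsPGroup p ((S ⊓ M).subgroupOf M) := (hSp.to_le inf_le_left).comap_subtype
    have hle : (P' : Subgroup M) ≤ (S ⊓ M).subgroupOf M := by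
      intro u hu
      rw [Subgroup.mem_subgroupOf]
      exact ⟨hS' ⟨u, hu, rfl⟩, u.2⟩
    have heq := P'.is_maximal' hQ hle
    have : (⟨y, hyM⟩ : M) ∈ (S ⊓ M).subgroupOf M := by
      rw [Subgroup.mem_subgroupOf]; exact ⟨hyS, hyM⟩
    rw [heq] at this
    exact ⟨⟨y, hyM⟩, this, rfl⟩
  have hSMc : ∀ y ∈ S, y ∈ M → y ∈ centralizer (A : Set G) := by
    intro y hyS hyM
    rw [Subgroup.mem_centralizer_iff]
    intro a ha
    exact hPc a (hAP ha) y (hSM y hyS hyM)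
  have hxM : x ∉ M := fun h => hxP (hSM x hxS h)
  -- `x` normalizes `A`
  have hxA : x ∈ normalizer (A : Set G) := by
    apply Subgroup.mem_normalizer_fintype
    intro a ha
    have h1 : x * a * x⁻¹ ∈ P := (Subgroup.mem_normalizer_iff.mp hxN a).mp (hAP ha)
    apply (hPiff _ h1).mp
    rw [conj_pow, (hPiff a (hAP ha)).mpr ha]
    simp
  -- `z`
  have hSne : S ≠ ⊥ := by
    intro h
    have : A = ⊥ := by
      rw [eq_bot_iff, ← h]; exact hAP.trans hS'
    rw [this, Subgroup.card_bot] at hAcard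
    have := hp.out.one_lt
    nlinarith
  haveI : Nontrivial S := (Subgroup.nontrivial_iff_ne_bot S).mpr hSne
  have hZne : (center S).map S.subtype ≠ ⊥ := by
    intro h
    have h1 : center S = ⊥ := by
      rw [eq_bot_iff]
      intro u hu
      have : (u : G) ∈ (center S).map S.subtype := ⟨u, hu, rfl⟩
      rw [h, Subgroup.mem_bot] at this
      rw [Subgroup.mem_bot]
      exact Subtype.ext this
    have h2 := hSp.center_nontrivial
    rw [Subgroup.nontrivial_iff_ne_bot] at h2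
    exact h2 h1
  have hZp : IsPGroup p ((center S).map S.subtype) :=
    hSp.to_le (Subgroup.map_subtype_le _)
  obtain ⟨X, hXZ, hXc⟩ := exists_card_eq_prime_le hZp hZne
  obtain ⟨z, hzX, hz1⟩ := exists_ne_one_of_card_prime hXc
  obtain ⟨zc, hzc, hzeq⟩ := hXZ hzX
  have hzS : z ∈ S := by rw [← hzeq]; exact zc.2
  have hzcomm : ∀ y ∈ S, y * z = z * y := by
    intro y hy
    have := Subgroup.mem_center_iff.mp hzc ⟨y, hy⟩
    have h2 : y * (zc : G) = zc * y := congrArg Subtype.val this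
    rw [← hzeq]; exact h2
  have hzp : z ^ p = 1 := by
    have h1 : (⟨z, hzX⟩ : X) ^ Nat.card X = 1 := pow_card_eq_one'
    rw [hXc] at h1
    exact congrArg Subtype.val h1
  have hzCA : z ∈ centralizer (A : Set G) := by
    rw [Subgroup.mem_centralizer_iff]
    intro a ha
    exact hzcomm a (hS' (hAP ha))
  have hzP : z ∈ P := hSM z hzS (hCA hzCA)
  have hzA : z ∈ A := (hPiff z hzP).mp hzp
  exact ⟨S', x, z, hAP.trans hS', hxS, hxA, hxM, hSMc, hzA, hz1, hzcomm, P', hAP, hS', hSM⟩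

/-- conjugates of the maximal subgroup `M` by elements outside `M` are other maximal subgroups -/
theorem cj_coatom_ne [Finite G] (hG : IsMinSimpleOddOrder G) {M : Subgroup G} (hM : IsCoatom M)
    {g : G} (hg : g ∉ M) : IsCoatom (cj g M) ∧ cj g M ≠ M := by
  refine ⟨Cfsg.Agent.Helper96.BGU.isCoatom_map_equiv (MulAut.conj g) hM, ?_⟩
  intro h
  have := mem_normalizer_of_cj_eq h
  rw [Cfsg.Agent.Helper34.BG.normalizer_coatom hG hM] at this
  exact hg this

/-- **Part B**: the lines of `A`. -/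
theorem lines [Finite G] (hG : IsMinSimpleOddOrder G) (M : Subgroup G) (hM : IsCoatom M)
    (p : ℕ) [hp : Fact p.Prime] (K : Subgroup G)
    (hKn : M ≤ normalizer (K : Set G)) (hKcop : (Nat.card K).Coprime p) (hKne : K ≠ ⊥)
    (A : Subgroup G) (hAM : A ≤ M) (hAel : IsElementaryAbelian p A) (hAcard : Nat.card A = p ^ 2)
    (hCA : centralizer (A : Set G) ≤ M)
    (h17e : ∀ Mstar : Subgroup G, IsCoatom Mstar → Mstar ≠ M → A ≤ Mstar → K ⊓ Mstar = ⊥)
    (h18c : ∀ X : Subgroup G, X ≤ A → Nat.card X = p → K ⊓ centralizer (X : Set G) ≠ ⊥ →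
      (centralizer (X : Set G) ≤ M ∧
        ∀ L : Subgroup G, IsCoatom L → centralizer (X : Set G) ≤ L → L = M))
    (S : Subgroup G) (x z : G) (hSp : IsPGroup p S) (hAS : A ≤ S) (hxS : x ∈ S)
    (hxA : x ∈ normalizer (A : Set G)) (hxM : x ∉ M)
    (hSMc : ∀ y ∈ S, y ∈ M → y ∈ centralizer (A : Set G))
    (hzA : z ∈ A) (hz1 : z ≠ 1) (hzx : x * z * x⁻¹ = z) :
    ∃ X₀ Z₀ : Subgroup G, X₀ ≤ A ∧ Nat.card X₀ = p ∧ K ≤ centralizer (X₀ : Set G) ∧
      Z₀ ≤ A ∧ Nat.card Z₀ = p ∧ (∀ w ∈ Z₀, x * w * x⁻¹ = w) ∧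
      (∀ w ∈ A, x * w * x⁻¹ = w → w ∈ Z₀) ∧ X₀ ≠ Z₀ ∧
      K ⊓ centralizer (Z₀ : Set G) = ⊥ ∧
      ∀ X : Subgroup G, X ≤ A → Nat.card X = p → X ≠ X₀ →
        K ⊓ centralizer (X : Set G) = ⊥ ∧ ¬ centralizer (X : Set G) ≤ M := by
  classical
  have hAc := elemAb_comm hAel
  have hAp := hAel.2
  have hx : ∀ a ∈ A, x * a * x⁻¹ ∈ A := fun a ha => (Subgroup.mem_normalizer_iff.mp hxA a).mp ha
  have hxC : ∃ a ∈ A, x * a * x⁻¹ ≠ a := by
    by_contra h
    push Not at h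
    apply hxM
    apply hCA
    rw [Subgroup.mem_centralizer_iff]
    intro a ha
    have := h a ha
    calc a * x = (x * a * x⁻¹) * x := by rw [this]
      _ = x * a := by group
  obtain ⟨Z₀, hZ₀A, hZ₀c, hZ₀x, hZ₀fix, hT⟩ :=
    transvection A hAc hAcard x hx S hSp hxS hAS z hzA hz1 hzx hxC
  have hline : ∀ c ∈ A, c ≠ 1 → zpowers c ≤ A ∧ Nat.card (zpowers c) = p := fun c hc hc1 =>
    ⟨by rw [Subgroup.zpowers_le]; exact hc, card_zpowers_of_pow_eq_one (hAp c hc) hc1⟩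
  -- generation
  have hgen : ∀ H : Subgroup G,
      (∀ c ∈ A, c ≠ 1 → K ⊓ centralizer ((zpowers c : Subgroup G) : Set G) ≤ H) → K ≤ H := by
    intro H hH
    have hzc : Nat.card (zpowers z) = p := (hline z hzA hz1).2
    obtain ⟨a, haA, haz⟩ : ∃ a ∈ A, a ∉ zpowers z := by
      by_contra h
      push Not at h
      have hle : A ≤ zpowers z := h
      have := Subgroup.card_le_of_le hle
      rw [hAcard, hzc] at this
      have := hp.out.one_lt
      nlinarith
    have hzord : orderOf z = p := orderOf_eq_prime (hAp z hzA) hz1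
    have h1 := le_genS A K hAc hAp {c | c ∈ A ∧ c ≠ 1} (fun c hc => hc.1) haA hzA
      (fun j => ⟨A.mul_mem haA (A.pow_mem hzA j), fun h => haz (by
        have : a = (z ^ j)⁻¹ := eq_inv_of_mul_eq_one_left h
        rw [this]
        exact (zpowers z).inv_mem ((zpowers z).pow_mem (Subgroup.mem_zpowers z) j))⟩)
      (fun i hi0 hip => ⟨A.pow_mem hzA i, pow_ne_one_of_lt_orderOf hi0.ne' (by rw [hzord]; exact hip)⟩)
      (hAM.trans hKn) hKcop
    refine h1.trans ?_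
    unfold genS
    apply iSup_le
    rintro ⟨c, hcA, hc1⟩
    exact (inf_le_inf_left K (centralizer_singleton_le_zpowers c)).trans (hH c hcA hc1)
  -- a bad line
  obtain ⟨X₀, hX₀A, hX₀c, hX₀bad⟩ : ∃ X : Subgroup G, X ≤ A ∧ Nat.card X = p ∧
      K ⊓ centralizer (X : Set G) ≠ ⊥ := by
    by_contra h
    push Not at h
    apply hKne
    rw [eq_bot_iff]
    apply hgen
    intro c hc hc1
    rw [h _ (hline c hc hc1).1 (hline c hc hc1).2]
  -- conjugates of bad lines by elements outside `M` are good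
  have hconj : ∀ g : G, g ∈ normalizer (A : Set G) → g ∉ M → ∀ Y : Subgroup G, Y ≤ A →
      Nat.card Y = p → K ⊓ centralizer (Y : Set G) ≠ ⊥ →
      K ⊓ centralizer ((cj g Y : Subgroup G) : Set G) = ⊥ := by
    intro g hgA hgM Y hYA hYc hYbad
    obtain ⟨hCY, -⟩ := h18c Y hYA hYc hYbad
    obtain ⟨hM'c, hM'ne⟩ := cj_coatom_ne hG hM hgM
    have hAM' : A ≤ cj g M := by
      rw [← cj_eq_self_of_mem_normalizer hgA]; exact cj_mono g hAM
    have h1 := h17e _ hM'c hM'ne hAM'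
    rw [eq_bot_iff, ← h1]
    refine inf_le_inf_left K ?_
    rw [centralizer_cj]
    exact cj_mono g hCY
  have hxcen : ∀ w ∈ Z₀, w * x = x * w := by
    intro w hw
    have := hZ₀x w hw
    calc w * x = (x * w * x⁻¹) * x := by rw [this]
      _ = x * w := by group
  have hbad_ne : ∀ Y : Subgroup G, Y ≤ A → Nat.card Y = p → K ⊓ centralizer (Y : Set G) ≠ ⊥ →
      Y ≠ Z₀ := by
    intro Y hYA hYc hYbad h
    obtain ⟨hCY, -⟩ := h18c Y hYA hYc hYbad
    apply hxM
    apply hCY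
    rw [h, Subgroup.mem_centralizer_iff]
    exact hxcen
  have hX₀Z₀ : X₀ ≠ Z₀ := hbad_ne X₀ hX₀A hX₀c hX₀bad
  have hpowA : ∀ i : ℕ, x ^ i ∈ normalizer (A : Set G) := fun i => Subgroup.pow_mem _ hxA i
  have hpowM : ∀ i : ℕ, x ^ i ∈ M → ∀ Y : Subgroup G, Y ≤ A → cj (x ^ i) Y = Y := by
    intro i hi Y hYA
    apply cj_eq_self_of_mem_normalizer
    apply Subgroup.centralizer_le_normalizer
    exact Subgroup.centralizer_le hYA (hSMc _ (S.pow_mem hxS i) hi)
  -- uniqueness of the bad line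
  have huniq : ∀ Y : Subgroup G, Y ≤ A → Nat.card Y = p → K ⊓ centralizer (Y : Set G) ≠ ⊥ →
      Y = X₀ := by
    intro Y hYA hYc hYbad
    obtain ⟨i, hi⟩ := hT Y X₀ hYA hX₀A hYc hX₀c (hbad_ne Y hYA hYc hYbad) hX₀Z₀
    by_cases hiM : x ^ i ∈ M
    · rw [hi]; exact hpowM i hiM X₀ hX₀A
    · exfalso
      have := hconj (x ^ i) (hpowA i) hiM X₀ hX₀A hX₀c hX₀bad
      apply hYbad
      rw [hi]; exact this
  have hKX₀ : K ≤ centralizer (X₀ : Set G) := by
    apply hgen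
    intro c hc hc1
    by_cases hb : K ⊓ centralizer ((zpowers c : Subgroup G) : Set G) = ⊥
    · rw [hb]; exact bot_le
    · rw [huniq _ (hline c hc hc1).1 (hline c hc hc1).2 hb]; exact inf_le_right
  have hZ₀good : K ⊓ centralizer (Z₀ : Set G) = ⊥ := by
    by_contra h
    exact hX₀Z₀ (huniq Z₀ hZ₀A hZ₀c h).symm
  refine ⟨X₀, Z₀, hX₀A, hX₀c, hKX₀, hZ₀A, hZ₀c, hZ₀x, hZ₀fix, hX₀Z₀, hZ₀good, ?_⟩
  intro X hXA hXc hXne
  have hXgood : K ⊓ centralizer (X : Set G) = ⊥ := by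
    by_contra h
    exact hXne (huniq X hXA hXc h)
  refine ⟨hXgood, ?_⟩
  intro hCX
  by_cases hXZ : X = Z₀
  · apply hxM
    apply hCX
    rw [hXZ, Subgroup.mem_centralizer_iff]
    exact hxcen
  · obtain ⟨i, hi⟩ := hT X X₀ hXA hX₀A hXc hX₀c hXZ hX₀Z₀
    have hiM : x ^ i ∉ M := by
      intro h
      apply hXne
      rw [hi]; exact hpowM i h X₀ hX₀A
    set g := x ^ i with hg
    have h1 : cj g K ≤ M := by
      refine le_trans ?_ hCX
      rw [hi, centralizer_cj]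
      exact cj_mono g hKX₀
    have h2 : K ≤ cj g⁻¹ M := cj_le_iff.mp h1
    have hginvM : g⁻¹ ∉ M := fun h => hiM (by simpa using M.inv_mem h)
    obtain ⟨hM'c, hM'ne⟩ := cj_coatom_ne hG hM hginvM
    have hginvA : g⁻¹ ∈ normalizer (A : Set G) := Subgroup.inv_mem _ (hpowA i)
    have hAM' : A ≤ cj g⁻¹ M := by
      rw [← cj_eq_self_of_mem_normalizer hginvA]; exact cj_mono g⁻¹ hAM
    have h3 := h17e _ hM'c hM'ne hAM'
    apply hKne
    rw [eq_bot_iff, ← h3]
    exact le_inf le_rfl h2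

end Cfsg.Agent.Helper29.BG127
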