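import Mathlib
import Cfsg.Prelude.Def_OddOrderLocal
import Cfsg.Agent.Lib.Helper29.BG12
import Cfsg.Agent.Lib.Helper29.BG127a
import Cfsg.Agent.Lib.Helper79.BG10.Conj

/-!
# General lemmas for B-G Theorem 12.7 (helper29)
-/

set_option autoImplicit false

namespace Cfsg.Agent.Helper29.BG127

open Subgroup Cfsg
open Cfsg.Agent.Helper79.BG10 (cj mem_cj conj_mem_cj cj_mono)
open Cfsg.Agent.Helper29.BG12

variable {G : Type*} [Group G]

theorem card_of_isComplIn' {A B M : Subgroup G} (h : IsComplIn A B M) :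
    Nat.card M = Nat.card A * Nat.card B := by
  obtain ⟨hA, hB, hdisj, hprod⟩ := h
  have e : A × B ≃ M :=
    Equiv.ofBijective (fun x => ⟨x.1.1 * x.2.1, M.mul_mem (hA x.1.2) (hB x.2.2)⟩) (by
      constructor
      · rintro ⟨a, b⟩ ⟨a', b'⟩ hab
        have h1 : (a : G) * b = a' * b' := congrArg Subtype.val hab
        have h2 : (a' : G)⁻¹ * a = b' * (b : G)⁻¹ := by
          calc (a' : G)⁻¹ * a = (a' : G)⁻¹ * (a * b) * (b : G)⁻¹ := by group
            _ = (a' : G)⁻¹ * (a' * b') * (b : G)⁻¹ := by rw [h1]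
            _ = b' * (b : G)⁻¹ := by group
        have h3 : (a' : G)⁻¹ * a ∈ A ⊓ B :=
          ⟨A.mul_mem (A.inv_mem a'.2) a.2, by rw [h2]; exact B.mul_mem b'.2 (B.inv_mem b.2)⟩
        rw [hdisj, Subgroup.mem_bot] at h3
        have ha : (a : G) = a' := by
          have := inv_mul_eq_one.mp h3
          exact this.symm
        have hb : (b : G) = b' := by
          rw [ha] at h1
          exact mul_left_cancel h1
        exact Prod.ext (Subtype.ext ha) (Subtype.ext hb)
      · rintro ⟨m, hm⟩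
        obtain ⟨a, ha, b, hb, rfl⟩ := hprod m hm
        exact ⟨(⟨a, ha⟩, ⟨b, hb⟩), rfl⟩)
  rw [← Nat.card_congr e, Nat.card_prod]

/-- a `q`-subgroup of `M` is `M`-conjugate into the complement `E` of the `q'`-group `K`. -/
theorem exists_conj_le_compl [Finite G] {E K M : Subgroup G} (hE : IsComplIn E K M)
    {q : ℕ} [hq : Fact q.Prime] (hqK : ¬ q ∣ Nat.card K) {B : Subgroup G} (hBM : B ≤ M)
    (hB : IsPGroup q B) : ∃ m ∈ M, cj m B ≤ E := by
  classical
  have hEM : E ≤ M := hE.1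
  have hcard := card_of_isComplIn' hE
  -- a Sylow `q`-subgroup of `E`, viewed in `M`
  obtain QE : Sylow q E := default
  set H₁ : Subgroup M := ((QE : Subgroup E).map E.subtype).subgroupOf M with hH₁
  have hle : (QE : Subgroup E).map E.subtype ≤ M := (Subgroup.map_subtype_le _).trans hEM
  have hc1 : Nat.card H₁ = q ^ (Nat.card M).factorization q := by
    rw [hH₁, card_subgroupOf_of_le hle, Subgroup.card_map_of_injective E.subtype_injective,
      Sylow.card_eq_multiplicity, hcard]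
    have hE0 : Nat.card E ≠ 0 := Nat.card_pos.ne'
    have hK0 : Nat.card K ≠ 0 := Nat.card_pos.ne'
    rw [Nat.factorization_mul hE0 hK0]
    simp [Nat.factorization_eq_zero_of_not_dvd hqK]
  set Q₁ : Sylow q M := Sylow.ofCard H₁ hc1 with hQ₁
  obtain ⟨Q₂, hQ₂⟩ := (hB.comap_subtype (K := M)).exists_le_sylow
  obtain ⟨m, hm⟩ := MulAction.exists_smul_eq M Q₂ Q₁
  refine ⟨m, m.2, ?_⟩
  intro y hy
  rw [mem_cj] at hy
  set b := (m : G)⁻¹ * y * m with hb
  have hbM : b ∈ M := hBM hy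
  have hb2 : (⟨b, hbM⟩ : M) ∈ (Q₂ : Subgroup M) := hQ₂ (by
    rw [Subgroup.mem_comap]; exact hy)
  have h3 : m * ⟨b, hbM⟩ * m⁻¹ ∈ ((m • Q₂ : Sylow q M) : Subgroup M) := by
    rw [Sylow.coe_subgroup_smul]
    have := Subgroup.smul_mem_pointwise_smul _ (MulAut.conj m) _ hb2
    simpa [MulAut.smul_def, MulAut.conj_apply] using this
  rw [hm, hQ₁, Sylow.coe_ofCard, hH₁, Subgroup.mem_subgroupOf] at h3
  have h4 : ((m * ⟨b, hbM⟩ * m⁻¹ : M) : G) = y := by
    simp only [Subgroup.coe_mul, Subgroup.coe_inv, hb]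
    group
  rw [h4] at h3
  exact Subgroup.map_subtype_le _ h3

/-- `N_G(A) ≤ N_G(B)` when `B` consists of all elements of order `q` of a subgroup `E ≥ C_G(A) ≥ B`. -/
theorem normalizer_le_normalizer_of [Finite G] {q : ℕ} [hq : Fact q.Prime] {A B E : Subgroup G}
    (hBA : B ≤ centralizer (A : Set G)) (hCE : centralizer (A : Set G) ≤ E)
    (hall : ∀ Y : Subgroup G, Y ≤ E → Nat.card Y = q → Y ≤ B) (hBq : ∀ b ∈ B, b ^ q = 1) :
    normalizer (A : Set G) ≤ normalizer (B : Set G) := by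
  intro n hn
  apply Subgroup.mem_normalizer_fintype
  intro b hb
  by_cases hb1 : b = 1
  · rw [hb1]; simp [B.one_mem]
  · set y := n * b * n⁻¹ with hy
    have hy1 : y ≠ 1 := by
      intro h
      apply hb1
      have : b = n⁻¹ * y * n := by rw [hy]; group
      rw [this, h]; group
    have hyq : y ^ q = 1 := by
      rw [hy, conj_pow, hBq b hb]; group
    have hyC : y ∈ centralizer (A : Set G) := by
      rw [Subgroup.mem_centralizer_iff]
      intro a ha
      have ha' : n⁻¹ * a * n ∈ A := by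
        have := (Subgroup.mem_normalizer_iff.mp (Subgroup.inv_mem _ hn) a).mp ha
        simpa using this
      have hcomm : (n⁻¹ * a * n) * b = b * (n⁻¹ * a * n) :=
        (Subgroup.mem_centralizer_iff.mp (hBA hb)) _ ha'
      calc a * y = n * ((n⁻¹ * a * n) * b) * n⁻¹ := by rw [hy]; group
        _ = n * (b * (n⁻¹ * a * n)) * n⁻¹ := by rw [hcomm]
        _ = y * a := by rw [hy]; group
    have hcard : Nat.card (zpowers y) = q := by
      rw [Nat.card_zpowers]; exact orderOf_eq_prime hyq hy1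
    have hle : zpowers y ≤ E := by
      rw [Subgroup.zpowers_le]; exact hCE hyC
    exact hall _ hle hcard (Subgroup.mem_zpowers y)

/-- elements of order prime to `q` lie in any normal subgroup of `q`-power index. -/
theorem mem_of_normal_of_index_pow {H : Type*} [Group H] [Finite H] {q : ℕ} [hq : Fact q.Prime]
    (N : Subgroup H) [N.Normal] {k : ℕ} (hidx : N.index = q ^ k) (y : H)
    (hy : (orderOf y).Coprime q) : y ∈ N := by
  rw [← QuotientGroup.eq_one_iff]
  have h1 : ((y : H ⧸ N)) ^ orderOf y = 1 := by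
    rw [← QuotientGroup.mk_pow, pow_orderOf_eq_one]; rfl
  have h2 : ((y : H ⧸ N)) ^ (q ^ k) = 1 := by
    have : Nat.card (H ⧸ N) = q ^ k := by rw [← hidx]; exact (Subgroup.index_eq_card N).symm
    rw [← this]; exact pow_card_eq_one'
  have h3 : orderOf (y : H ⧸ N) ∣ Nat.gcd (orderOf y) (q ^ k) :=
    Nat.dvd_gcd (orderOf_dvd_of_pow_eq_one h1) (orderOf_dvd_of_pow_eq_one h2)
  have h4 : Nat.gcd (orderOf y) (q ^ k) = 1 := Nat.Coprime.pow_right k hy
  rw [h4, Nat.dvd_one] at h3
  exact orderOf_eq_one_iff.mp h3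

theorem mem_sup_of_comm' {A B : Subgroup G} (hc : ∀ a ∈ A, ∀ b ∈ B, a * b = b * a) {x : G}
    (hx : x ∈ A ⊔ B) : ∃ a ∈ A, ∃ b ∈ B, x = a * b := by
  rw [Subgroup.sup_eq_closure] at hx
  induction hx using Subgroup.closure_induction with
  | mem y hy =>
    rcases hy with hy | hy
    · exact ⟨y, hy, 1, B.one_mem, by simp⟩
    · exact ⟨1, A.one_mem, y, hy, by simp⟩
  | one => exact ⟨1, A.one_mem, 1, B.one_mem, by simp⟩
  | mul y z _ _ ihy ihz =>
    obtain ⟨a, ha, b, hb, rfl⟩ := ihy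
    obtain ⟨a', ha', b', hb', rfl⟩ := ihz
    refine ⟨a * a', A.mul_mem ha ha', b * b', B.mul_mem hb hb', ?_⟩
    have h := hc a' ha' b hb
    calc a * b * (a' * b') = a * (b * a') * b' := by group
      _ = a * (a' * b) * b' := by rw [h]
      _ = a * a' * (b * b') := by group
  | inv y _ ihy =>
    obtain ⟨a, ha, b, hb, rfl⟩ := ihy
    refine ⟨a⁻¹, A.inv_mem ha, b⁻¹, B.inv_mem hb, ?_⟩
    have h := hc a ha b hb
    calc (a * b)⁻¹ = (b * a)⁻¹ := by rw [h]
      _ = a⁻¹ * b⁻¹ := by group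

end Cfsg.Agent.Helper29.BG127
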