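import Mathlib
import Cfsg.Prelude.Def_OddOrderLocal
import Cfsg.Agent.S1350
import Cfsg.Agent.S1405
import Cfsg.Agent.S1417
import Cfsg.Agent.Lib.Helper29.BG12
import Cfsg.Agent.Lib.Helper96.BGU2
import Cfsg.Agent.Lib.Helper34.BG10a

/-!
# σ(M), M_σ: consequences of S1350, S1405, S1417 used in B-G section 12 (helper29)
-/

set_option autoImplicit false

namespace Cfsg.Agent.Helper29.BG12

open Subgroup Cfsg

variable {G : Type*} [Group G] [Finite G]

theorem sigmaCore_le (M : Subgroup G) : sigmaCore M ≤ M := by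
  unfold sigmaCore; exact Subgroup.map_subtype_le _

theorem le_normalizer_sigmaCore (M : Subgroup G) : M ≤ normalizer (sigmaCore M : Set G) := by
  intro m hm
  apply Subgroup.mem_normalizer_fintype
  rintro _ ⟨k, hk, rfl⟩
  have hn : (piCore (sigma M) M).Normal := inferInstance
  refine ⟨⟨m, hm⟩ * k * ⟨m, hm⟩⁻¹, hn.conj_mem k hk ⟨m, hm⟩, ?_⟩
  simp

/-- `p ∉ σ(M)` does not divide `|M_σ|`. -/
theorem not_dvd_card_sigmaCore (hG : IsMinSimpleOddOrder G) {M : Subgroup G} (hM : IsCoatom M)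
    {p : ℕ} (hp : p.Prime) (hpσ : p ∉ sigma M) : ¬ p ∣ Nat.card (sigmaCore M) :=
  fun h => hpσ ((Cfsg.Agent.S1350.result hG M hM).1.2.1 p hp h)

theorem coprime_card_sigmaCore (hG : IsMinSimpleOddOrder G) {M : Subgroup G} (hM : IsCoatom M)
    {p : ℕ} (hp : p.Prime) (hpσ : p ∉ sigma M) : (Nat.card (sigmaCore M)).Coprime p :=
  (Nat.Prime.coprime_iff_not_dvd hp).mpr (not_dvd_card_sigmaCore hG hM hp hpσ) |>.symm

/-- `α(L) ⊆ σ(L)`. -/
theorem mem_sigma_of_not_pRankLE_two (hG : IsMinSimpleOddOrder G) {L : Subgroup G} (hL : IsCoatom L)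
    {p : ℕ} [hp : Fact p.Prime] (h2 : ¬ PRankLE p 2 L) (hpL : p ∣ Nat.card L) : p ∈ sigma L := by
  have hα : p ∈ alpha L := ⟨hp.out, h2⟩
  have h5 := Cfsg.Agent.S1405.result hG L hL
  have h50 := Cfsg.Agent.S1350.result hG L hL
  have hnd : ¬ p ∣ (alphaCore L).relIndex L := h5.1.2.2 p hp.out hα
  have hle : alphaCore L ≤ L := h5.1.1
  have hcard : Nat.card (alphaCore L) * (alphaCore L).relIndex L = Nat.card L := by
    rw [← card_subgroupOf_of_le hle]
    exact Subgroup.card_mul_index ((alphaCore L).subgroupOf L)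
  have hpa : p ∣ Nat.card (alphaCore L) := by
    rw [← hcard] at hpL
    rcases (Nat.Prime.dvd_mul hp.out).mp hpL with h | h
    · exact h
    · exact absurd h hnd
  have hps : p ∣ Nat.card (sigmaCore L) := dvd_trans hpa (Subgroup.card_dvd_of_le h5.2.2.1)
  exact h50.1.2.1 p hp.out hps

theorem not_pRankLE_of_elemAb {p k : ℕ} {L E : Subgroup G} (hEL : E ≤ L)
    (hE : IsElementaryAbelian p E) (hc : p ^ k < Nat.card E) : ¬ PRankLE p k L := by
  intro h1
  have hc' : IsMulCommutative (E.subgroupOf L) := by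
    refine ⟨⟨fun a b => ?_⟩⟩
    have := hE.1.is_comm.comm ⟨(a : L), a.2⟩ ⟨(b : L), b.2⟩
    have h3 : ((a : L) : G) * ((b : L) : G) = ((b : L) : G) * ((a : L) : G) :=
      congrArg (fun z : E => (z : G)) this
    exact Subtype.ext (Subtype.ext h3)
  have he : ∀ a ∈ E.subgroupOf L, a ^ p = 1 := by
    intro a ha
    have := hE.2 (a : G) ha
    exact Subtype.ext (by simpa using this)
  have := h1 (E.subgroupOf L) hc' he
  rw [card_subgroupOf_of_le hEL] at this
  omega

/-- a prime `p` with a non-abelian `p`-subgroup `P ≤ L` lies in `σ(L)`. -/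
theorem mem_sigma_of_nonabelian' (hG : IsMinSimpleOddOrder G)
    (p : ℕ) [hp : Fact p.Prime] (P : Subgroup G) (hP : IsPGroup p P) (hPna : ¬ IsMulCommutative P)
    (L : Subgroup G) (hL : IsCoatom L) (hPL : P ≤ L) : p ∈ sigma L := by
  classical
  have hpP : p ∣ Nat.card P := prime_dvd_card_of_not_comm hP hPna
  have hpL : p ∣ Nat.card L := dvd_trans hpP (Subgroup.card_dvd_of_le hPL)
  have hp2 : p ≠ 2 := by
    rintro rfl
    have h2 : 2 ∣ Nat.card G := dvd_trans hpP (Subgroup.card_subgroup_dvd_card P)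
    have hodd := hG.1
    rw [Nat.odd_iff] at hodd
    omega
  by_cases h2 : PRankLE p 2 L
  · by_contra hns
    have hPnc : ¬ IsCyclic P := fun hc => hPna (by
      haveI := hc
      exact IsCyclic.isMulCommutative)
    obtain ⟨E, hEP, hE, hEc⟩ := Cfsg.Agent.Helper96.BGU.exists_elemAb_of_not_isCyclic hp2 P hP hPnc
    have hEL : E ≤ L := hEP.trans hPL
    have h1 : ¬ PRankLE p 1 L := not_pRankLE_of_elemAb hEL hE hEc
    have hτ : p ∈ tau2 L := ⟨hp.out, hns, h2, h1⟩
    obtain ⟨A, hAE, hA, hAc⟩ := Cfsg.Agent.Helper34.BG.exists_elemAb_card_eq hE hEc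
    have h17 := Cfsg.Agent.S1417.result hG L hL p hτ A ⟨hAE.trans hEL, hA, hAc⟩
    obtain ⟨Q, hQ⟩ := (hP.comap_subtype (K := L)).exists_le_sylow
    have hQc := (h17.2.1 Q).1
    exact hPna (comm_of_subgroupOf hPL (comm_of_le hQ hQc))
  · exact mem_sigma_of_not_pRankLE_two hG hL h2 hpL

/-- a `p`-subgroup of `L` lies in `L_σ` when `p ∈ σ(L)`. -/
theorem le_sigmaCore_of_mem_sigma' (hG : IsMinSimpleOddOrder G)
    (p : ℕ) [hp : Fact p.Prime] (P : Subgroup G) (hP : IsPGroup p P)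
    (L : Subgroup G) (hL : IsCoatom L) (hPL : P ≤ L) (hσ : p ∈ sigma L) :
    P ≤ sigmaCore L := by
  have h50 := Cfsg.Agent.S1350.result hG L hL
  have hnd : ¬ p ∣ (sigmaCore L).relIndex L := h50.1.2.2 p hp.out hσ
  have hidx : (sigmaCore L).relIndex L = (piCore (sigma L) L).index := by
    unfold sigmaCore Subgroup.relIndex Subgroup.subgroupOf
    rw [Subgroup.comap_map_eq_self_of_injective L.subtype_injective]
  rw [hidx] at hnd
  have h1 := pgroup_le_of_normal_of_not_dvd_index (piCore (sigma L) L) hnd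
    (P.subgroupOf L) hP.comap_subtype
  have h2 : (P.subgroupOf L).map L.subtype ≤ (piCore (sigma L) L).map L.subtype :=
    Subgroup.map_mono h1
  rw [Subgroup.map_subgroupOf_eq_of_le hPL] at h2
  exact h2

end Cfsg.Agent.Helper29.BG12
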