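import Mathlib
import Cfsg.Prelude.Def_OddOrderLocal
import Cfsg.Agent.S1408
import Cfsg.Agent.S1414
import Cfsg.Agent.S1417
import Cfsg.Agent.S1418
import Cfsg.Agent.Lib.Helper29.BG12s
import Cfsg.Agent.Lib.Helper29.BG127b
import Cfsg.Agent.Lib.Helper29.BG127c

/-!
# B-G Theorem 12.7, first clause: `τ₂(M) = {p}` (helper29; paper proof by helper47)
-/

set_option autoImplicit false

namespace Cfsg.Agent.Helper29.BG127

open Subgroup Cfsg
open Cfsg.Agent.Helper79.BG10 (cj mem_cj conj_mem_cj cj_mono card_cj)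
open Cfsg.Agent.Helper29.BG12

variable {G : Type*} [Group G] [Finite G]

theorem elemAb_cj {q : ℕ} {B : Subgroup G} (hB : IsElementaryAbelian q B) (m : G) :
    IsElementaryAbelian q (cj m B) := by
  have hc := elemAb_comm hB
  refine ⟨⟨⟨?_⟩⟩, ?_⟩
  · rintro ⟨_, a, ha, rfl⟩ ⟨_, b, hb, rfl⟩
    apply Subtype.ext
    show (MulAut.conj m).toMonoidHom a * (MulAut.conj m).toMonoidHom b
      = (MulAut.conj m).toMonoidHom b * (MulAut.conj m).toMonoidHom a
    rw [← map_mul, ← map_mul, hc a ha b hb]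
  · rintro _ ⟨a, ha, rfl⟩
    rw [← map_pow, hB.2 a ha, map_one]

/-- elements of `A`, `B` commute when both are normalized by `E ≥ A, B` and have coprime orders. -/
theorem comm_of_normal_coprime {A B E : Subgroup G} (hAE : A ≤ E) (hBE : B ≤ E)
    (hEA : E ≤ normalizer (A : Set G)) (hEB : E ≤ normalizer (B : Set G))
    (hcop : (Nat.card A).Coprime (Nat.card B)) : ∀ a ∈ A, ∀ b ∈ B, a * b = b * a := by
  intro a ha b hb
  have h1 : a * b * a⁻¹ * b⁻¹ ∈ A := by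
    have : b * a⁻¹ * b⁻¹ ∈ A :=
      (Subgroup.mem_normalizer_iff.mp (hEA (hBE hb)) a⁻¹).mp (A.inv_mem ha)
    have h2 : a * b * a⁻¹ * b⁻¹ = a * (b * a⁻¹ * b⁻¹) := by group
    rw [h2]; exact A.mul_mem ha this
  have h2 : a * b * a⁻¹ * b⁻¹ ∈ B := by
    have : a * b * a⁻¹ ∈ B := (Subgroup.mem_normalizer_iff.mp (hEB (hAE ha)) b).mp hb
    exact B.mul_mem this (B.inv_mem hb)
  have h3 : a * b * a⁻¹ * b⁻¹ ∈ A ⊓ B := ⟨h1, h2⟩
  rw [Subgroup.inf_eq_bot_of_coprime hcop, Subgroup.mem_bot] at h3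
  calc a * b = (a * b * a⁻¹ * b⁻¹) * (b * a) := by group
    _ = b * a := by rw [h3, one_mul]

theorem tau2_unique (hG : IsMinSimpleOddOrder G)
    (M : Subgroup G) (hM : IsCoatom M) (E : Subgroup G) (hE : IsComplIn E (sigmaCore M) M)
    (p : ℕ) [hp : Fact p.Prime] (hpτ : p ∈ tau2 M)
    (hS : ∀ S : Sylow p G, ¬ IsMulCommutative (S : Subgroup G))
    (A : Subgroup G) (hA : (A ≤ E ∧ IsElementaryAbelian p A ∧ Nat.card A = p ^ 2))
    (q : ℕ) (hqτ : q ∈ tau2 M) : q = p := by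
  classical
  by_contra hqp
  haveI hq : Fact q.Prime := ⟨hqτ.1⟩
  have hEM : E ≤ M := hE.1
  have hAM : A ≤ M := hA.1.trans hEM
  -- `B ≤ E` elementary abelian of order `q ^ 2`
  obtain ⟨B₀, hB₀M, hB₀, hB₀c⟩ := Cfsg.Agent.Helper34.BG.exists_elemAb_of_not_pRankLE hqτ.2.2.2
  obtain ⟨B₁, hB₁B₀, hB₁, hB₁c⟩ := Cfsg.Agent.Helper34.BG.exists_elemAb_card_eq hB₀ hB₀c
  have hqK : ¬ q ∣ Nat.card (sigmaCore M) := not_dvd_card_sigmaCore hG hM hq.out hqτ.2.1
  obtain ⟨m, -, hmE⟩ := exists_conj_le_compl hE hqK (hB₁B₀.trans hB₀M) (IsPGroup.of_card hB₁c)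
  set B : Subgroup G := cj m B₁ with hBdef
  have hBel : IsElementaryAbelian q B := elemAb_cj hB₁ m
  have hBc : Nat.card B = q ^ 2 := by rw [hBdef, card_cj, hB₁c]
  have hBM : B ≤ M := hmE.trans hEM
  -- the frozen inputs
  have h17p := Cfsg.Agent.S1417.result hG M hM p hpτ A ⟨hAM, hA.2.1, hA.2.2⟩
  have h18p := Cfsg.Agent.S1418.result hG M hM E hE p hpτ A hA
  have h17q := Cfsg.Agent.S1417.result hG M hM q hqτ B ⟨hBM, hBel, hBc⟩
  have h18q := Cfsg.Agent.S1418.result hG M hM E hE q hqτ B ⟨hmE, hBel, hBc⟩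
  have hCAM : centralizer (A : Set G) ≤ M := h18p.2.1.1.trans inf_le_left
  have hCAE : centralizer (A : Set G) ≤ E := by rw [← h18p.2.1.2.1]; exact h18p.2.1.1
  have hCBE : centralizer (B : Set G) ≤ E := by rw [← h18q.2.1.2.1]; exact h18q.2.1.1
  obtain ⟨S', x, z, hAS, hxS, hxA, hxM, hSMc, hzA, hz1, -, -⟩ :=
    exists_p_element M p hS A hAM hA.2.2 h17p.2.1 hCAM
  set S : Subgroup G := (S' : Subgroup G) with hSdef
  have hSp : IsPGroup p S := S'.isPGroup'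
  -- `[A, B] = 1`
  have hcop : (Nat.card A).Coprime (Nat.card B) := by
    rw [hA.2.2, hBc]
    exact Nat.Coprime.pow 2 2 ((Nat.coprime_primes hp.out hq.out).mpr (Ne.symm hqp))
  have hAB := comm_of_normal_coprime hA.1 hmE h18p.1.1 h18q.1.1 hcop
  have hBCA : B ≤ centralizer (A : Set G) := by
    intro b hb
    rw [Subgroup.mem_centralizer_iff]
    intro a ha
    exact hAB a ha b hb
  have hACB : A ≤ centralizer (B : Set G) := by
    intro a ha
    rw [Subgroup.mem_centralizer_iff]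
    intro b hb
    exact (hAB a ha b hb).symm
  have hNAB : normalizer (A : Set G) ≤ normalizer (B : Set G) :=
    normalizer_le_normalizer_of hBCA hCAE h18q.1.2 hBel.2
  have hNBA : normalizer (B : Set G) ≤ normalizer (A : Set G) :=
    normalizer_le_normalizer_of hACB hCBE h18p.1.2 hA.2.1.2
  -- a maximal subgroup over `N_G(A)`
  have hNne : normalizer (A : Set G) ≠ ⊤ := by
    intro h
    have hn : A.Normal := Subgroup.normalizer_eq_top_iff.mp h
    haveI := hG.2.1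
    rcases hn.eq_bot_or_eq_top with h0 | h0
    · have := hA.2.2
      rw [h0, Subgroup.card_bot] at this
      have := hp.out.one_lt
      nlinarith
    · exact ne_top_of_isPGroup hG (IsPGroup.of_card hA.2.2) h0
  obtain ⟨Ms, hMs, hNMs⟩ := exists_coatom_ge hNne
  have hAMs : A ≤ Ms := Subgroup.le_normalizer.trans hNMs
  have hEMs : E ≤ Ms := h18p.1.1.trans hNMs
  have hBMs : B ≤ Ms := hmE.trans hEMs
  have hxMs : x ∈ Ms := hNMs hxA
  -- `p ∈ σ(M*)`
  have hσp : p ∈ sigma Ms := by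
    apply mem_sigma_of_nonabelian' hG p (S ⊓ Ms) (hSp.to_le inf_le_left) _ Ms hMs inf_le_right
    intro hc
    apply hxM
    apply hCAM
    rw [Subgroup.mem_centralizer_iff]
    intro a ha
    have := hc.is_comm.comm ⟨a, hAS ha, hAMs ha⟩ ⟨x, hxS, hxMs⟩
    exact congrArg Subtype.val this
  -- `q ∈ σ(M*)`
  have hqMs : q ∣ Nat.card Ms := by
    have := Subgroup.card_dvd_of_le hBMs
    rw [hBc] at this
    exact dvd_trans (dvd_pow_self q (by norm_num)) this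
  have hσq : q ∈ sigma Ms := by
    by_contra hns
    have h2 : PRankLE q 2 Ms := by
      by_contra h2
      exact hns (mem_sigma_of_not_pRankLE_two hG hMs h2 hqMs)
    have h1 : ¬ PRankLE q 1 Ms := not_pRankLE_of_elemAb hBMs hBel (by
      rw [hBc]; exact Nat.pow_lt_pow_right hq.out.one_lt (by norm_num))
    have hτ : q ∈ tau2 Ms := ⟨hq.out, hns, h2, h1⟩
    have h17s := Cfsg.Agent.S1417.result hG Ms hMs q hτ B ⟨hBMs, hBel, hBc⟩
    -- Sylow `q`-subgroup `Q` of `M` over `B`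
    obtain ⟨Q', hQ'⟩ := ((IsPGroup.of_card hBc).comap_subtype (K := M)).exists_le_sylow
    set Q : Subgroup G := (Q' : Subgroup M).map M.subtype with hQdef
    have hBQ : B ≤ Q := by
      intro b hb
      exact ⟨⟨b, hBM hb⟩, hQ' (by rw [Subgroup.mem_comap]; exact hb), rfl⟩
    obtain ⟨hQcomm, hQ2⟩ := h17q.2.1 Q'
    obtain ⟨hQiff, -⟩ := hQ2 hBQ
    have hQc : ∀ a ∈ Q, ∀ b ∈ Q, a * b = b * a := by
      rintro _ ⟨a, ha, rfl⟩ _ ⟨b, hb, rfl⟩
      have := hQcomm.is_comm.comm ⟨a, ha⟩ ⟨b, hb⟩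
      have h2 : (a * b : M) = b * a := congrArg Subtype.val this
      exact congrArg Subtype.val h2
    have hQCB : Q ≤ centralizer (B : Set G) := by
      intro y hy
      rw [Subgroup.mem_centralizer_iff]
      intro b hb
      exact hQc b (hBQ hb) y hy
    have hQMs : Q ≤ Ms := (hQCB.trans hCBE).trans hEMs
    have hQq : IsPGroup q Q := Q'.isPGroup'.map _
    obtain ⟨Qs', hQs'⟩ := (hQq.comap_subtype (K := Ms)).exists_le_sylow
    set Qs : Subgroup G := (Qs' : Subgroup Ms).map Ms.subtype with hQsdef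
    have hQQs : Q ≤ Qs := by
      intro y hy
      exact ⟨⟨y, hQMs hy⟩, hQs' (by rw [Subgroup.mem_comap]; exact hy), rfl⟩
    have hQscomm := (h17s.2.1 Qs').1
    have hQsc : ∀ a ∈ Qs, ∀ b ∈ Qs, a * b = b * a := by
      rintro _ ⟨a, ha, rfl⟩ _ ⟨b, hb, rfl⟩
      have := hQscomm.is_comm.comm ⟨a, ha⟩ ⟨b, hb⟩
      have h2 : (a * b : Ms) = b * a := congrArg Subtype.val this
      exact congrArg Subtype.val h2
    have hQsCB : Qs ≤ centralizer (B : Set G) := by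
      intro y hy
      rw [Subgroup.mem_centralizer_iff]
      intro b hb
      exact hQsc b (hQQs (hBQ hb)) y hy
    have hQsM : Qs ≤ M := (hQsCB.trans hCBE).trans hEM
    have hQsq : IsPGroup q Qs := Qs'.isPGroup'.map _
    have hQsQ : Qs ≤ Q := by
      have hle : (Q' : Subgroup M) ≤ Qs.subgroupOf M := by
        intro u hu
        rw [Subgroup.mem_subgroupOf]
        exact hQQs ⟨u, hu, rfl⟩
      have heq := Q'.is_maximal' (hQsq.comap_subtype (K := M)) hle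
      intro y hy
      have : (⟨y, hQsM hy⟩ : M) ∈ Qs.comap M.subtype := by
        rw [Subgroup.mem_comap]; exact hy
      rw [heq] at this
      exact ⟨⟨y, hQsM hy⟩, this, rfl⟩
    have hQeq : Qs = Q := le_antisymm hQsQ hQQs
    -- `N_G(Q) ≤ N_G(B) ≤ N_G(A) ≤ M*`
    have hNQ : normalizer (Qs : Set G) ≤ Ms := by
      refine le_trans ?_ (hNBA.trans hNMs)
      rw [hQeq]
      intro n hn
      apply Subgroup.mem_normalizer_fintype
      intro b hb
      have h1 : n * b * n⁻¹ ∈ Q := (Subgroup.mem_normalizer_iff.mp hn b).mp (hBQ hb)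
      apply (hQiff _ h1).mp
      rw [conj_pow, hBel.2 b hb]
      simp
    exact hns ⟨hq.out, hqMs, Qs', hNQ⟩
  -- `x ∈ M*_σ`, `B ≤ M*_σ`
  have hxσ : zpowers x ≤ sigmaCore Ms :=
    le_sigmaCore_of_mem_sigma' hG p (zpowers x)
      (hSp.to_le (by rw [Subgroup.zpowers_le]; exact hxS)) Ms hMs
      (by rw [Subgroup.zpowers_le]; exact hxMs) hσp
  have hBσ : B ≤ sigmaCore Ms :=
    le_sigmaCore_of_mem_sigma' hG q B (IsPGroup.of_card hBc) Ms hMs hBMs hσq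
  have hxH : x ∈ sigmaCore Ms := hxσ (Subgroup.mem_zpowers x)
  -- normal `q`-complement of `M*_σ`
  have hqβ : q ∉ beta Ms := by
    intro h
    exact (Cfsg.Agent.S1408.result hG M hM q hqτ.2.1 hqτ.2.2.1 hqτ.2.2.2).1 h.2
  obtain ⟨Qr, N, hNn, hNc⟩ :=
    ((Cfsg.Agent.S1414.result hG Ms hMs).2.2.2.2 q hq.out hqMs hqβ).2.1
  haveI := hNn
  obtain ⟨k, hk⟩ := IsPGroup.iff_card.mp Qr.isPGroup'
  have hidx : N.index = q ^ k := by rw [← hk]; exact hNc.symm.index_eq_card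
  have hNcard : (Nat.card N).Coprime q := by
    rw [← hNc.index_eq_card]
    exact ((Nat.Prime.coprime_iff_not_dvd hq.out).mpr Qr.not_dvd_index).symm
  -- `x ∈ N`
  have hxord : (orderOf (⟨x, hxH⟩ : sigmaCore Ms)).Coprime q := by
    have h1 : orderOf (⟨x, hxH⟩ : sigmaCore Ms) = orderOf x := Subgroup.orderOf_mk x hxH
    rw [h1]
    obtain ⟨j, hj⟩ := (IsPGroup.iff_orderOf.mp hSp) ⟨x, hxS⟩
    have h2 : orderOf (⟨x, hxS⟩ : S) = orderOf x := Subgroup.orderOf_mk x hxS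
    rw [h2] at hj
    rw [hj]
    exact Nat.Coprime.pow_left j ((Nat.coprime_primes hp.out hq.out).mpr (Ne.symm hqp))
  have hxN : (⟨x, hxH⟩ : sigmaCore Ms) ∈ N := mem_of_normal_of_index_pow N hidx _ hxord
  -- `x` centralizes `B`
  apply hxM
  apply hCBE.trans hEM
  rw [Subgroup.mem_centralizer_iff]
  intro b hb
  have hbH : b ∈ sigmaCore Ms := hBσ hb
  have hcN : (⟨x, hxH⟩ : sigmaCore Ms) * ⟨b, hbH⟩ * (⟨x, hxH⟩ : sigmaCore Ms)⁻¹ * (⟨b, hbH⟩ : sigmaCore Ms)⁻¹ ∈ N := by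
    have h1 : (⟨b, hbH⟩ : sigmaCore Ms) * (⟨x, hxH⟩ : sigmaCore Ms)⁻¹ * (⟨b, hbH⟩ : sigmaCore Ms)⁻¹ ∈ N :=
      hNn.conj_mem _ (N.inv_mem hxN) _
    have h2 := N.mul_mem hxN h1
    have h3 : (⟨x, hxH⟩ : sigmaCore Ms) * ⟨b, hbH⟩ * (⟨x, hxH⟩ : sigmaCore Ms)⁻¹ * (⟨b, hbH⟩ : sigmaCore Ms)⁻¹
        = ⟨x, hxH⟩ * (⟨b, hbH⟩ * (⟨x, hxH⟩ : sigmaCore Ms)⁻¹ * (⟨b, hbH⟩ : sigmaCore Ms)⁻¹) := by group
    rw [h3]; exact h2
  have hcB : x * b * x⁻¹ * b⁻¹ ∈ B := by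
    have : x * b * x⁻¹ ∈ B := (Subgroup.mem_normalizer_iff.mp (hNAB hxA) b).mp hb
    exact B.mul_mem this (B.inv_mem hb)
  have hc1 : (x * b * x⁻¹ * b⁻¹) ^ Nat.card N = 1 := by
    have h1 : (⟨_, hcN⟩ : N) ^ Nat.card N = 1 := pow_card_eq_one'
    have h2 : ((⟨x, hxH⟩ : sigmaCore Ms) * ⟨b, hbH⟩ * (⟨x, hxH⟩ : sigmaCore Ms)⁻¹ *
        (⟨b, hbH⟩ : sigmaCore Ms)⁻¹) ^ Nat.card N = 1 := by
      simpa only [Subgroup.coe_pow, Subgroup.coe_one] using congrArg Subtype.val h1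
    simpa only [Subgroup.coe_pow, Subgroup.coe_one, Subgroup.coe_mul, Subgroup.coe_inv] using
      congrArg Subtype.val h2
  have hc2 : (x * b * x⁻¹ * b⁻¹) ^ q = 1 := hBel.2 _ hcB
  have hc3 : x * b * x⁻¹ * b⁻¹ = 1 := by
    have h1 : orderOf (x * b * x⁻¹ * b⁻¹) ∣ Nat.gcd (Nat.card N) q :=
      Nat.dvd_gcd (orderOf_dvd_of_pow_eq_one hc1) (orderOf_dvd_of_pow_eq_one hc2)
    rw [hNcard, Nat.dvd_one] at h1
    exact orderOf_eq_one_iff.mp h1
  calc b * x = (x * b * x⁻¹ * b⁻¹)⁻¹ * (x * b) := by group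
    _ = x * b := by rw [hc3]; group

end Cfsg.Agent.Helper29.BG127
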