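import Mathlib
import Cfsg.Prelude.Def_OddOrderLocal
import Cfsg.Agent.S1412
import Cfsg.Agent.S1453
import Cfsg.Agent.Lib.Helper29.BG127b
import Cfsg.Agent.Lib.Helper29.BG127c

/-!
# B-G Theorem 12.7: the structure of `C_S(A)` (helper29)

For a nonabelian Sylow `p`-subgroup `S` of `G` and a maximal elementary abelian `A ≤ S` of order `p ^ 2`
there is a subgroup `C` containing all `p`-th powers of elements of `C_S(A)` and whose elements of order
`p` are central in `S`.
-/

set_option autoImplicit false

namespace Cfsg.Agent.Helper29.BG127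

open Subgroup Cfsg
open Cfsg.Agent.Helper29.BG12

variable {G : Type*} [Group G]

theorem elemAb_subgroupOf {p : ℕ} {A : Subgroup G} (hA : IsElementaryAbelian p A) (S : Subgroup G) :
    IsElementaryAbelian p (A.subgroupOf S) := by
  have hc := elemAb_comm hA
  refine ⟨⟨⟨?_⟩⟩, ?_⟩
  · rintro ⟨a, ha⟩ ⟨b, hb⟩
    apply Subtype.ext
    apply Subtype.ext
    exact hc a ha b hb
  · intro a ha
    apply Subtype.ext
    have := hA.2 (a : G) ha
    simpa using this

theorem elemAb_map_subtype' {p : ℕ} {S : Subgroup G} {B : Subgroup S}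
    (hB : IsElementaryAbelian p B) : IsElementaryAbelian p (B.map S.subtype) := by
  have hc := elemAb_comm hB
  refine ⟨⟨⟨?_⟩⟩, ?_⟩
  · rintro ⟨_, a, ha, rfl⟩ ⟨_, b, hb, rfl⟩
    apply Subtype.ext
    have := hc a ha b hb
    show (a : G) * (b : G) = (b : G) * (a : G)
    exact congrArg Subtype.val this
  · rintro _ ⟨a, ha, rfl⟩
    have := hB.2 a ha
    have h2 := congrArg Subtype.val this
    simpa using h2

/-- an element of order dividing `p` centralizing a maximal elementary abelian subgroup lies in it. -/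
theorem mem_of_centralizes_of_max {p : ℕ} {A : Subgroup G} (hA : IsElementaryAbelian p A)
    (hAmax : ∀ B : Subgroup G, IsElementaryAbelian p B → A ≤ B → B = A)
    {c : G} (hcA : c ∈ centralizer (A : Set G)) (hcp : c ^ p = 1) : c ∈ A := by
  have hAc := elemAb_comm hA
  have hcomm : ∀ a ∈ A, ∀ b ∈ zpowers c, a * b = b * a := by
    intro a ha b hb
    obtain ⟨k, rfl⟩ := Subgroup.mem_zpowers_iff.mp hb
    have h1 : a * c = c * a := (Subgroup.mem_centralizer_iff.mp hcA) a ha
    have h2 : Commute a c := h1
    exact (h2.zpow_right k).eq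
  have hel : IsElementaryAbelian p (A ⊔ zpowers c) := by
    refine ⟨⟨⟨?_⟩⟩, ?_⟩
    · rintro ⟨u, hu⟩ ⟨v, hv⟩
      apply Subtype.ext
      obtain ⟨a, ha, b, hb, rfl⟩ := mem_sup_of_comm' hcomm hu
      obtain ⟨a', ha', b', hb', rfl⟩ := mem_sup_of_comm' hcomm hv
      obtain ⟨k, rfl⟩ := Subgroup.mem_zpowers_iff.mp hb
      obtain ⟨k', rfl⟩ := Subgroup.mem_zpowers_iff.mp hb'
      show a * c ^ k * (a' * c ^ k') = a' * c ^ k' * (a * c ^ k)
      have e1 := hcomm a' ha' (c ^ k) (Subgroup.zpow_mem_zpowers c k)
      have e2 := hcomm a ha (c ^ k') (Subgroup.zpow_mem_zpowers c k')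
      have e3 := hAc a ha a' ha'
      have e4 : c ^ k * c ^ k' = c ^ k' * c ^ k := (Commute.zpow_zpow_self c k k').eq
      calc a * c ^ k * (a' * c ^ k') = a * (c ^ k * a') * c ^ k' := by group
        _ = a * (a' * c ^ k) * c ^ k' := by rw [e1]
        _ = (a * a') * (c ^ k * c ^ k') := by group
        _ = (a' * a) * (c ^ k' * c ^ k) := by rw [e3, e4]
        _ = a' * (a * c ^ k') * c ^ k := by group
        _ = a' * (c ^ k' * a) * c ^ k := by rw [e2]
        _ = a' * c ^ k' * (a * c ^ k) := by group
    · intro u hu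
      obtain ⟨a, ha, b, hb, rfl⟩ := mem_sup_of_comm' hcomm hu
      have h1 : Commute a b := hcomm a ha b hb
      rw [h1.mul_pow, hA.2 a ha]
      obtain ⟨k, rfl⟩ := Subgroup.mem_zpowers_iff.mp hb
      rw [← zpow_natCast, ← zpow_mul, mul_comm, zpow_mul, zpow_natCast, hcp]
      simp
  have := hAmax _ hel le_sup_left
  rw [← this]
  exact (le_sup_right : zpowers c ≤ A ⊔ zpowers c) (Subgroup.mem_zpowers c)

/-- **Structure of `C_S(A)`**. -/
theorem exists_power_subgroup [Finite G] (hG : IsMinSimpleOddOrder G) (p : ℕ) [hp : Fact p.Prime]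
    (hp2 : p ≠ 2) (S' : Sylow p G) (hSna : ¬ IsMulCommutative (S' : Subgroup G))
    (A : Subgroup G) (hAS : A ≤ (S' : Subgroup G)) (hAel : IsElementaryAbelian p A)
    (hAcard : Nat.card A = p ^ 2)
    (hAmax : ∀ B : Subgroup G, IsElementaryAbelian p B → A ≤ B → B = A)
    (z : G) (hzA : z ∈ A) (hz1 : z ≠ 1) (hzc : ∀ y ∈ (S' : Subgroup G), y * z = z * y) :
    ∃ C : Subgroup G, (∀ y ∈ (S' : Subgroup G), y ∈ centralizer (A : Set G) → y ^ p ∈ C) ∧
      (∀ c ∈ C, c ^ p = 1 → ∀ y ∈ (S' : Subgroup G), y * c = c * y) := by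
  classical
  set S : Subgroup G := (S' : Subgroup G) with hSdef
  by_cases hr : PRankLE p 2 S
  · -- rank two: `S = P₁ ∘ P₂`
    rcases Cfsg.Agent.S1412.result hG p S' hr with h | ⟨P₁, P₂, hsup, hcomm, -, -, hexp, hcyc, -⟩
    · exact absurd h hSna
    · refine ⟨P₂, ?_, ?_⟩
      · intro y hy _
        rw [hSdef, ← hsup] at hy
        obtain ⟨a, ha, b, hb, rfl⟩ := mem_sup_of_comm' hcomm hy
        have h1 : Commute a b := hcomm a ha b hb
        rw [h1.mul_pow]
        have h2 : a ^ p = 1 := by
          have h3 : (⟨a, ha⟩ : P₁) ^ Monoid.exponent P₁ = 1 := Monoid.pow_exponent_eq_one _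
          rw [hexp] at h3
          exact congrArg Subtype.val h3
        rw [h2, one_mul]
        exact P₂.pow_mem hb p
      · intro c hc _ y hy
        rw [hSdef, ← hsup] at hy
        obtain ⟨a, ha, b, hb, rfl⟩ := mem_sup_of_comm' hcomm hy
        have h1 := hcomm a ha c hc
        haveI := hcyc
        have h2 : b * c = c * b := by
          have := (IsCyclic.isMulCommutative (α := P₂)).is_comm.comm ⟨b, hb⟩ ⟨c, hc⟩
          exact congrArg Subtype.val this
        calc a * b * c = a * (b * c) := by group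
          _ = a * (c * b) := by rw [h2]
          _ = (a * c) * b := by group
          _ = (c * a) * b := by rw [h1]
          _ = c * (a * b) := by group
  · -- rank at least three: the narrow structure
    have hSp : IsPGroup p S := S'.isPGroup'
    set A' : Subgroup S := A.subgroupOf S with hA'
    have hA'el : IsElementaryAbelian p A' := elemAb_subgroupOf hAel S
    have hA'card : Nat.card A' = p ^ 2 := by rw [hA', card_subgroupOf_of_le hAS, hAcard]
    have hA'max : ∀ B : Subgroup S, IsElementaryAbelian p B → A' ≤ B → B = A' := by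
      intro B hB hle
      have h1 : A ≤ B.map S.subtype := by
        intro a ha
        exact ⟨⟨a, hAS ha⟩, hle (by rw [hA', Subgroup.mem_subgroupOf]; exact ha), rfl⟩
      have h2 := hAmax _ (elemAb_map_subtype' hB) h1
      rw [hA', ← h2]
      ext u
      rw [Subgroup.mem_subgroupOf]
      constructor
      · intro hu; exact ⟨u, hu, rfl⟩
      · rintro ⟨v, hv, hvu⟩
        have : v = u := Subtype.ext hvu
        rw [← this]; exact hv
    obtain ⟨hnle, -, -, hchar, hidx⟩ :=
      Cfsg.Agent.S1453.result (R := S) p hp2 hSp hr A' hA'el hA'card hA'max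
    set W : Subgroup S :=
      Subgroup.closure {x : S | x ∈ Subgroup.upperCentralSeries S 2 ∧ x ^ p = 1} with hW
    set T : Subgroup S := Subgroup.centralizer (W : Set S) with hT
    haveI : T.Normal := by
      haveI := hchar
      infer_instance
    refine ⟨T.map S.subtype ⊓ centralizer (A : Set G), ?_, ?_⟩
    · intro y hy hyA
      refine ⟨?_, Subgroup.pow_mem _ hyA p⟩
      have := Subgroup.pow_index_mem T (⟨y, hy⟩ : S)
      rw [hidx] at this
      exact ⟨⟨y, hy⟩ ^ p, this, by simp⟩
    · intro c hc hcp y hy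
      have hcA : c ∈ A := mem_of_centralizes_of_max hAel hAmax hc.2 hcp
      -- `A ∩ T` has order `p` and contains `z`
      set D : Subgroup G := A ⊓ T.map S.subtype with hD
      have hzS : z ∈ S := hAS hzA
      have hzT : z ∈ T.map S.subtype := by
        refine Subgroup.mem_map.mpr ⟨⟨z, hzS⟩, ?_, rfl⟩
        rw [hT, Subgroup.mem_centralizer_iff]
        intro w _
        apply Subtype.ext
        exact hzc w w.2
      have hzD : z ∈ D := ⟨hzA, hzT⟩
      have hcD : c ∈ D := ⟨hcA, hc.1⟩
      have hDne : D ≠ A := by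
        intro h
        apply hnle
        intro u hu
        rw [hA', Subgroup.mem_subgroupOf] at hu
        have : (u : G) ∈ D := by rw [h]; exact hu
        obtain ⟨v, hv, hvu⟩ := this.2
        have : v = u := Subtype.ext hvu
        rw [← this]; exact hv
      have hDcard : Nat.card D = p := by
        have hd : Nat.card D ∣ p ^ 2 := by rw [← hAcard]; exact Subgroup.card_dvd_of_le inf_le_left
        obtain ⟨k, hk, hk'⟩ := (Nat.dvd_prime_pow hp.out).mp hd
        interval_cases k
        · exfalso
          rw [pow_zero] at hk'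
          have : D = ⊥ := Subgroup.card_eq_one.mp hk'
          rw [this, Subgroup.mem_bot] at hzD
          exact hz1 hzD
        · rw [hk', pow_one]
        · exfalso; apply hDne
          exact Subgroup.eq_of_le_of_card_ge inf_le_left (by rw [hk', hAcard])
      obtain ⟨n, hn⟩ := exists_pow_eq_of_card_prime hDcard hzD hz1 hcD
      rw [← hn]
      have h1 : Commute y z := hzc y hy
      exact (h1.pow_right n).eq

end Cfsg.Agent.Helper29.BG127
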