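import Mathlib
import Cfsg.Prelude.Def_OddOrderLocal
import Cfsg.Agent.S1409
import Cfsg.Agent.Lib.Helper29.BG12s
import Cfsg.Agent.Lib.Helper29.BG127b
import Cfsg.Agent.Lib.Helper29.BG127c
import Cfsg.Agent.Lib.Helper22.Fitting
import Cfsg.Agent.Lib.Helper34.BG10d
import Cfsg.Agent.Lib.Helper76.EqOrd1

/-!
# B-G Theorem 12.7: the Fitting subgroup (helper29)
-/

set_option autoImplicit false

namespace Cfsg.Agent.Helper29.BG127

open Subgroup Cfsg
open Cfsg.Agent.Helper79.BG10 (cj mem_cj conj_mem_cj cj_mono card_cj cj_eq_self_of_mem_normalizer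
  mem_normalizer_of_cj_eq)
open Cfsg.Agent.Helper29.BG12

variable {G : Type*} [Group G] [Finite G]

theorem le_normalizer_map_subtype_of_normal {M : Subgroup G} (N : Subgroup M) [hn : N.Normal] :
    M ≤ normalizer ((N.map M.subtype : Subgroup G) : Set G) := by
  intro m hm
  apply Subgroup.mem_normalizer_fintype
  rintro _ ⟨k, hk, rfl⟩
  refine ⟨⟨m, hm⟩ * k * ⟨m, hm⟩⁻¹, hn.conj_mem k hk ⟨m, hm⟩, ?_⟩
  simp

theorem normalizer_ne_top_of_card (hG : IsMinSimpleOddOrder G) {p : ℕ} [hp : Fact p.Prime]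
    {A : Subgroup G} {k : ℕ} (hk : k ≠ 0) (hA : Nat.card A = p ^ k) :
    normalizer (A : Set G) ≠ ⊤ := by
  intro h
  have hn : A.Normal := Subgroup.normalizer_eq_top_iff.mp h
  haveI := hG.2.1
  rcases hn.eq_bot_or_eq_top with h0 | h0
  · rw [h0, Subgroup.card_bot] at hA
    have h1 : 1 < p ^ k := Nat.one_lt_pow hk hp.out.one_lt
    omega
  · exact ne_top_of_isPGroup hG (IsPGroup.of_card hA) h0

/-- a subgroup normalized by the maximal subgroup `M`, nontrivial of prime power order, has
normalizer `M`. -/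
theorem normalizer_le_of_le_normalizer (hG : IsMinSimpleOddOrder G) {M : Subgroup G}
    (hM : IsCoatom M) {p : ℕ} [hp : Fact p.Prime] {Y : Subgroup G} {k : ℕ} (hk : k ≠ 0)
    (hY : Nat.card Y = p ^ k) (hMY : M ≤ normalizer (Y : Set G)) : normalizer (Y : Set G) ≤ M := by
  by_contra h
  have hlt : M < normalizer (Y : Set G) := lt_of_le_of_ne hMY (fun he => h (he ▸ le_rfl))
  exact normalizer_ne_top_of_card hG hk hY (hM.2 _ hlt)

theorem le_fitting {M : Subgroup G} (hnil : Group.IsNilpotent (sigmaCore M))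
    {p : ℕ} [hp : Fact p.Prime] {X₀ : Subgroup G} (hX₀M : X₀ ≤ M) (hX₀c : Nat.card X₀ = p)
    (hX₀n : M ≤ normalizer (X₀ : Set G)) : sigmaCore M ⊔ X₀ ≤ fittingOf M := by
  apply sup_le
  · unfold sigmaCore fittingOf
    apply Subgroup.map_mono
    have hn : (piCore (sigma M) M).Normal := inferInstance
    have e := Subgroup.equivMapOfInjective (piCore (sigma M) M) M.subtype M.subtype_injective
    have hnil' : Group.IsNilpotent (piCore (sigma M) M) := by
      haveI : Group.IsNilpotent ((piCore (sigma M) M).map M.subtype) := hnil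
      exact Group.nilpotent_of_mulEquiv e.symm
    exact Cfsg.Agent.Helper22.le_fittingSubgroup hn hnil'
  · unfold fittingOf
    rw [← Subgroup.map_subgroupOf_eq_of_le hX₀M]
    apply Subgroup.map_mono
    have hn : (X₀.subgroupOf M).Normal :=
      (Subgroup.normal_subgroupOf_iff_le_normalizer hX₀M).mpr hX₀n
    have hc : Nat.card (X₀.subgroupOf M) = p ^ 1 := by
      rw [card_subgroupOf_of_le hX₀M, hX₀c, pow_one]
    have hnil' : Group.IsNilpotent (X₀.subgroupOf M) := (IsPGroup.of_card hc).isNilpotent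
    exact Cfsg.Agent.Helper22.le_fittingSubgroup hn hnil'

theorem fitting_le (hG : IsMinSimpleOddOrder G) (M : Subgroup G) (hM : IsCoatom M)
    (p : ℕ) [hp : Fact p.Prime] (hτ : tau2 M = {p}) (X₀ : Subgroup G)
    (hRX : ∀ R : Subgroup G, R ≤ M → M ≤ normalizer (R : Set G) → IsPGroup p R → R ≤ X₀) :
    fittingOf M ≤ sigmaCore M ⊔ X₀ := by
  classical
  unfold fittingOf
  rw [Cfsg.Agent.Helper22.fittingSubgroup_eq_iSup_pCore, Subgroup.map_iSup]
  apply iSup_le
  rintro ⟨r, hr⟩
  haveI : Fact r.Prime := ⟨hr⟩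
  set R' : Subgroup M := pCore r M with hR'
  have hR'n : R'.Normal := Subgroup.sSup_normal _ (fun _ h => h.1)
  have hR'p : IsPGroup r R' := Cfsg.Agent.Helper22.isPGroup_pCore r
  show R'.map M.subtype ≤ sigmaCore M ⊔ X₀
  by_cases hrσ : r ∈ sigma M
  · refine le_trans (Subgroup.map_mono ?_) le_sup_left
    apply le_sSup
    refine ⟨hR'n, fun q hq hqd => ?_⟩
    obtain ⟨k, hk⟩ := IsPGroup.iff_card.mp hR'p
    rw [hk] at hqd
    have := (Nat.prime_dvd_prime_iff_eq hq hr).mp (hq.dvd_of_dvd_pow hqd)
    rw [this]; exact hrσ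
  · by_cases hR : R' = ⊥
    · rw [hR, Subgroup.map_bot]; exact bot_le
    · set R : Subgroup G := R'.map M.subtype with hRdef
      have hRM : R ≤ M := Subgroup.map_subtype_le _
      have hRn : M ≤ normalizer (R : Set G) := le_normalizer_map_subtype_of_normal R'
      have hRp : IsPGroup r R := hR'p.map _
      have hRne : R ≠ ⊥ := by
        intro h
        apply hR
        rw [eq_bot_iff]
        intro u hu
        have : (u : G) ∈ R := ⟨u, hu, rfl⟩
        rw [h, Subgroup.mem_bot] at this
        rw [Subgroup.mem_bot]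
        exact Subtype.ext this
      obtain ⟨Y, hYR, hYc⟩ := exists_card_eq_prime_le hRp hRne
      have hrM : r ∣ Nat.card M := by
        rw [← hYc]; exact Subgroup.card_dvd_of_le (hYR.trans hRM)
      have hr2 : r ≠ 2 := Cfsg.Agent.Helper34.BG.prime_ne_two hG M hrM
      have hmem : r ∈ tau2 M := by
        have h2 : PRankLE r 2 M := by
          by_contra h2
          exact hrσ (mem_sigma_of_not_pRankLE_two hG hM h2 hrM)
        have h1 : ¬ PRankLE r 1 M := by
          intro h1
          have hR1 : PRankLE r 1 R := by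
            by_contra h
            obtain ⟨E₀, hE₀R, hE₀, hE₀c⟩ := Cfsg.Agent.Helper34.BG.exists_elemAb_of_not_pRankLE h
            exact not_pRankLE_of_elemAb (hE₀R.trans hRM) hE₀ hE₀c h1
          haveI hcyc : IsCyclic R := Cfsg.Agent.Helper34.BG.isCyclic_of_pRankLE_one hr2 hRp hR1
          have hYn : M ≤ normalizer (Y : Set G) := by
            intro m hm
            apply mem_normalizer_of_cj_eq
            have hle : cj m Y ≤ R := by
              have := cj_mono m hYR
              rwa [cj_eq_self_of_mem_normalizer (hRn hm)] at this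
            exact Cfsg.Agent.Helper76.EqOrd.eq_of_card_eq_of_le_isCyclic R (cj m Y) Y hle hYR
              (card_cj m Y)
          have hNY : normalizer (Y : Set G) ≤ M :=
            normalizer_le_of_le_normalizer hG hM (k := 1) one_ne_zero (by rw [hYc, pow_one]) hYn
          exact (Cfsg.Agent.S1409.result hG M hM r hrσ Y hYc hNY).1.2 h1
        exact ⟨hr, hrσ, h2, h1⟩
      rw [hτ] at hmem
      have hrp : r = p := hmem
      subst hrp
      exact le_trans (hRX R hRM hRn hRp) le_sup_right

end Cfsg.Agent.Helper29.BG127
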