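import Mathlib
import Cfsg.Prelude.Def_OddOrderLocal

/-!
# General lemmas for B-G Theorem 12.12 (helper29)
-/

set_option autoImplicit false

namespace Cfsg.Agent.Helper29.BG1212

open Subgroup

variable {G : Type*} [Group G]

/-- an element all of whose prime-power-order powers lie in `C` lies in `C`. -/
theorem mem_of_primePow_powers_mem [Finite G] (C : Subgroup G) :
    ∀ (n : ℕ) (g : G), orderOf g = n →
      (∀ m : ℕ, (∃ r k : ℕ, r.Prime ∧ (g ^ m) ^ (r ^ k) = 1) → g ^ m ∈ C) → g ∈ C := by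
  intro n
  induction n using Nat.strong_induction_on with
  | _ n ih =>
    intro g hg h
    by_cases hn1 : n = 1
    · rw [hn1, orderOf_eq_one_iff] at hg
      rw [hg]; exact C.one_mem
    have hn0 : n ≠ 0 := by
      rw [← hg]; exact (orderOf_pos g).ne'
    set r := n.minFac with hr
    have hrp : r.Prime := Nat.minFac_prime hn1
    set a := n.factorization r with ha
    set m' := n / r ^ a with hm'
    have hdvd : r ^ a ∣ n := Nat.ordProj_dvd n r
    have hmul : r ^ a * m' = n := Nat.mul_div_cancel' hdvd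
    have hcop : Nat.Coprime (r ^ a) m' := by
      apply Nat.Coprime.pow_left
      exact Nat.coprime_ordCompl hrp hn0
    have ha0 : a ≠ 0 := by
      have : r ∣ n := Nat.minFac_dvd n
      exact (hrp.factorization_pos_of_dvd hn0 this).ne'
    have hra : 1 < r ^ a := Nat.one_lt_pow ha0 hrp.one_lt
    -- first part
    have h1 : g ^ m' ∈ C := by
      apply h
      refine ⟨r, a, hrp, ?_⟩
      rw [← pow_mul, mul_comm, hmul, ← hg, pow_orderOf_eq_one]
    -- second part
    have h2 : g ^ (r ^ a) ∈ C := by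
      have hpos : r ^ a ≠ 0 := (Nat.pos_of_ne_zero (by positivity)).ne'
      have hord : orderOf (g ^ (r ^ a)) = m' := by
        rw [orderOf_pow' g hpos, hg, Nat.gcd_eq_right hdvd]
      have hlt : m' < n := by
        rw [hm']
        exact Nat.div_lt_self (Nat.pos_of_ne_zero hn0) hra
      apply ih m' hlt (g ^ (r ^ a)) hord
      intro m hm
      obtain ⟨s, k, hs, hsk⟩ := hm
      rw [← pow_mul]
      apply h
      refine ⟨s, k, hs, ?_⟩
      rw [pow_mul]; exact hsk
    -- Bezout
    have hb := Int.gcd_eq_gcd_ab (m' : ℤ) ((r ^ a : ℕ) : ℤ)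
    have hg1 : Int.gcd (m' : ℤ) ((r ^ a : ℕ) : ℤ) = 1 := by
      rw [Int.gcd_natCast_natCast]
      exact hcop.symm
    rw [hg1] at hb
    have : g = (g ^ m') ^ (Int.gcdA (m' : ℤ) ((r ^ a : ℕ) : ℤ)) *
        (g ^ (r ^ a)) ^ (Int.gcdB (m' : ℤ) ((r ^ a : ℕ) : ℤ)) := by
      rw [← zpow_natCast g m', ← zpow_natCast g (r ^ a), ← zpow_mul, ← zpow_mul, ← zpow_add,
        ← hb]
      simp
    rw [this]
    exact C.mul_mem (C.zpow_mem h1 _) (C.zpow_mem h2 _)

/-- two elements normalizing a cyclic subgroup: `x⁻¹ v⁻¹ x v` centralizes it. -/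
theorem comm_inv_mem_centralizer_of_cyclic {C : Subgroup G} (hC : IsCyclic C) {x v : G}
    (hx : x ∈ normalizer (C : Set G)) (hv : v ∈ normalizer (C : Set G)) :
    x⁻¹ * v⁻¹ * x * v ∈ centralizer (C : Set G) := by
  obtain ⟨g, hg⟩ := hC.exists_generator
  have hxg : x * (g : G) * x⁻¹ ∈ C := (Subgroup.mem_normalizer_iff.mp hx g).mp g.2
  have hvg : v * (g : G) * v⁻¹ ∈ C := (Subgroup.mem_normalizer_iff.mp hv g).mp g.2
  obtain ⟨a, ha⟩ := Subgroup.mem_zpowers_iff.mp (hg ⟨_, hxg⟩)
  obtain ⟨b, hb⟩ := Subgroup.mem_zpowers_iff.mp (hg ⟨_, hvg⟩)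
  have ha' : (g : G) ^ a = x * (g : G) * x⁻¹ := by
    have := congrArg Subtype.val ha
    simpa using this
  have hb' : (g : G) ^ b = v * (g : G) * v⁻¹ := by
    have := congrArg Subtype.val hb
    simpa using this
  -- `x v g (x v)⁻¹ = g ^ (a b) = v x g (v x)⁻¹`
  have h1 : x * v * (g : G) * (x * v)⁻¹ = (g : G) ^ (b * a) := by
    calc x * v * (g : G) * (x * v)⁻¹ = x * (v * (g : G) * v⁻¹) * x⁻¹ := by group
      _ = x * ((g : G) ^ b) * x⁻¹ := by rw [hb']
      _ = (x * (g : G) * x⁻¹) ^ b := by rw [conj_zpow]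
      _ = ((g : G) ^ a) ^ b := by rw [ha']
      _ = (g : G) ^ (b * a) := by rw [← zpow_mul, mul_comm]
  have h2 : v * x * (g : G) * (v * x)⁻¹ = (g : G) ^ (b * a) := by
    calc v * x * (g : G) * (v * x)⁻¹ = v * (x * (g : G) * x⁻¹) * v⁻¹ := by group
      _ = v * ((g : G) ^ a) * v⁻¹ := by rw [ha']
      _ = (v * (g : G) * v⁻¹) ^ a := by rw [conj_zpow]
      _ = ((g : G) ^ b) ^ a := by rw [hb']
      _ = (g : G) ^ (b * a) := by rw [← zpow_mul]
  have h3 : (x⁻¹ * v⁻¹ * x * v) * (g : G) = (g : G) * (x⁻¹ * v⁻¹ * x * v) := by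
    have h4 : x * v * (g : G) * (x * v)⁻¹ = v * x * (g : G) * (v * x)⁻¹ := by rw [h1, h2]
    calc (x⁻¹ * v⁻¹ * x * v) * (g : G)
        = (v * x)⁻¹ * (x * v * (g : G) * (x * v)⁻¹) * (x * v) := by group
      _ = (v * x)⁻¹ * (v * x * (g : G) * (v * x)⁻¹) * (x * v) := by rw [h4]
      _ = (g : G) * (x⁻¹ * v⁻¹ * x * v) := by group
  rw [Subgroup.mem_centralizer_iff]
  intro c hc
  obtain ⟨k, hk⟩ := Subgroup.mem_zpowers_iff.mp (hg ⟨c, hc⟩)
  have hk' : (g : G) ^ k = c := by
    have := congrArg Subtype.val hk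
    simpa using this
  rw [← hk']
  have hcm : Commute (x⁻¹ * v⁻¹ * x * v) (g : G) := h3
  exact (hcm.zpow_right k).eq.symm

/-- a subgroup of order prime to the index of a normal subgroup lies in it. -/
theorem le_of_coprime_index {L : Type*} [Group L] [Finite L] (N : Subgroup L) [N.Normal]
    (Q : Subgroup L) (h : (Nat.card Q).Coprime N.index) : Q ≤ N := by
  intro y hy
  rw [← QuotientGroup.eq_one_iff]
  have h1 : ((y : L ⧸ N)) ^ Nat.card Q = 1 := by
    rw [← QuotientGroup.mk_pow]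
    have : y ^ Nat.card Q = 1 := by
      have := pow_card_eq_one' (G := Q) (x := ⟨y, hy⟩)
      exact congrArg Subtype.val this
    rw [this]; rfl
  have h2 : ((y : L ⧸ N)) ^ N.index = 1 := by
    have : Nat.card (L ⧸ N) = N.index := (Subgroup.index_eq_card N).symm
    rw [← this]; exact pow_card_eq_one'
  have h3 : orderOf (y : L ⧸ N) ∣ Nat.gcd (Nat.card Q) N.index :=
    Nat.dvd_gcd (orderOf_dvd_of_pow_eq_one h1) (orderOf_dvd_of_pow_eq_one h2)
  rw [h, Nat.dvd_one] at h3
  exact orderOf_eq_one_iff.mp h3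

/-- groups of class at most two are nilpotent. -/
theorem isNilpotent_of_commutator_le_center {H : Type*} [Group H]
    (h : _root_.commutator H ≤ Subgroup.center H) : Group.IsNilpotent H := by
  haveI : Group.IsNilpotent (Abelianization H) := inferInstance
  apply _root_.isNilpotent_of_ker_le_center (Abelianization.of : H →* Abelianization H)
  rw [Abelianization.ker_of]; exact h

/-- a normal Hall subgroup `H` of `C` is normalized by the normalizer of `C`. -/
theorem normalizer_le_normalizer_of_hall [Finite G] {H C : Subgroup G} (hHC : H ≤ C)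
    (hn : C ≤ normalizer (H : Set G)) (hcop : (Nat.card H).Coprime (H.relIndex C)) :
    normalizer (C : Set G) ≤ normalizer (H : Set G) := by
  intro n hn'
  apply Subgroup.mem_normalizer_fintype
  intro h hh
  -- the conjugate of `H` by `n`
  set H' : Subgroup G := H.map (MulAut.conj n).toMonoidHom with hH'
  have hH'C : H' ≤ C := by
    rintro _ ⟨y, hy, rfl⟩
    exact (Subgroup.mem_normalizer_iff.mp hn' y).mp (hHC hy)
  have hcard : Nat.card H' = Nat.card H :=
    Subgroup.card_map_of_injective (MulAut.conj n).injective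
  haveI : (H.subgroupOf C).Normal := (Subgroup.normal_subgroupOf_iff_le_normalizer hHC).mpr hn
  have hle : H'.subgroupOf C ≤ H.subgroupOf C := by
    apply le_of_coprime_index
    have h1 : Nat.card (H'.subgroupOf C) = Nat.card H := by
      rw [← hcard]
      exact Nat.card_congr (Subgroup.subgroupOfEquivOfLe hH'C).toEquiv
    rw [h1]; exact hcop
  have : n * h * n⁻¹ ∈ H' := ⟨h, hh, rfl⟩
  have h2 : (⟨n * h * n⁻¹, hH'C this⟩ : C) ∈ H.subgroupOf C := hle (by
    rw [Subgroup.mem_subgroupOf]; exact this)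
  rw [Subgroup.mem_subgroupOf] at h2
  exact h2

end Cfsg.Agent.Helper29.BG1212
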