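import Mathlib
import Cfsg.Prelude.Def_OddOrderLocal
import Cfsg.Agent.S1350
import Cfsg.Agent.S1405
import Cfsg.Agent.S1408
import Cfsg.Agent.S1414
import Cfsg.Agent.S1417
import Cfsg.Agent.S1418
import Cfsg.Agent.Lib.Helper29.BG12s
import Cfsg.Agent.Lib.Helper29.BG127b
import Cfsg.Agent.Lib.Helper29.BG127c
import Cfsg.Agent.Lib.Helper29.BG127d
import Cfsg.Agent.Lib.Helper29.BG127f
import Cfsg.Agent.Lib.Helper29.BG1212g
import Cfsg.Agent.Lib.Helper55.BGDecomp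

/-!
# B-G Theorem 12.12: basic facts on a complement `E` of `M_σ` and `τ₂(M)`-subgroups (helper29)
-/

set_option autoImplicit false

namespace Cfsg.Agent.Helper29.BG1212

open Subgroup Cfsg
open Cfsg.Agent.Helper79.BG10 (cj mem_cj conj_mem_cj cj_mono card_cj)
open Cfsg.Agent.Helper29.BG12 Cfsg.Agent.Helper29.BG127

variable {G : Type*} [Group G] [Finite G]

/-- prime divisors of `|E|` are not in `σ(M)`. -/
theorem not_mem_sigma_of_dvd_card (hG : IsMinSimpleOddOrder G) {M E : Subgroup G} (hM : IsCoatom M)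
    (hE : IsComplIn E (sigmaCore M) M) {q : ℕ} (hq : q.Prime) (hqE : q ∣ Nat.card E) :
    q ∉ sigma M := by
  intro hσ
  have h50 := (Cfsg.Agent.S1350.result hG M hM).1
  have hnd := h50.2.2 q hq hσ
  have hcard := card_of_isComplIn' hE
  have h2 := Cfsg.Agent.Helper55.BGB.card_mul_relIndex (sigmaCore_le M)
  have hpos : 0 < Nat.card (sigmaCore M) := Nat.card_pos
  have h3 : (sigmaCore M).relIndex M = Nat.card E := by
    have : Nat.card (sigmaCore M) * (sigmaCore M).relIndex M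
        = Nat.card (sigmaCore M) * Nat.card E := by rw [h2, hcard, mul_comm]
    exact Nat.eq_of_mul_eq_mul_left hpos this
  rw [h3] at hnd
  exact hnd hqE

/-- prime divisors of `|E|` lie in `τ₁(M) ∪ τ₂(M) ∪ τ₃(M)`. -/
theorem tau_cases (hG : IsMinSimpleOddOrder G) {M E : Subgroup G} (hM : IsCoatom M)
    (hE : IsComplIn E (sigmaCore M) M) {q : ℕ} (hq : q.Prime) (hqE : q ∣ Nat.card E) :
    q ∈ tau1 M ∨ q ∈ tau2 M ∨ q ∈ tau3 M := by
  haveI : Fact q.Prime := ⟨hq⟩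
  have hσ := not_mem_sigma_of_dvd_card hG hM hE hq hqE
  have hqM : q ∣ Nat.card M := dvd_trans hqE (Subgroup.card_dvd_of_le hE.1)
  have h2 : PRankLE q 2 M := by
    by_contra h
    exact hσ (mem_sigma_of_not_pRankLE_two hG hM h hqM)
  by_cases h1 : PRankLE q 1 M
  · by_cases hd : q ∣ Nat.card ↥⁅M, M⁆
    · right; right; exact ⟨hq, hσ, hd, h1⟩
    · left; exact ⟨hq, hσ, hqM, hd, h1⟩
  · right; left; exact ⟨hq, hσ, h2, h1⟩

/-- for `p ∈ τ₂(M)` the complement `E` contains an elementary abelian subgroup of order `p ^ 2`. -/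
theorem exists_elemAb_le (hG : IsMinSimpleOddOrder G) {M E : Subgroup G} (hM : IsCoatom M)
    (hE : IsComplIn E (sigmaCore M) M) {p : ℕ} [hp : Fact p.Prime] (hpτ : p ∈ tau2 M) :
    ∃ A : Subgroup G, A ≤ E ∧ IsElementaryAbelian p A ∧ Nat.card A = p ^ 2 := by
  obtain ⟨B₀, hB₀M, hB₀, hB₀c⟩ := Cfsg.Agent.Helper34.BG.exists_elemAb_of_not_pRankLE hpτ.2.2.2
  obtain ⟨B₁, hB₁B₀, hB₁, hB₁c⟩ := Cfsg.Agent.Helper34.BG.exists_elemAb_card_eq hB₀ hB₀c
  have hpK : ¬ p ∣ Nat.card (sigmaCore M) := not_dvd_card_sigmaCore hG hM hp.out hpτ.2.1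
  obtain ⟨m, -, hmE⟩ := exists_conj_le_compl hE hpK (hB₁B₀.trans hB₀M) (IsPGroup.of_card hB₁c)
  exact ⟨cj m B₁, hmE, elemAb_cj hB₁ m, by rw [card_cj, hB₁c]⟩

/-- for `p ∈ τ₂(M)` the `p`-subgroups of `M` are abelian. -/
theorem pgroup_comm (hG : IsMinSimpleOddOrder G) {M E : Subgroup G} (hM : IsCoatom M)
    (hE : IsComplIn E (sigmaCore M) M) {p : ℕ} [hp : Fact p.Prime] (hpτ : p ∈ tau2 M)
    {Q : Subgroup G} (hQM : Q ≤ M) (hQ : IsPGroup p Q) : ∀ a ∈ Q, ∀ b ∈ Q, a * b = b * a := by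
  obtain ⟨A, hAE, hA, hAc⟩ := exists_elemAb_le hG hM hE hpτ
  have h17 := Cfsg.Agent.S1417.result hG M hM p hpτ A ⟨hAE.trans hE.1, hA, hAc⟩
  obtain ⟨P, hP⟩ := (hQ.comap_subtype (K := M)).exists_le_sylow
  have hPc := (h17.2.1 P).1
  intro a ha b hb
  have ha' : (⟨a, hQM ha⟩ : M) ∈ (P : Subgroup M) := hP (Subgroup.mem_comap.mpr ha)
  have hb' : (⟨b, hQM hb⟩ : M) ∈ (P : Subgroup M) := hP (Subgroup.mem_comap.mpr hb)
  have := hPc.is_comm.comm ⟨_, ha'⟩ ⟨_, hb'⟩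
  exact congrArg (fun z : (P : Subgroup M) => ((z : M) : G)) this

/-- if `N_G(A) ≤ L` for an elementary abelian `A ≤ L` of order `q ^ 2` then `q ∈ σ(L)`. -/
theorem mem_sigma_of_normalizer_le (hG : IsMinSimpleOddOrder G) {L : Subgroup G} (hL : IsCoatom L)
    {q : ℕ} [hq : Fact q.Prime] {A : Subgroup G} (hA : IsElementaryAbelian q A)
    (hAc : Nat.card A = q ^ 2) (hAL : A ≤ L) (hN : normalizer (A : Set G) ≤ L) : q ∈ sigma L := by
  by_contra hns
  have hqL : q ∣ Nat.card L := by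
    have : q ∣ Nat.card A := by rw [hAc]; exact dvd_pow_self q two_ne_zero
    exact dvd_trans this (Subgroup.card_dvd_of_le hAL)
  have h2 : PRankLE q 2 L := by
    by_contra h
    exact hns (mem_sigma_of_not_pRankLE_two hG hL h hqL)
  have h1 : ¬ PRankLE q 1 L := by
    apply not_pRankLE_of_elemAb hAL hA
    rw [hAc]
    exact Nat.pow_lt_pow_right hq.out.one_lt (by norm_num)
  have hτ : q ∈ tau2 L := ⟨hq.out, hns, h2, h1⟩
  have h17 := Cfsg.Agent.S1417.result hG L hL q hτ A ⟨hAL, hA, hAc⟩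
  have hAp : IsPGroup q A := IsPGroup.of_card hAc
  obtain ⟨P, hP⟩ := (hAp.comap_subtype (K := L)).exists_le_sylow
  have hAP : A ≤ (P : Subgroup L).map L.subtype := by
    intro a ha
    exact ⟨⟨a, hAL ha⟩, hP (Subgroup.mem_comap.mpr ha), rfl⟩
  obtain ⟨hiff, hnot⟩ := (h17.2.1 P).2 hAP
  apply hnot
  refine le_trans ?_ hN
  intro n hn
  apply Subgroup.mem_normalizer_fintype
  intro a ha
  have haP : a ∈ (P : Subgroup L).map L.subtype := hAP ha
  have h3 : n * a * n⁻¹ ∈ (P : Subgroup L).map L.subtype :=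
    (Subgroup.mem_normalizer_iff.mp hn a).mp haP
  apply (hiff _ h3).mp
  rw [conj_pow, hA.2 a ha]
  group

/-- `p ∈ τ₂(M)` is not in `β(L)` for any `L`. -/
theorem not_mem_beta_of_tau2 (hG : IsMinSimpleOddOrder G) {M : Subgroup G} (hM : IsCoatom M)
    {p : ℕ} [hp : Fact p.Prime] (hpτ : p ∈ tau2 M) (L : Subgroup G) : p ∉ beta L := by
  intro h
  exact (Cfsg.Agent.S1408.result hG M hM p hpτ.2.1 hpτ.2.2.1 hpτ.2.2.2).1 h.2

/-- **B-G Lemma 12.11(a) and Corollary 12.10(b)**, elementwise: for distinct `p, r ∈ τ₂(M)`, a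
`p`-element of `E` normalizing an `r`-subgroup `T` of `E` centralizes it. -/
theorem comm_of_tau2_normalizing (hG : IsMinSimpleOddOrder G) {M E : Subgroup G} (hM : IsCoatom M)
    (hE : IsComplIn E (sigmaCore M) M) {p r : ℕ} [hp : Fact p.Prime] [hr : Fact r.Prime]
    (hpτ : p ∈ tau2 M) (hrτ : r ∈ tau2 M) (hpr : p ≠ r) {e : G} (heE : e ∈ E) {k : ℕ}
    (hek : e ^ (p ^ k) = 1) {T : Subgroup G} (hTE : T ≤ E) (hT : IsPGroup r T)
    (heT : e ∈ normalizer (T : Set G)) : ∀ t ∈ T, e * t = t * e := by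
  classical
  obtain ⟨Ap, hApE, hAp, hApc⟩ := exists_elemAb_le hG hM hE hpτ
  obtain ⟨Ar, hArE, hAr, hArc⟩ := exists_elemAb_le hG hM hE hrτ
  have h18p := Cfsg.Agent.S1418.result hG M hM E hE p hpτ Ap ⟨hApE, hAp, hApc⟩
  have h18r := Cfsg.Agent.S1418.result hG M hM E hE r hrτ Ar ⟨hArE, hAr, hArc⟩
  -- the maximal subgroup `L ≥ N_G(A_r)`
  have hNne : normalizer (Ar : Set G) ≠ ⊤ :=
    normalizer_ne_top_of_card hG (k := 2) two_ne_zero hArc
  obtain ⟨L, hL, hNL⟩ := exists_coatom_ge hNne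
  have hEL : E ≤ L := h18r.1.1.trans hNL
  -- `N_G(A_p) ≤ N_G(A_r)`
  have hcop : (Nat.card Ap).Coprime (Nat.card Ar) := by
    rw [hApc, hArc]
    exact Nat.Coprime.pow 2 2 ((Nat.coprime_primes hp.out hr.out).mpr hpr)
  have hcomm := comm_of_normal_coprime hApE hArE h18p.1.1 h18r.1.1 hcop
  have hArCp : Ar ≤ centralizer (Ap : Set G) := by
    intro b hb
    rw [Subgroup.mem_centralizer_iff]
    intro a ha
    exact hcomm a ha b hb
  have hCpE : centralizer (Ap : Set G) ≤ E := by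
    have := h18p.2.1.1
    rw [h18p.2.1.2.1] at this
    exact this
  have hNpr : normalizer (Ap : Set G) ≤ normalizer (Ar : Set G) :=
    normalizer_le_normalizer_of (q := r) hArCp hCpE h18r.1.2 hAr.2
  -- `p, r ∈ σ(L)`
  have hpσ : p ∈ sigma L :=
    mem_sigma_of_normalizer_le hG hL hAp hApc (hApE.trans hEL) (hNpr.trans hNL)
  have hrσ : r ∈ sigma L := mem_sigma_of_normalizer_le hG hL hAr hArc (hArE.trans hEL) hNL
  have hrβ : r ∉ beta L := not_mem_beta_of_tau2 hG hM hrτ L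
  -- `e, T ≤ L_σ`
  have hep : IsPGroup p (zpowers e) := by
    rw [IsPGroup]
    rintro ⟨y, hy⟩
    obtain ⟨i, rfl⟩ := Subgroup.mem_zpowers_iff.mp hy
    refine ⟨k, Subtype.ext ?_⟩
    show (e ^ i) ^ (p ^ k) = 1
    rw [← zpow_natCast, ← zpow_mul, mul_comm, zpow_mul, zpow_natCast, hek, one_zpow]
  have heK : e ∈ sigmaCore L :=
    le_sigmaCore_of_mem_sigma' hG p (zpowers e) hep L hL
      (by rw [Subgroup.zpowers_le]; exact hEL heE) hpσ (Subgroup.mem_zpowers e)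
  have hTK : T ≤ sigmaCore L := le_sigmaCore_of_mem_sigma' hG r T hT L hL (hTE.trans hEL) hrσ
  -- the normal `r`-complement of `L_σ`
  have hrL : r ∣ Nat.card L := by
    have : r ∣ Nat.card Ar := by rw [hArc]; exact dvd_pow_self r two_ne_zero
    exact dvd_trans this (Subgroup.card_dvd_of_le (hArE.trans hEL))
  obtain ⟨Q, N, hNn, hNQ⟩ := ((Cfsg.Agent.S1414.result hG L hL).2.2.2.2 r hr.out hrL hrβ).2.1
  haveI := hNn
  obtain ⟨j, hj⟩ := IsPGroup.iff_card.mp Q.isPGroup'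
  have hidx : N.index = r ^ j := by rw [← hj]; exact hNQ.symm.index_eq_card
  have hrN : ¬ r ∣ Nat.card N := by
    rw [← hNQ.index_eq_card]
    exact Q.not_dvd_index
  -- `e ∈ N`
  set e' : ↥(sigmaCore L) := ⟨e, heK⟩ with he'
  have he'k : e' ^ (p ^ k) = 1 := Subtype.ext (by simpa using hek)
  have hcop' : (orderOf e').Coprime r := by
    have h1 : orderOf e' ∣ p ^ k := orderOf_dvd_of_pow_eq_one he'k
    have h2 : (p ^ k).Coprime r := Nat.Coprime.pow_left k ((Nat.coprime_primes hp.out hr.out).mpr hpr)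
    exact Nat.Coprime.coprime_dvd_left h1 h2
  have he'N : e' ∈ N := mem_of_normal_of_index_pow N hidx e' hcop'
  intro t ht
  set t' : ↥(sigmaCore L) := ⟨t, hTK ht⟩ with ht'
  -- the commutator lies in `N` and in `T`
  have hc1 : e' * t' * e'⁻¹ * t'⁻¹ ∈ N := by
    have : t' * e'⁻¹ * t'⁻¹ ∈ N := hNn.conj_mem _ (N.inv_mem he'N) t'
    have h2 : e' * t' * e'⁻¹ * t'⁻¹ = e' * (t' * e'⁻¹ * t'⁻¹) := by group
    rw [h2]; exact N.mul_mem he'N this
  have hc2 : e * t * e⁻¹ * t⁻¹ ∈ T :=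
    T.mul_mem ((Subgroup.mem_normalizer_iff.mp heT t).mp ht) (T.inv_mem ht)
  obtain ⟨i, hi⟩ := (IsPGroup.iff_orderOf.mp hT) ⟨_, hc2⟩
  have hord : orderOf (e' * t' * e'⁻¹ * t'⁻¹) = r ^ i := by
    have h3 : ((e' * t' * e'⁻¹ * t'⁻¹ : ↥(sigmaCore L)) : G) = e * t * e⁻¹ * t⁻¹ := by
      simp [he', ht']
    rw [← Subgroup.orderOf_coe, h3]
    rw [← hi, Subgroup.orderOf_mk]
  have hi0 : i = 0 := by
    by_contra hi0
    apply hrN
    have h4 : orderOf (⟨_, hc1⟩ : N) ∣ Nat.card N := orderOf_dvd_natCard _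
    rw [Subgroup.orderOf_mk, hord] at h4
    exact dvd_trans (dvd_pow_self r hi0) h4
  rw [hi0, pow_zero, orderOf_eq_one_iff] at hord
  have h5 : e * t * e⁻¹ * t⁻¹ = 1 := by
    have := congrArg (fun z : ↥(sigmaCore L) => (z : G)) hord
    simpa [he', ht'] using this
  calc e * t = (e * t * e⁻¹ * t⁻¹) * (t * e) := by group
    _ = t * e := by rw [h5, one_mul]

end Cfsg.Agent.Helper29.BG1212
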