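import Mathlib
import Cfsg.Prelude.Def_OddOrderLocal
import Cfsg.Agent.S1411
import Cfsg.Agent.S1415
import Cfsg.Agent.Lib.Helper29.BG1212a
import Cfsg.Agent.Lib.Helper52.CoprimeHall

/-!
# B-G Theorem 12.12: the Hall `τ₃(M)`-subgroup `E₃` of `E` and the `τ₂(M)`-elements (helper29)

`N_G(A)` normalizes `E₃` for `A ≤ E` elementary abelian of order `p ^ 2`, `p ∈ τ₂(M)`; if the Sylow
`p`-subgroups of `G` are abelian, every `p`-element of `E` centralizes `E₃`.
-/

set_option autoImplicit false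

namespace Cfsg.Agent.Helper29.BG1212

open Subgroup Cfsg
open scoped Pointwise
open Cfsg.Agent.Helper79.BG10 (cj mem_cj conj_mem_cj cj_mono card_cj)
open Cfsg.Agent.Helper29.BG12 Cfsg.Agent.Helper29.BG127

variable {G : Type*} [Group G] [Finite G]

theorem E_ne_top (hG : IsMinSimpleOddOrder G) {M E : Subgroup G} (hM : IsCoatom M)
    (hEM : E ≤ M) : E ≠ ⊤ := by
  intro h
  apply hM.1
  rw [eq_top_iff, ← h]; exact hEM

/-- a Hall `τ₃(M)`-subgroup of `E` exists. -/
theorem exists_hall_tau3 (hG : IsMinSimpleOddOrder G) {M E : Subgroup G} (hM : IsCoatom M)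
    (hE : IsComplIn E (sigmaCore M) M) : ∃ E₃ : Subgroup G, IsPiHallOf (tau3 M) E₃ E := by
  have hsolv : Group.IsSolvable E :=
    Cfsg.Agent.Helper34.BG.solvable_of_ne_top hG (E_ne_top hG hM hE.1)
  have hN : Nat.card E ≠ 0 := Nat.card_pos.ne'
  obtain ⟨Q, hQE, hQc⟩ := Cfsg.Agent.Helper52.hall_exists_internal E hsolv
    (Cfsg.Agent.Helper52.piPart (tau3 M) (Nat.card E))
    (Cfsg.Agent.Helper52.piPrimePart (tau3 M) (Nat.card E))
    (Cfsg.Agent.Helper52.piPart_mul_piPrimePart (tau3 M) hN).symm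
    (Cfsg.Agent.Helper52.piPart_coprime (tau3 M) (Nat.card E))
  exact ⟨Q, (Cfsg.Agent.Helper52.isPiHallOf_iff_card (tau3 M) Q E).mpr ⟨hQE, hQc⟩⟩

/-- `r`-elements of `E`, `r ∈ τ₃(M)`, lie in the Hall `τ₃(M)`-subgroup. -/
theorem mem_hall_tau3 (hG : IsMinSimpleOddOrder G) {M E : Subgroup G} (hM : IsCoatom M)
    (hE : IsComplIn E (sigmaCore M) M) {E₃ : Subgroup G} (hE₃ : IsPiHallOf (tau3 M) E₃ E)
    {r : ℕ} [hr : Fact r.Prime] (hrτ : r ∈ tau3 M) {t : G} (htE : t ∈ E) {k : ℕ}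
    (htk : t ^ (r ^ k) = 1) : t ∈ E₃ := by
  have h15 := (Cfsg.Agent.S1415.result hG M hM E hE).2.2 E₃ hE₃
  haveI : (E₃.subgroupOf E).Normal :=
    (Subgroup.normal_subgroupOf_iff_le_normalizer hE₃.1).mpr h15.2.2
  have hnd : ¬ r ∣ (E₃.subgroupOf E).index := hE₃.2.2 r hr.out hrτ
  have hp : IsPGroup r (zpowers (⟨t, htE⟩ : E)) := by
    rw [IsPGroup]
    rintro ⟨y, hy⟩
    obtain ⟨i, rfl⟩ := Subgroup.mem_zpowers_iff.mp hy
    refine ⟨k, Subtype.ext ?_⟩
    have h1 : (⟨t, htE⟩ : E) ^ (r ^ k) = 1 := Subtype.ext (by simpa using htk)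
    show ((⟨t, htE⟩ : E) ^ i) ^ (r ^ k) = 1
    rw [← zpow_natCast, ← zpow_mul, mul_comm, zpow_mul, zpow_natCast, h1, one_zpow]
  have := pgroup_le_of_normal_of_not_dvd_index (E₃.subgroupOf E) hnd _ hp
    (Subgroup.mem_zpowers _)
  rw [Subgroup.mem_subgroupOf] at this
  exact this

theorem normalizer_le_normalizer_centralizer (A : Subgroup G) :
    normalizer (A : Set G) ≤ normalizer ((centralizer (A : Set G) : Subgroup G) : Set G) := by
  intro n hn
  apply Subgroup.mem_normalizer_fintype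
  intro c hc
  rw [SetLike.mem_coe, Subgroup.mem_centralizer_iff] at hc ⊢
  intro a ha
  have ha' : n⁻¹ * a * n ∈ A := by
    have := (Subgroup.mem_normalizer_iff.mp (Subgroup.inv_mem _ hn) a).mp ha
    simpa using this
  have h1 := hc (n⁻¹ * a * n) ha'
  calc a * (n * c * n⁻¹) = n * ((n⁻¹ * a * n) * c) * n⁻¹ := by group
    _ = n * (c * (n⁻¹ * a * n)) * n⁻¹ := by rw [h1]
    _ = n * c * n⁻¹ * a := by group

/-- primes of `τ₂(M)` do not divide the order of a Hall `τ₃(M)`-subgroup. -/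
theorem coprime_card_hall_tau3 {M E E₃ : Subgroup G} (hE₃ : IsPiHallOf (tau3 M) E₃ E)
    {p : ℕ} (hp : p.Prime) (hpτ : p ∈ tau2 M) (k : ℕ) : (p ^ k).Coprime (Nat.card E₃) := by
  apply Nat.Coprime.pow_left
  rw [Nat.Prime.coprime_iff_not_dvd hp]
  intro h
  exact hpτ.2.2.2 (hE₃.2.1 p hp h).2.2.2

/-- **Key step**: `N_G(A)` normalizes the Hall `τ₃(M)`-subgroup of `E`. -/
theorem normalizer_le_normalizer_hall_tau3 (hG : IsMinSimpleOddOrder G) {M E : Subgroup G}
    (hM : IsCoatom M) (hE : IsComplIn E (sigmaCore M) M) {p : ℕ} [hp : Fact p.Prime]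
    (hpτ : p ∈ tau2 M) {A : Subgroup G}
    (hA : A ≤ E ∧ IsElementaryAbelian p A ∧ Nat.card A = p ^ 2)
    {E₃ : Subgroup G} (hE₃ : IsPiHallOf (tau3 M) E₃ E) :
    normalizer (A : Set G) ≤ normalizer (E₃ : Set G) := by
  have h15 := (Cfsg.Agent.S1415.result hG M hM E hE).2.2 E₃ hE₃
  have h18 := Cfsg.Agent.S1418.result hG M hM E hE p hpτ A hA
  have hCE : centralizer (A : Set G) ≤ E := by
    have := h18.2.1.1
    rw [h18.2.1.2.1] at this
    exact this
  have hcop : (Nat.card A).Coprime (Nat.card E₃) := by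
    rw [hA.2.2]; exact coprime_card_hall_tau3 hE₃ hp.out hpτ 2
  have hcomm := comm_of_normal_coprime hA.1 hE₃.1 h18.1.1 h15.2.2 hcop
  have hE₃C : E₃ ≤ centralizer (A : Set G) := by
    intro b hb
    rw [Subgroup.mem_centralizer_iff]
    intro a ha
    exact hcomm a ha b hb
  refine (normalizer_le_normalizer_centralizer A).trans ?_
  apply normalizer_le_normalizer_of_hall hE₃C (hCE.trans h15.2.2)
  -- coprimality
  have h1 := Cfsg.Agent.Helper55.BGB.card_mul_relIndex hE₃C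
  have h2 := Cfsg.Agent.Helper55.BGB.card_mul_relIndex hE₃.1
  have hdvd : E₃.relIndex (centralizer (A : Set G)) ∣ E₃.relIndex E := by
    have h3 : Nat.card (centralizer (A : Set G)) ∣ Nat.card E := Subgroup.card_dvd_of_le hCE
    rw [← h1, ← h2] at h3
    exact Nat.dvd_of_mul_dvd_mul_left Nat.card_pos h3
  apply Nat.Coprime.coprime_dvd_right hdvd
  apply Nat.coprime_of_dvd
  intro q hq hq1 hq2
  exact hE₃.2.2 q hq (hE₃.2.1 q hq hq1) hq2

/-- Schur-Zassenhaus complement of a Sylow subgroup in its normalizer. -/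
theorem exists_isComplIn_sylow_normalizer {p : ℕ} [hp : Fact p.Prime] (S : Sylow p G) :
    ∃ V : Subgroup G, IsComplIn (S : Subgroup G) V (normalizer ((S : Subgroup G) : Set G)) := by
  set N : Subgroup G := normalizer ((S : Subgroup G) : Set G) with hN
  have hSN : (S : Subgroup G) ≤ N := Subgroup.le_normalizer
  haveI : ((S : Subgroup G).subgroupOf N).Normal :=
    (Subgroup.normal_subgroupOf_iff_le_normalizer hSN).mpr le_rfl
  have hc1 : Nat.card ((S : Subgroup G).subgroupOf N) = Nat.card (S : Subgroup G) :=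
    card_subgroupOf_of_le hSN
  have hidx : ((S : Subgroup G).subgroupOf N).index ∣ (S : Subgroup G).index := by
    have : ((S : Subgroup G).subgroupOf N).index = (S : Subgroup G).relIndex N := rfl
    rw [this]
    exact Subgroup.relIndex_dvd_index_of_le hSN
  have hcop : (Nat.card ((S : Subgroup G).subgroupOf N)).Coprime
      ((S : Subgroup G).subgroupOf N).index := by
    rw [hc1]
    exact Nat.Coprime.coprime_dvd_right hidx S.card_coprime_index
  obtain ⟨C', hC'⟩ := Subgroup.exists_right_complement'_of_coprime hcop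
  refine ⟨C'.map N.subtype, hSN, Subgroup.map_subtype_le _, ?_, ?_⟩
  · rw [eq_bot_iff]
    rintro x ⟨hxS, ⟨c, hc, rfl⟩⟩
    have h1 : c ∈ (S : Subgroup G).subgroupOf N ⊓ C' :=
      ⟨Subgroup.mem_subgroupOf.mpr hxS, hc⟩
    rw [hC'.isCompl.inf_eq_bot, Subgroup.mem_bot] at h1
    rw [Subgroup.mem_bot, N.subtype_apply, h1]; rfl
  · intro m hm
    have h1 : (⟨m, hm⟩ : N) ∈ (⊤ : Subgroup N) := Subgroup.mem_top _
    rw [← hC'.sup_eq_top] at h1
    have h2 : (⟨m, hm⟩ : N) ∈ (((S : Subgroup G).subgroupOf N : Set N) * (C' : Set N)) := by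
      rw [← Subgroup.normal_mul]; exact h1
    obtain ⟨a, ha, b, hb, hab⟩ := Set.mem_mul.mp h2
    refine ⟨a, by simpa [Subgroup.mem_subgroupOf] using ha, b, ⟨b, hb, rfl⟩, ?_⟩
    have := congrArg Subtype.val hab
    simpa using this.symm

/-- **B-G 12.12, the case of abelian Sylow `p`-subgroups**: every `p`-element of `E`, `p ∈ τ₂(M)`,
centralizes the Hall `τ₃(M)`-subgroup of `E`. -/
theorem pelement_centralizes_hall_tau3_of_abelian (hG : IsMinSimpleOddOrder G) {M E : Subgroup G}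
    (hM : IsCoatom M) (hE : IsComplIn E (sigmaCore M) M) {p : ℕ} [hp : Fact p.Prime]
    (hpτ : p ∈ tau2 M) (hS : ∃ S : Sylow p G, IsMulCommutative (S : Subgroup G))
    {E₃ : Subgroup G} (hE₃ : IsPiHallOf (tau3 M) E₃ E) {e : G} (heE : e ∈ E) {k : ℕ}
    (hek : e ^ (p ^ k) = 1) : e ∈ centralizer (E₃ : Set G) := by
  classical
  obtain ⟨A, hAE, hA, hAc⟩ := exists_elemAb_le hG hM hE hpτ
  have h15 := (Cfsg.Agent.S1415.result hG M hM E hE).2.2 E₃ hE₃
  have h18 := Cfsg.Agent.S1418.result hG M hM E hE p hpτ A ⟨hAE, hA, hAc⟩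
  have hCE : centralizer (A : Set G) ≤ E := by
    have := h18.2.1.1
    rw [h18.2.1.2.1] at this
    exact this
  have hNA := normalizer_le_normalizer_hall_tau3 hG hM hE hpτ ⟨hAE, hA, hAc⟩ hE₃
  -- a Sylow `p`-subgroup of `E` containing `e`
  have hep : IsPGroup p (zpowers (⟨e, heE⟩ : E)) := by
    rw [IsPGroup]
    rintro ⟨y, hy⟩
    obtain ⟨i, rfl⟩ := Subgroup.mem_zpowers_iff.mp hy
    refine ⟨k, Subtype.ext ?_⟩
    have h1 : (⟨e, heE⟩ : E) ^ (p ^ k) = 1 := Subtype.ext (by simpa using hek)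
    show ((⟨e, heE⟩ : E) ^ i) ^ (p ^ k) = 1
    rw [← zpow_natCast, ← zpow_mul, mul_comm, zpow_mul, zpow_natCast, h1, one_zpow]
  obtain ⟨P₁, hP₁⟩ := hep.exists_le_sylow
  set P : Subgroup G := (P₁ : Subgroup E).map E.subtype with hPdef
  have hPE : P ≤ E := Subgroup.map_subtype_le _
  have heP : e ∈ P := ⟨⟨e, heE⟩, hP₁ (Subgroup.mem_zpowers _), rfl⟩
  have hPp : IsPGroup p P := P₁.isPGroup'.map _
  -- `A ≤ P`
  haveI : (A.subgroupOf E).Normal := (Subgroup.normal_subgroupOf_iff_le_normalizer hAE).mpr h18.1.1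
  have hAp : IsPGroup p (A.subgroupOf E) := (IsPGroup.of_card hAc).comap_subtype
  have hAP₁ : A.subgroupOf E ≤ (P₁ : Subgroup E) := hAp.le_sylow_of_normal P₁
  have hAP : A ≤ P := by
    intro a ha
    exact ⟨⟨a, hAE ha⟩, hAP₁ (by rw [Subgroup.mem_subgroupOf]; exact ha), rfl⟩
  -- `N_G(P) ≤ N_G(A)`
  have hNPA : normalizer (P : Set G) ≤ normalizer (A : Set G) := by
    intro n hn
    apply Subgroup.mem_normalizer_fintype
    intro a ha
    have h3 : n * a * n⁻¹ ∈ P := (Subgroup.mem_normalizer_iff.mp hn a).mp (hAP ha)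
    by_cases h1 : n * a * n⁻¹ = 1
    · rw [h1]; exact A.one_mem
    · have hpow : (n * a * n⁻¹) ^ p = 1 := by
        rw [conj_pow, hA.2 a ha]; group
      have hcard : Nat.card (zpowers (n * a * n⁻¹)) = p := by
        rw [Nat.card_zpowers]
        exact orderOf_eq_prime hpow h1
      exact h18.1.2 (zpowers (n * a * n⁻¹)) (by rw [Subgroup.zpowers_le]; exact hPE h3) hcard
        (Subgroup.mem_zpowers _)
  -- a Sylow `p`-subgroup `S'` of `G` containing `P`; it is abelian, hence equal to `P`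
  obtain ⟨S', hS'⟩ := hPp.exists_le_sylow
  obtain ⟨S, hSc⟩ := hS
  obtain ⟨g, hg⟩ := MulAction.exists_smul_eq G S S'
  have hS'c : ∀ a ∈ (S' : Subgroup G), ∀ b ∈ (S' : Subgroup G), a * b = b * a := by
    intro a ha b hb
    rw [← hg] at ha hb
    rw [Sylow.coe_subgroup_smul, Subgroup.mem_pointwise_smul_iff_inv_smul_mem] at ha hb
    have h1 := hSc.is_comm.comm ⟨_, ha⟩ ⟨_, hb⟩
    have h2 : ((MulAut.conj g)⁻¹ • a) * ((MulAut.conj g)⁻¹ • b)
        = ((MulAut.conj g)⁻¹ • b) * ((MulAut.conj g)⁻¹ • a) := congrArg Subtype.val h1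
    simp only [MulAut.smul_def, MulAut.conj_inv_apply] at h2
    calc a * b = g * ((g⁻¹ * a * g) * (g⁻¹ * b * g)) * g⁻¹ := by group
      _ = g * ((g⁻¹ * b * g) * (g⁻¹ * a * g)) * g⁻¹ := by rw [h2]
      _ = b * a := by group
  have hS'E : (S' : Subgroup G) ≤ E := by
    refine le_trans ?_ hCE
    intro s hs
    rw [Subgroup.mem_centralizer_iff]
    intro a ha
    exact hS'c a (hS' (hAP ha)) s hs
  have hS'P : (S' : Subgroup G) = P := by
    apply le_antisymm _ hS'
    have h1 : IsPGroup p ((S' : Subgroup G).subgroupOf E) := S'.isPGroup'.comap_subtype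
    have h2 : (P₁ : Subgroup E) ≤ (S' : Subgroup G).subgroupOf E := by
      intro y hy
      rw [Subgroup.mem_subgroupOf]
      exact hS' ⟨y, hy, rfl⟩
    have h3 := P₁.is_maximal' h1 h2
    intro s hs
    have h4 : (⟨s, hS'E hs⟩ : E) ∈ (S' : Subgroup G).subgroupOf E := by
      rw [Subgroup.mem_subgroupOf]; exact hs
    rw [h3] at h4
    exact ⟨⟨s, hS'E hs⟩, h4, rfl⟩
  -- the complement `V` and `S' = [S', V]`
  obtain ⟨V, hV⟩ := exists_isComplIn_sylow_normalizer S'
  have h11 := (Cfsg.Agent.S1411.result hG p S' V hV).1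
  have hcomm : ⁅(S' : Subgroup G), V⁆ ≤ centralizer (E₃ : Set G) := by
    rw [Subgroup.commutator_le]
    intro x hx v hv
    have hxN : x ∈ normalizer (E₃ : Set G) := h15.2.2 (hPE (hS'P ▸ hx))
    have hvN : v ∈ normalizer (E₃ : Set G) := by
      apply hNA
      apply hNPA
      rw [← hS'P]
      exact hV.2.1 hv
    have := comm_inv_mem_centralizer_of_cyclic h15.1 (Subgroup.inv_mem _ hxN)
      (Subgroup.inv_mem _ hvN)
    simpa [commutatorElement_def] using this
  apply hcomm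
  rw [← h11, hS'P]
  exact heP

end Cfsg.Agent.Helper29.BG1212
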