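import Mathlib
import Cfsg.Prelude.Def_OddOrderLocal
import Cfsg.Agent.S1420
import Cfsg.Agent.Lib.Helper29.BG127e
import Cfsg.Agent.Lib.Helper29.BG1212b
import Cfsg.Agent.Lib.Helper55.BGDecomp2

/-!
# B-G Theorem 12.12(a) (helper29)

Under the hypothesis of the theorem, `A₀ = E ∩ C_G(E')` is an abelian normal subgroup of `E` containing
`E ∩ C_G(x)` for every non-identity `x ∈ M_σ`.
-/

set_option autoImplicit false

namespace Cfsg.Agent.Helper29.BG1212

open Subgroup Cfsg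
open Cfsg.Agent.Helper79.BG10 (cj mem_cj conj_mem_cj cj_mono card_cj cj_eq_self_of_mem_normalizer
  mem_normalizer_of_cj_eq cj_mul)
open Cfsg.Agent.Helper29.BG12 Cfsg.Agent.Helper29.BG127

variable {G : Type*} [Group G] [Finite G]

/-- "bad" is invariant under conjugation by `M`. -/
theorem bad_conj {M : Subgroup G} {m e : G} (hm : m ∈ M)
    (hbad : sigmaCore M ⊓ centralizer ({e} : Set G) ≠ ⊥) :
    sigmaCore M ⊓ centralizer ({m * e * m⁻¹} : Set G) ≠ ⊥ := by
  intro h
  apply hbad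
  rw [eq_bot_iff]
  intro w hw
  have hwK : m * w * m⁻¹ ∈ sigmaCore M :=
    (Subgroup.mem_normalizer_iff.mp (le_normalizer_sigmaCore M hm) w).mp hw.1
  have hwc : m * w * m⁻¹ ∈ centralizer ({m * e * m⁻¹} : Set G) := by
    rw [Subgroup.mem_centralizer_iff]
    intro y hy
    rw [Set.mem_singleton_iff] at hy
    have h1 : e * w = w * e := (Subgroup.mem_centralizer_iff.mp hw.2) e (Set.mem_singleton e)
    rw [hy]
    calc m * e * m⁻¹ * (m * w * m⁻¹) = m * (e * w) * m⁻¹ := by group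
      _ = m * (w * e) * m⁻¹ := by rw [h1]
      _ = m * w * m⁻¹ * (m * e * m⁻¹) := by group
  have h2 : m * w * m⁻¹ ∈ sigmaCore M ⊓ centralizer ({m * e * m⁻¹} : Set G) := ⟨hwK, hwc⟩
  rw [h, Subgroup.mem_bot] at h2
  rw [Subgroup.mem_bot]
  have : w = m⁻¹ * (m * w * m⁻¹) * m := by group
  rw [this, h2]; group

/-- **B-G 12.12, the case of nonabelian Sylow `p`-subgroups**: a `p`-element of `E` centralizing a
non-identity element of `M_σ` has order dividing `p`. -/
theorem bad_pelement_pow_p_of_nonabelian (hG : IsMinSimpleOddOrder G) {M E : Subgroup G}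
    (hM : IsCoatom M) (hE : IsComplIn E (sigmaCore M) M) {p : ℕ} [hp : Fact p.Prime]
    (hpτ : p ∈ tau2 M) (hS : ∀ S : Sylow p G, ¬ IsMulCommutative (S : Subgroup G))
    {e : G} (heE : e ∈ E) {k : ℕ} (hek : e ^ (p ^ k) = 1)
    (hbad : sigmaCore M ⊓ centralizer ({e} : Set G) ≠ ⊥) : e ^ p = 1 := by
  classical
  obtain ⟨A, hAE, hAel, hAc⟩ := exists_elemAb_le hG hM hE hpτ
  have hA : A ≤ E ∧ IsElementaryAbelian p A ∧ Nat.card A = p ^ 2 := ⟨hAE, hAel, hAc⟩
  have hpP : p.Prime := hp.out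
  have hEM : E ≤ M := hE.1
  have hAM : A ≤ M := hA.1.trans hEM
  have hpσ : p ∉ sigma M := hpτ.2.1
  have h17 := Cfsg.Agent.S1417.result hG M hM p hpτ A ⟨hAM, hA.2.1, hA.2.2⟩
  have h18 := Cfsg.Agent.S1418.result hG M hM E hE p hpτ A hA
  have hCAM : centralizer (A : Set G) ≤ M := h18.2.1.1.trans inf_le_left
  obtain ⟨S', x, z, hAS, hxS, hxA, hxM, hSMc, hzA, hz1, hzc, P', hAP, hPS, hSMP⟩ :=
    exists_p_element M p hS A hAM hA.2.2 h17.2.1 hCAM
  set S : Subgroup G := (S' : Subgroup G) with hSdef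
  have hSp : IsPGroup p S := S'.isPGroup'
  have hzx : x * z * x⁻¹ = z := by rw [hzc x hxS]; group
  set K : Subgroup G := sigmaCore M with hKdef
  have hKn : M ≤ normalizer (K : Set G) := le_normalizer_sigmaCore M
  have hKcop : (Nat.card K).Coprime p := coprime_card_sigmaCore hG hM hpP hpσ
  have hKne : K ≠ ⊥ := by
    intro hK
    apply hbad
    rw [hK, bot_inf_eq]
  obtain ⟨X₀, Z₀, hX₀A, hX₀c, hKX₀, hZ₀A, hZ₀c, hZ₀x, hZ₀fix, hX₀Z₀, hZ₀good, hlines⟩ :=
    lines hG M hM p K hKn hKcop hKne A hAM hA.2.1 hA.2.2 hCAM h17.2.2.2.2.1 h18.2.2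
      S x z hSp hAS hxS hxA hxM hSMc hzA hz1 hzx
  have hp2 : p ≠ 2 := Cfsg.Agent.Helper34.BG.prime_ne_two hG A (by
    rw [hA.2.2]; exact dvd_pow_self p two_ne_zero)
  have hAmax := (Cfsg.Agent.S1408.result hG M hM p hpσ hpτ.2.2.1 hpτ.2.2.2).2 A hAM hA.2.1 hA.2.2
  obtain ⟨C, hC1, hC2⟩ := exists_power_subgroup hG p hp2 S' (hS S') A hAS hA.2.1 hA.2.2 hAmax
    z hzA hz1 hzc
  obtain ⟨hPcomm, hP2⟩ := h17.2.1 P'
  obtain ⟨hPiff, -⟩ := hP2 hAP
  -- conjugate `e` into `P'`
  have heM : e ∈ M := hEM heE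
  have hep : IsPGroup p (zpowers (⟨e, heM⟩ : M)) := by
    rw [IsPGroup]
    rintro ⟨y, hy⟩
    obtain ⟨i, rfl⟩ := Subgroup.mem_zpowers_iff.mp hy
    refine ⟨k, Subtype.ext ?_⟩
    have h1 : (⟨e, heM⟩ : M) ^ (p ^ k) = 1 := Subtype.ext (by simpa using hek)
    show ((⟨e, heM⟩ : M) ^ i) ^ (p ^ k) = 1
    rw [← zpow_natCast, ← zpow_mul, mul_comm, zpow_mul, zpow_natCast, h1, one_zpow]
  obtain ⟨P'', hP''⟩ := hep.exists_le_sylow
  obtain ⟨g, hg⟩ := MulAction.exists_smul_eq M P'' P'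
  have heP'' : (⟨e, heM⟩ : M) ∈ (P'' : Subgroup M) := hP'' (Subgroup.mem_zpowers _)
  have hgeP' : g * (⟨e, heM⟩ : M) * g⁻¹ ∈ (P' : Subgroup M) := by
    rw [← hg, Sylow.coe_subgroup_smul, Subgroup.mem_pointwise_smul_iff_inv_smul_mem]
    simp only [MulAut.smul_def, MulAut.conj_inv_apply]
    have : g⁻¹ * (g * (⟨e, heM⟩ : M) * g⁻¹) * g = ⟨e, heM⟩ := by group
    rw [this]; exact heP''
  set e' : G := (g : G) * e * (g : G)⁻¹ with he'
  have he'P : e' ∈ (P' : Subgroup M).map M.subtype := ⟨_, hgeP', by simp [he']⟩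
  have he'S : e' ∈ S := hPS he'P
  have he'bad : K ⊓ centralizer ({e'} : Set G) ≠ ⊥ := bad_conj g.2 hbad
  have he'k : e' ^ (p ^ k) = 1 := by rw [he', conj_pow, hek]; group
  -- elements of `P'` centralize `A`
  have hPcA : ∀ y ∈ (P' : Subgroup M).map M.subtype, y ∈ centralizer (A : Set G) := by
    rintro _ ⟨y, hy, rfl⟩
    rw [Subgroup.mem_centralizer_iff]
    intro a ha
    obtain ⟨a', ha', rfl⟩ := hAP ha
    have := hPcomm.is_comm.comm ⟨a', ha'⟩ ⟨y, hy⟩
    exact congrArg (fun w : (P' : Subgroup M) => ((w : M) : G)) this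
  -- it suffices that `e' ^ p = 1`
  suffices h : e' ^ p = 1 by
    have : e ^ p = (g : G)⁻¹ * e' ^ p * (g : G) := by
      rw [he', conj_pow]; group
    rw [this, h]; group
  by_contra hne
  -- the order of `e'` is `p ^ (j + 2)`
  obtain ⟨j', -, hj'⟩ := (Nat.dvd_prime_pow hpP).mp (orderOf_dvd_of_pow_eq_one he'k)
  have hj2 : 2 ≤ j' := by
    by_contra hlt
    push Not at hlt
    apply hne
    have h1 : orderOf e' ∣ p := by
      rw [hj']
      have : j' ≤ 1 := by omega
      calc p ^ j' ∣ p ^ 1 := pow_dvd_pow p this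
        _ = p := pow_one p
    exact orderOf_dvd_iff_pow_eq_one.mp h1
  obtain ⟨j, hj⟩ : ∃ j, j' = j + 2 := ⟨j' - 2, by omega⟩
  have hord : orderOf e' = p ^ (j + 2) := by rw [hj', hj]
  set y : G := e' ^ (p ^ j) with hy
  set c : G := y ^ p with hc
  have hyP : y ∈ (P' : Subgroup M).map M.subtype := Subgroup.pow_mem _ he'P _
  have hcP : c ∈ (P' : Subgroup M).map M.subtype := Subgroup.pow_mem _ hyP _
  have hcC : c ∈ C := hC1 y (hPS hyP) (hPcA y hyP)
  have hce : c = e' ^ (p ^ (j + 1)) := by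
    rw [hc, hy, ← pow_mul, pow_succ]
  have hcp : c ^ p = 1 := by
    rw [hce, ← pow_mul, ← pow_succ, ← hord, pow_orderOf_eq_one]
  have hc1 : c ≠ 1 := by
    intro h1
    rw [hce] at h1
    have h2 : orderOf e' ∣ p ^ (j + 1) := orderOf_dvd_of_pow_eq_one h1
    rw [hord] at h2
    have h3 : j + 2 ≤ j + 1 := (Nat.pow_dvd_pow_iff_le_right hpP.one_lt).mp h2
    omega
  have hcA : c ∈ A := (hPiff c hcP).mp hcp
  have hcx : x * c * x⁻¹ = c := by
    have := hC2 c hcC hcp x hxS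
    rw [this]; group
  have hcZ : c ∈ Z₀ := hZ₀fix c hcA hcx
  -- a non-identity element of `K` centralizing `e'` centralizes `Z₀`
  apply he'bad
  rw [eq_bot_iff, ← hZ₀good]
  intro w hw
  refine ⟨hw.1, Subgroup.mem_centralizer_iff.mpr ?_⟩
  intro d hd
  obtain ⟨n, hn⟩ := exists_pow_eq_of_card_prime hZ₀c hcZ hc1 hd
  have h1 : e' * w = w * e' := (Subgroup.mem_centralizer_iff.mp hw.2) e' (Set.mem_singleton e')
  have h2 : Commute e' w := h1
  rw [← hn, hce, ← pow_mul]
  exact (h2.pow_left _).eq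

/-- the hypothesis of B-G Theorem 12.12. -/
def Hyp (M E : Subgroup G) : Prop :=
  ∀ e ∈ E, e ≠ 1 → (∀ p : ℕ, p.Prime → p ∣ orderOf e → p ∈ tau1 M ∪ tau3 M) →
    sigmaCore M ⊓ centralizer ({e} : Set G) = ⊥

/-- a bad element of prime power order `p ^ k` has `p ∈ τ₂(M)`. -/
theorem mem_tau2_of_bad (hG : IsMinSimpleOddOrder G) {M E : Subgroup G}
    (hM : IsCoatom M) (hE : IsComplIn E (sigmaCore M) M) (h : Hyp M E) {p : ℕ} (hp : p.Prime)
    {e : G} (heE : e ∈ E) (he1 : e ≠ 1) {k : ℕ} (hek : e ^ (p ^ k) = 1)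
    (hbad : sigmaCore M ⊓ centralizer ({e} : Set G) ≠ ⊥) : p ∈ tau2 M := by
  obtain ⟨i, -, hi⟩ := (Nat.dvd_prime_pow hp).mp (orderOf_dvd_of_pow_eq_one hek)
  have hi0 : i ≠ 0 := by
    rintro rfl
    rw [pow_zero, orderOf_eq_one_iff] at hi
    exact he1 hi
  have hpE : p ∣ Nat.card E := by
    have h1 : orderOf e ∣ Nat.card E := by
      have := orderOf_dvd_natCard (⟨e, heE⟩ : E)
      rwa [Subgroup.orderOf_mk] at this
    exact dvd_trans (by rw [hi]; exact dvd_pow_self p hi0) h1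
  rcases tau_cases hG hM hE hp hpE with h1 | h2 | h3
  · exfalso
    apply hbad
    apply h e heE he1
    intro q hq hqd
    rw [hi] at hqd
    have : q = p := (Nat.prime_dvd_prime_iff_eq hq hp).mp (hq.dvd_of_dvd_pow hqd)
    rw [this]; exact Or.inl h1
  · exact h2
  · exfalso
    apply hbad
    apply h e heE he1
    intro q hq hqd
    rw [hi] at hqd
    have : q = p := (Nat.prime_dvd_prime_iff_eq hq hp).mp (hq.dvd_of_dvd_pow hqd)
    rw [this]; exact Or.inr h3

/-- the `r`-primary part of the abelian group `E'`. -/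
def primaryPart (B : Subgroup G) (hB : ∀ a ∈ B, ∀ b ∈ B, a * b = b * a) (r : ℕ) : Subgroup G where
  carrier := {c | c ∈ B ∧ ∃ k : ℕ, c ^ (r ^ k) = 1}
  one_mem' := ⟨B.one_mem, 0, by simp⟩
  mul_mem' := by
    rintro a b ⟨ha, k, hk⟩ ⟨hb, l, hl⟩
    refine ⟨B.mul_mem ha hb, k + l, ?_⟩
    have hc : Commute a b := hB a ha b hb
    rw [hc.mul_pow, pow_add, pow_mul, hk, one_pow, mul_comm (r ^ k), pow_mul, hl, one_pow, one_mul]
  inv_mem' := by
    rintro a ⟨ha, k, hk⟩
    exact ⟨B.inv_mem ha, k, by rw [inv_pow, hk, inv_one]⟩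

omit [Finite G] in
theorem isPGroup_primaryPart (B : Subgroup G) (hB : ∀ a ∈ B, ∀ b ∈ B, a * b = b * a) (r : ℕ) :
    IsPGroup r (primaryPart B hB r) := by
  rintro ⟨c, hc, k, hk⟩
  exact ⟨k, Subtype.ext hk⟩

/-- **bad prime-power elements centralize `E'`**. -/
theorem bad_pelement_centralizes_commutator (hG : IsMinSimpleOddOrder G) {M E : Subgroup G}
    (hM : IsCoatom M) (hE : IsComplIn E (sigmaCore M) M) (h : Hyp M E) {p : ℕ} [hp : Fact p.Prime]
    {e : G} (heE : e ∈ E) (he1 : e ≠ 1) {k : ℕ} (hek : e ^ (p ^ k) = 1)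
    (hbad : sigmaCore M ⊓ centralizer ({e} : Set G) ≠ ⊥) :
    ∀ t ∈ ⁅E, E⁆, e * t = t * e := by
  classical
  have hpτ : p ∈ tau2 M := mem_tau2_of_bad hG hM hE h hp.out heE he1 hek hbad
  have h20 := Cfsg.Agent.S1420.result hG M hM E hE
  have hE'c : ∀ a ∈ ⁅E, E⁆, ∀ b ∈ ⁅E, E⁆, a * b = b * a := by
    intro a ha b hb
    have := h20.2.1.is_comm.comm ⟨a, ha⟩ ⟨b, hb⟩
    exact congrArg Subtype.val this
  have hE'E : ⁅E, E⁆ ≤ E := by
    rw [Subgroup.commutator_le]
    intro a ha b hb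
    rw [commutatorElement_def]
    exact E.mul_mem (E.mul_mem (E.mul_mem ha hb) (E.inv_mem ha)) (E.inv_mem hb)
  have hE'n : E ≤ normalizer ((⁅E, E⁆ : Subgroup G) : Set G) :=
    Cfsg.Agent.Helper55.BGB.le_normalizer_commutator E
  obtain ⟨E₃, hE₃⟩ := exists_hall_tau3 hG hM hE
  have h15 := (Cfsg.Agent.S1415.result hG M hM E hE).2.2 E₃ hE₃
  -- `e` centralizes `E₃`
  have heE₃ : e ∈ centralizer (E₃ : Set G) := by
    by_cases hS : ∀ S : Sylow p G, ¬ IsMulCommutative (S : Subgroup G)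
    · have hep := bad_pelement_pow_p_of_nonabelian hG hM hE hpτ hS heE hek hbad
      obtain ⟨A, hAE, hA, hAc⟩ := exists_elemAb_le hG hM hE hpτ
      have h18 := Cfsg.Agent.S1418.result hG M hM E hE p hpτ A ⟨hAE, hA, hAc⟩
      have hcard : Nat.card (zpowers e) = p := by
        rw [Nat.card_zpowers]
        exact orderOf_eq_prime hep he1
      have heA : e ∈ A := h18.1.2 (zpowers e) (by rw [Subgroup.zpowers_le]; exact heE) hcard
        (Subgroup.mem_zpowers _)
      have hcop : (Nat.card A).Coprime (Nat.card E₃) := by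
        rw [hAc]; exact coprime_card_hall_tau3 hE₃ hp.out hpτ 2
      have hcomm := comm_of_normal_coprime hAE hE₃.1 h18.1.1 h15.2.2 hcop
      rw [Subgroup.mem_centralizer_iff]
      intro b hb
      exact (hcomm e heA b hb).symm
    · push Not at hS
      exact pelement_centralizes_hall_tau3_of_abelian hG hM hE hpτ hS hE₃ heE hek
  intro t ht
  have hgoal : t ∈ centralizer ({e} : Set G) := by
    apply mem_of_primePow_powers_mem (centralizer ({e} : Set G)) (orderOf t) t rfl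
    intro m hm
    obtain ⟨r, l, hr, hrl⟩ := hm
    haveI : Fact r.Prime := ⟨hr⟩
    set u : G := t ^ m with hu
    have huE' : u ∈ ⁅E, E⁆ := Subgroup.pow_mem _ ht m
    rw [Subgroup.mem_centralizer_iff]
    intro y hy
    rw [Set.mem_singleton_iff] at hy
    rw [hy]
    by_cases hu1 : u = 1
    · rw [hu1]; simp
    -- `r ∣ |E'|`
    obtain ⟨i, -, hi⟩ := (Nat.dvd_prime_pow hr).mp (orderOf_dvd_of_pow_eq_one hrl)
    have hi0 : i ≠ 0 := by
      rintro rfl
      rw [pow_zero, orderOf_eq_one_iff] at hi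
      exact hu1 hi
    have hrE' : r ∣ Nat.card ↥⁅E, E⁆ := by
      have h1 : orderOf u ∣ Nat.card ↥⁅E, E⁆ := by
        have := orderOf_dvd_natCard (⟨u, huE'⟩ : ↥⁅E, E⁆)
        rwa [Subgroup.orderOf_mk] at this
      exact dvd_trans (by rw [hi]; exact dvd_pow_self r hi0) h1
    have hrE : r ∣ Nat.card E := dvd_trans hrE' (Subgroup.card_dvd_of_le hE'E)
    rcases tau_cases hG hM hE hr hrE with h1 | h2 | h3
    · exfalso
      apply h1.2.2.2.1
      exact dvd_trans hrE' (Subgroup.card_dvd_of_le (Subgroup.commutator_mono hE.1 hE.1))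
    · -- `r ∈ τ₂(M)`
      set T : Subgroup G := primaryPart ⁅E, E⁆ hE'c r with hT
      have hTp : IsPGroup r T := isPGroup_primaryPart _ _ _
      have hTE : T ≤ E := fun c hc => hE'E hc.1
      have huT : u ∈ T := ⟨huE', l, hrl⟩
      have hTn : E ≤ normalizer (T : Set G) := by
        intro n hn
        apply Subgroup.mem_normalizer_fintype
        rintro c ⟨hc, j, hj⟩
        refine ⟨(Subgroup.mem_normalizer_iff.mp (hE'n hn) c).mp hc, j, ?_⟩
        rw [conj_pow, hj]; group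
      by_cases hpr : p = r
      · subst hpr
        -- `⟨e⟩ T` is a `p`-group
        have hep' : IsPGroup p (zpowers e) := by
          rw [IsPGroup]
          rintro ⟨y, hy⟩
          obtain ⟨i', rfl⟩ := Subgroup.mem_zpowers_iff.mp hy
          refine ⟨k, Subtype.ext ?_⟩
          show (e ^ i') ^ (p ^ k) = 1
          rw [← zpow_natCast, ← zpow_mul, mul_comm, zpow_mul, zpow_natCast, hek, one_zpow]
        have hle : zpowers e ≤ normalizer (T : Set G) := by
          rw [Subgroup.zpowers_le]; exact hTn heE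
        have hQ : IsPGroup p (zpowers e ⊔ T : Subgroup G) :=
          IsPGroup.to_sup_of_normal_right' hep' hTp hle
        have hQM : (zpowers e ⊔ T : Subgroup G) ≤ M :=
          sup_le (by rw [Subgroup.zpowers_le]; exact hE.1 heE) (hTE.trans hE.1)
        exact (pgroup_comm hG hM hE hpτ hQM hQ e
          ((le_sup_left : zpowers e ≤ zpowers e ⊔ T) (Subgroup.mem_zpowers e)) u
          ((le_sup_right : T ≤ zpowers e ⊔ T) huT))
      · exact comm_of_tau2_normalizing hG hM hE hpτ h2 hpr heE hek hTE hTp (hTn heE) u huT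
    · -- `r ∈ τ₃(M)`
      have huE₃ : u ∈ E₃ := mem_hall_tau3 hG hM hE hE₃ h3 (hE'E huE') hrl
      exact ((Subgroup.mem_centralizer_iff.mp heE₃) u huE₃).symm
  exact ((Subgroup.mem_centralizer_iff.mp hgoal) e (Set.mem_singleton e))

/-- **B-G Theorem 12.12(a)**. -/
theorem part_a (hG : IsMinSimpleOddOrder G) (M : Subgroup G) (hM : IsCoatom M) (E : Subgroup G)
    (hE : IsComplIn E (sigmaCore M) M)
    (h : ∀ e ∈ E, e ≠ 1 → (∀ p : ℕ, p.Prime → p ∣ orderOf e → p ∈ tau1 M ∪ tau3 M) →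
      sigmaCore M ⊓ centralizer ({e} : Set G) = ⊥) :
    ∃ A₀ : Subgroup G, A₀ ≤ E ∧ E ≤ normalizer (A₀ : Set G) ∧ IsMulCommutative A₀ ∧
      ∀ x ∈ sigmaCore M, x ≠ 1 → E ⊓ centralizer ({x} : Set G) ≤ A₀ := by
  classical
  have hE'n : E ≤ normalizer ((⁅E, E⁆ : Subgroup G) : Set G) :=
    Cfsg.Agent.Helper55.BGB.le_normalizer_commutator E
  set A₀ : Subgroup G := E ⊓ centralizer ((⁅E, E⁆ : Subgroup G) : Set G) with hA₀
  have h20 := Cfsg.Agent.S1420.result hG M hM E hE
  refine ⟨A₀, inf_le_left, ?_, ?_, ?_⟩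
  · intro n hn
    apply Subgroup.mem_normalizer_fintype
    rintro a ⟨haE, hac⟩
    have hac' := Subgroup.mem_centralizer_iff.mp hac
    refine ⟨E.mul_mem (E.mul_mem hn haE) (E.inv_mem hn), Subgroup.mem_centralizer_iff.mpr ?_⟩
    intro t ht
    have ht' : n⁻¹ * t * n ∈ ⁅E, E⁆ := by
      have := (Subgroup.mem_normalizer_iff.mp (hE'n (E.inv_mem hn)) t).mp ht
      simpa using this
    have h1 := hac' _ ht'
    calc t * (n * a * n⁻¹) = n * ((n⁻¹ * t * n) * a) * n⁻¹ := by group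
      _ = n * (a * (n⁻¹ * t * n)) * n⁻¹ := by rw [h1]
      _ = n * a * n⁻¹ * t := by group
  · -- abelian
    apply h20.1 A₀ (inf_le_left.trans hE.1)
    · apply isNilpotent_of_commutator_le_center
      rw [_root_.commutator_def, Subgroup.commutator_le]
      intro a _ b _
      rw [commutatorElement_def, Subgroup.mem_center_iff]
      intro c
      have hab : (a : G) * (b : G) * (a : G)⁻¹ * (b : G)⁻¹ ∈ ⁅E, E⁆ := by
        have := Subgroup.commutator_mem_commutator a.2.1 b.2.1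
        rwa [commutatorElement_def] at this
      have hc := (Subgroup.mem_centralizer_iff.mp c.2.2) _ hab
      apply Subtype.ext
      simpa using hc.symm
    · intro q hq hqd
      exact not_mem_sigma_of_dvd_card hG hM hE hq
        (dvd_trans hqd (Subgroup.card_dvd_of_le inf_le_left))
  · intro x hxK hx1 e he
    refine ⟨he.1, ?_⟩
    by_cases he1 : e = 1
    · rw [he1]; exact Subgroup.one_mem _
    have hex : x * e = e * x := (Subgroup.mem_centralizer_iff.mp he.2) x (Set.mem_singleton x)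
    -- apply the prime-power decomposition to `e`
    apply mem_of_primePow_powers_mem (centralizer ((⁅E, E⁆ : Subgroup G) : Set G)) (orderOf e) e rfl
    intro m hm
    obtain ⟨p, k, hp, hpk⟩ := hm
    haveI : Fact p.Prime := ⟨hp⟩
    by_cases hm1 : e ^ m = 1
    · rw [hm1]; exact Subgroup.one_mem _
    have hbad : sigmaCore M ⊓ centralizer ({e ^ m} : Set G) ≠ ⊥ := by
      intro hb
      apply hx1
      have : x ∈ sigmaCore M ⊓ centralizer ({e ^ m} : Set G) := by
        refine ⟨hxK, Subgroup.mem_centralizer_iff.mpr ?_⟩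
        intro y hy
        rw [Set.mem_singleton_iff] at hy
        rw [hy]
        have hc : Commute e x := hex.symm
        exact (hc.pow_left m).eq
      rw [hb, Subgroup.mem_bot] at this
      exact this
    have := bad_pelement_centralizes_commutator hG hM hE h (E.pow_mem he.1 m) hm1 hpk hbad
    rw [Subgroup.mem_centralizer_iff]
    intro t ht
    exact (this t ht).symm

end Cfsg.Agent.Helper29.BG1212
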