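import Mathlib
import Cfsg.Agent.Lib.Helper29.CoprimeHyp
import Cfsg.Agent.Lib.Helper52.Coprime

set_option autoImplicit false

namespace Cfsg.Agent.Helper29

open Subgroup MulAction
open scoped commutatorElement

variable {G : Type*} [Group G]

open Cfsg.Agent.Helper48 in
/-- Relative sharp generation by centralizers: `A` is an abelian `p`-group (not necessarily
elementary), and only `a ^ p`, `b ^ p` are required to centralize `M`. -/
theorem le_genS_rel_aux [Finite G] {p : ℕ} [hp : Fact p.Prime] (A : Subgroup G)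
    (hAc : ∀ x ∈ A, ∀ y ∈ A, x * y = y * x) (hApg : IsPGroup p A)
    (S : Set G) (hSA : S ⊆ A)
    {a b : G} (haA : a ∈ A) (hbA : b ∈ A)
    (hS1 : ∀ j : ℕ, a * b ^ j ∈ S) (hS2 : ∀ i : ℕ, 0 < i → i < p → b ^ i ∈ S) :
    ∀ (n : ℕ) (M : Subgroup G), Nat.card M = n → A ≤ normalizer (M : Set G) →
      (Nat.card M).Coprime p → a ^ p ∈ centralizer (M : Set G) → b ^ p ∈ centralizer (M : Set G) →
      M ≤ genS S M := by
  intro n
  induction n using Nat.strong_induction_on with
  | _ n ih =>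
  intro M hn hAM hM hapM hbpM
  by_contra hcon
  set D := genS S M with hD
  have hDM : D ≤ M := genS_le S M
  have hDne : D ≠ M := fun h => hcon (le_of_eq h.symm)
  have IH' : ∀ R : Subgroup G, R ≤ M → R ≠ M → A ≤ normalizer (R : Set G) → R ≤ D := by
    intro R hRM hRne hAR
    have hlt : Nat.card R < n := hn ▸ card_lt_of_le_of_ne hRM hRne
    have hcop : (Nat.card R).Coprime p :=
      Nat.Coprime.coprime_dvd_left (Subgroup.card_dvd_of_le hRM) hM
    exact le_trans (ih _ hlt R rfl hAR hcop (centralizer_le hRM hapM) (centralizer_le hRM hbpM))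
      (genS_mono S hRM)
  -- Step 1: M is a q-group
  have hq : ∃ q : ℕ, q.Prime ∧ IsPGroup q M := by
    by_contra hno
    push Not at hno
    apply hcon
    have htop : D.subgroupOf M = ⊤ := by
      rw [← Subgroup.index_eq_one]
      by_contra hidx
      obtain ⟨q, hqp, hqdvd⟩ := Nat.exists_prime_and_dvd hidx
      haveI := Fact.mk hqp
      obtain ⟨T, hT⟩ := exists_sylow_normalized_by q A M hApg hAM hM
      have hT'M : (T : Subgroup M).map M.subtype ≤ M := map_subtype_le _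
      have hT'ne : (T : Subgroup M).map M.subtype ≠ M := by
        intro h
        apply hno q hqp
        have h1 : IsPGroup q ((T : Subgroup M).map M.subtype) := T.2.map _
        exact h1.to_le (le_of_eq h.symm)
      have hT'D := IH' _ hT'M hT'ne (fun x hx => hT x hx)
      have hTle : (T : Subgroup M) ≤ D.subgroupOf M := by
        intro s hs
        rw [mem_subgroupOf]
        exact hT'D ⟨s, hs, rfl⟩
      have h2 := Subgroup.index_dvd_of_le hTle
      exact T.not_dvd_index (hqdvd.trans h2)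
    rw [subgroupOf_eq_top] at htop
    exact htop
  obtain ⟨q, hqp, hMq⟩ := hq
  haveI := Fact.mk hqp
  -- Step 2: D is normal in M and contains the commutator subgroup
  have hAD : ∀ x ∈ A, x ∈ normalizer (D : Set G) :=
    fun x hx => mem_normalizer_genS hSA hAc hx (hAM hx)
  have hMD : M ≤ normalizer (D : Set G) := by
    by_contra hnot
    obtain ⟨u, huM, huD, huN⟩ := exists_mem_normalizer_not_mem hMq hDM hDne
    have hR := IH' (M ⊓ normalizer (D : Set G)) inf_le_left
      (fun h => hnot (inf_eq_left.mp h))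
      (fun x hx => mem_normalizer_inf' (hAM hx) (mem_normalizer_normalizer (hAD x hx)))
    exact huD (hR ⟨huM, huN⟩)
  have hMne : M ≠ ⊥ := by
    intro h
    apply hcon
    rw [h]
    exact bot_le
  have hcomm : ⁅M, M⁆ ≤ D := by
    apply IH' _ (Subgroup.commutator_le_self M)
    · intro h
      have : Group.IsNilpotent M := hMq.isNilpotent
      have : Nontrivial M := (Subgroup.nontrivial_iff_ne_bot M).mpr hMne
      have hlt := Group.IsSolvable.commutator_lt_top_of_nontrivial M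
      rw [← Subgroup.map_subtype_commutator] at h
      have h3 : (_root_.commutator M).map M.subtype = (⊤ : Subgroup M).map M.subtype := by
        rw [h, ← MonoidHom.range_eq_map, M.range_subtype]
      have h4 := Subgroup.map_injective M.subtype_injective h3
      exact hlt.ne h4
    · exact fun x hx => mem_normalizer_commutator (hAM hx)
  -- Step 3: pass to the quotient of `X = N_G(D)` by `D`
  have hDcop : (Nat.card D).Coprime p :=
    Nat.Coprime.coprime_dvd_left (Subgroup.card_dvd_of_le hDM) hM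
  set X := normalizer (D : Set G) with hX
  have hAX : A ≤ X := fun x hx => hAD x hx
  haveI hDn : (D.subgroupOf X).Normal := normal_in_normalizer
  let π : X →* X ⧸ D.subgroupOf X := QuotientGroup.mk' (D.subgroupOf X)
  set V : Subgroup (X ⧸ D.subgroupOf X) := (M.subgroupOf X).map π with hV
  have hVcomm : ∀ v w : V, v * w = w * v := by
    rintro ⟨v, m₁, hm₁, rfl⟩ ⟨w, m₂, hm₂, rfl⟩
    apply Subtype.ext
    change π m₁ * π m₂ = π m₂ * π m₁
    rw [← map_mul, ← map_mul]
    apply (QuotientGroup.eq).mpr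
    rw [mem_subgroupOf]
    apply hcomm
    have e : (((m₁ * m₂)⁻¹ * (m₂ * m₁) : X) : G) = ⁅(m₂ : G)⁻¹, (m₁ : G)⁻¹⁆ := by
      rw [commutatorElement_def]
      simp only [Subgroup.coe_mul, Subgroup.coe_inv]
      group
    rw [e]
    exact commutator_mem_commutator (M.inv_mem (mem_subgroupOf.mp hm₂))
      (M.inv_mem (mem_subgroupOf.mp hm₁))
  letI : CommGroup V := { (inferInstance : Group V) with mul_comm := hVcomm }
  have hVcop : (Nat.card V).Coprime p := by
    have h1 : Nat.card V ∣ Nat.card (M.subgroupOf X) := Subgroup.card_map_dvd _ π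
    have h2 : Nat.card (M.subgroupOf X) = Nat.card M :=
      Nat.card_congr (Subgroup.subgroupOfEquivOfLe hMD).toEquiv
    rw [h2] at h1
    exact Nat.Coprime.coprime_dvd_left h1 hM
  -- the action of `A` on `V`
  have hγmem : ∀ x : A, (π.comp (Subgroup.inclusion hAX)) x ∈
      normalizer ((V : Subgroup (X ⧸ D.subgroupOf X)) : Set (X ⧸ D.subgroupOf X)) := by
    intro x
    apply mem_normalizer_fintype
    rintro _ ⟨m, hm, rfl⟩
    refine ⟨Subgroup.inclusion hAX x * m * (Subgroup.inclusion hAX x)⁻¹, ?_, ?_⟩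
    · rw [SetLike.mem_coe, mem_subgroupOf] at hm ⊢
      have := (mem_normalizer_iff.mp (hAM x.2) (m : G)).mp hm
      simpa using this
    · simp
  let γ : A →* normalizer ((V : Subgroup (X ⧸ D.subgroupOf X)) : Set (X ⧸ D.subgroupOf X)) :=
    (π.comp (Subgroup.inclusion hAX)).codRestrict _ hγmem
  -- fixed points lift
  have hlift : ∀ c : A, (c : G) ∈ S → ∀ v : V, γ c • v = v → v = 1 := by
    rintro c hcS ⟨v, m, hm, rfl⟩ hfix
    have hfix' : π (Subgroup.inclusion hAX c) * π m * (π (Subgroup.inclusion hAX c))⁻¹ = π m :=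
      congrArg Subtype.val hfix
    rw [← map_inv, ← map_mul, ← map_mul] at hfix'
    have h1 := (QuotientGroup.eq).mp hfix'.symm
    rw [mem_subgroupOf] at h1
    have h2 : (m : G)⁻¹ * ((c : G) * (m : G) * (c : G)⁻¹) ∈ D := by simpa using h1
    obtain ⟨e, he⟩ := hApg c
    have hcp : (c : G) ^ p ^ e = 1 := by
      have := congrArg Subtype.val he
      simpa using this
    obtain ⟨d, hdD, hd⟩ := exists_mul_mem_fixed D hDcop (c : G) (m : G) e hcp (hAD c.1 c.2) h2
    have hmM : (m : G) ∈ M := mem_subgroupOf.mp hm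
    have h3 : (m : G) * d ∈ M ⊓ centralizer ({(c : G)} : Set G) := by
      refine Subgroup.mem_inf.mpr ⟨M.mul_mem hmM (hDM hdD), ?_⟩
      rw [mem_centralizer_singleton_iff]
      calc (m : G) * d * (c : G) = ((c : G) * ((m : G) * d) * (c : G)⁻¹) * (c : G) := by rw [hd]
        _ = (c : G) * ((m : G) * d) := by group
    have h4 : (m : G) * d ∈ D := inf_centralizer_le_genS M hcS h3
    have h5 : (m : G) ∈ D := by
      have := D.mul_mem h4 (D.inv_mem hdD)
      simpa using this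
    apply Subtype.ext
    change π m = 1
    exact (QuotientGroup.eq_one_iff m).mpr (mem_subgroupOf.mpr h5)
  -- apply the fixed-point-free lemma
  let a' : A := ⟨a, haA⟩
  let b' : A := ⟨b, hbA⟩
  have hab' : Commute a' b' := Subtype.ext (hAc a haA b hbA)
  have htriv : ∀ c : A, (c : G) ∈ centralizer (M : Set G) → ∀ w : V, γ c • w = w := by
    rintro c hc ⟨w, m, hm, rfl⟩
    apply Subtype.ext
    change π (Subgroup.inclusion hAX c) * π m * (π (Subgroup.inclusion hAX c))⁻¹ = π m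
    rw [← map_inv, ← map_mul, ← map_mul]
    congr 1
    apply Subtype.ext
    have hmM : (m : G) ∈ M := mem_subgroupOf.mp hm
    have h1 : (m : G) * (c : G) = (c : G) * (m : G) := mem_centralizer_iff.mp hc (m : G) hmM
    simp only [Subgroup.coe_mul, Subgroup.coe_inv, Subgroup.coe_inclusion]
    rw [← h1, mul_inv_cancel_right]
  have hall : ∀ v : V, v = 1 := by
    intro v
    refine eq_one_of_fixedPointFree hVcop (γ a') (γ b') (hab'.map γ) ?_ ?_ ?_ ?_ v
    · intro w
      rw [← map_pow]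
      exact htriv (a' ^ p) (by simpa [a'] using hapM) w
    · intro w
      rw [← map_pow]
      exact htriv (b' ^ p) (by simpa [b'] using hbpM) w
    · intro j w hw
      rw [← map_pow, ← map_mul] at hw
      refine hlift _ ?_ w hw
      simpa [a', b'] using hS1 j
    · intro i hi hip w hw
      rw [← map_pow] at hw
      refine hlift _ ?_ w hw
      simpa [b'] using hS2 i hi hip
  apply hcon
  intro m hm
  have h1 := hall ⟨π ⟨m, hMD hm⟩, ⟨⟨m, hMD hm⟩, mem_subgroupOf.mpr hm, rfl⟩⟩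
  have h2 : π ⟨m, hMD hm⟩ = 1 := congrArg Subtype.val h1
  have h3 := (QuotientGroup.eq_one_iff _).mp h2
  exact mem_subgroupOf.mp h3


/-- **Relative sharp generation by centralizers**: `A` an abelian `p`-subgroup normalizing the
`p'`-subgroup `M`, `a, b ∈ A` with `a ^ p`, `b ^ p` centralizing `M`; then `M` is generated by the
`C_M(c)`, `c ∈ S`, for any `S ⊆ A` containing all `a * b ^ j` and all `b ^ i`, `0 < i < p`. -/
theorem le_genS_rel [Finite G] {p : ℕ} [Fact p.Prime] (A M : Subgroup G)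
    (hAc : ∀ x ∈ A, ∀ y ∈ A, x * y = y * x) (hApg : IsPGroup p A)
    (S : Set G) (hSA : S ⊆ A)
    {a b : G} (haA : a ∈ A) (hbA : b ∈ A)
    (hS1 : ∀ j : ℕ, a * b ^ j ∈ S) (hS2 : ∀ i : ℕ, 0 < i → i < p → b ^ i ∈ S)
    (hAM : A ≤ normalizer (M : Set G)) (hM : (Nat.card M).Coprime p)
    (hapM : a ^ p ∈ centralizer (M : Set G)) (hbpM : b ^ p ∈ centralizer (M : Set G)) :
    M ≤ genS S M :=
  le_genS_rel_aux A hAc hApg S hSA haA hbA hS1 hS2 _ M rfl hAM hM hapM hbpM

/-! ### Noncyclic finite abelian groups contain `C_p × C_p` -/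

/-- A finite abelian group that is not cyclic contains, for some prime `p`, an element `z ≠ 1`
with `z ^ p = 1` and an element `y` with `y ^ p = 1` outside `⟨z⟩`. -/
theorem exists_rank_two_of_not_isCyclic {Q : Type*} [CommGroup Q] [Finite Q] (h : ¬ IsCyclic Q) :
    ∃ p : ℕ, p.Prime ∧ ∃ y z : Q, y ^ p = 1 ∧ z ^ p = 1 ∧ z ≠ 1 ∧ y ∉ Subgroup.zpowers z := by
  have he0 : Monoid.exponent Q ≠ 0 := Monoid.exponent_ne_zero_of_finite
  obtain ⟨g, hg⟩ := Monoid.exists_orderOf_eq_exponent (Monoid.exponent_ne_zero.mp he0)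
  set e := Monoid.exponent Q with he
  have hne : Subgroup.zpowers g ≠ ⊤ := fun htop => h (isCyclic_iff_exists_zpowers_eq_top.mpr ⟨g, htop⟩)
  obtain ⟨x₀, hx₀⟩ : ∃ x₀ : Q, x₀ ∉ Subgroup.zpowers g := by
    by_contra hcon
    push Not at hcon
    exact hne (Subgroup.eq_top_iff' _ |>.mpr hcon)
  have hP : ∃ n : ℕ, 0 < n ∧ x₀ ^ n ∈ Subgroup.zpowers g :=
    ⟨e, Nat.pos_of_ne_zero he0, by rw [he, Monoid.pow_exponent_eq_one]; exact Subgroup.one_mem _⟩
  classical
  set n := Nat.find hP with hn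
  have hnspec := Nat.find_spec hP
  have hmin : ∀ m : ℕ, m < n → ¬ (0 < m ∧ x₀ ^ m ∈ Subgroup.zpowers g) := fun m hm => Nat.find_min hP hm
  have hn1 : n ≠ 1 := by
    intro h1
    have := hnspec.2
    rw [← hn, h1, pow_one] at this
    exact hx₀ this
  have hp : (n.minFac).Prime := Nat.minFac_prime hn1
  set p := n.minFac with hpdef
  have hpn : p ∣ n := Nat.minFac_dvd n
  obtain ⟨m, hm⟩ := hpn
  have hm0 : 0 < m := by
    rcases Nat.eq_zero_or_pos m with h0 | h0
    · rw [h0, mul_zero] at hm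
      have := hnspec.1
      rw [← hn] at this
      omega
    · exact h0
  have hmn : m < n := by
    rw [hm]
    have := hp.one_lt
    nlinarith
  set x := x₀ ^ m with hx
  have hxg : x ∉ Subgroup.zpowers g := fun hmem => hmin m hmn ⟨hm0, hmem⟩
  have hxp : x ^ p ∈ Subgroup.zpowers g := by
    have : x ^ p = x₀ ^ n := by rw [hx, ← pow_mul, mul_comm, ← hm]
    rw [this]
    exact hnspec.2
  obtain ⟨k, hk⟩ := Subgroup.mem_zpowers_iff.mp hxp
  -- `p ∣ e`
  have hpe : p ∣ e := by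
    by_contra hnd
    have hcop : p.Coprime e := (Nat.Prime.coprime_iff_not_dvd hp).mpr hnd
    have hcop' : p.Coprime (orderOf x) :=
      Nat.Coprime.coprime_dvd_right (Monoid.order_dvd_exponent x) hcop
    obtain ⟨m', hm'⟩ := exists_pow_eq_self_of_coprime hcop'
    apply hxg
    rw [← hm']
    exact Subgroup.pow_mem _ hxp m'
  obtain ⟨f, hf⟩ := hpe
  have hf0 : f ≠ 0 := by
    intro h0
    rw [h0, mul_zero] at hf
    exact he0 hf
  -- `p ∣ k`
  have hpk : (p : ℤ) ∣ k := by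
    have h1 : (g ^ k) ^ f = 1 := by
      rw [hk, ← pow_mul, ← hf, he, Monoid.pow_exponent_eq_one]
    rw [← zpow_natCast, ← zpow_mul] at h1
    have h2 : (orderOf g : ℤ) ∣ k * (f : ℤ) := orderOf_dvd_iff_zpow_eq_one.mpr h1
    rw [hg, hf] at h2
    push_cast at h2
    exact Int.dvd_of_mul_dvd_mul_right (by exact_mod_cast hf0) h2
  obtain ⟨k', hk'⟩ := hpk
  set y := x * g ^ (-k') with hy
  have hyp : y ^ p = 1 := by
    rw [hy, mul_pow, ← hk, ← zpow_natCast (g ^ (-k')), ← zpow_mul, ← zpow_add, hk']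
    have : (p : ℤ) * k' + -k' * (p : ℤ) = 0 := by ring
    rw [this, zpow_zero]
  have hyg : y ∉ Subgroup.zpowers g := by
    intro hmem
    apply hxg
    have : x = y * g ^ k' := by rw [hy, mul_assoc, ← zpow_add, neg_add_cancel, zpow_zero, mul_one]
    rw [this]
    exact Subgroup.mul_mem _ hmem (Subgroup.zpow_mem _ (Subgroup.mem_zpowers g) k')
  set z := g ^ f with hz
  have hzp : z ^ p = 1 := by
    rw [hz, ← pow_mul, mul_comm, ← hf, ← hg, pow_orderOf_eq_one]
  have hz1 : z ≠ 1 := by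
    apply pow_ne_one_of_lt_orderOf hf0
    rw [hg, hf]
    have := hp.one_lt
    have hfpos : 0 < f := Nat.pos_of_ne_zero hf0
    nlinarith
  refine ⟨p, hp, y, z, hyp, hzp, hz1, ?_⟩
  intro hmem
  apply hyg
  have hle : Subgroup.zpowers z ≤ Subgroup.zpowers g := by
    rw [Subgroup.zpowers_le]
    exact Subgroup.pow_mem _ (Subgroup.mem_zpowers g) f
  exact hle hmem

/-- Internal version: if `A` is a finite abelian subgroup and `D ≤ A` is such that `A / D` is not
cyclic (no `a ∈ A` with `D ⊔ ⟨a⟩ = A`), then for some prime `p` there are `p`-elements `a, b ∈ A`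
with `a ^ p, b ^ p ∈ D`, `b ∉ D` and `a ∉ D ⊔ ⟨b⟩`. -/
theorem exists_rank_two_section [Finite G] (A D : Subgroup G)
    (hAc : ∀ x ∈ A, ∀ y ∈ A, x * y = y * x) (hDA : D ≤ A)
    (hnc : ¬ ∃ a ∈ A, D ⊔ Subgroup.zpowers a = A) :
    ∃ p : ℕ, p.Prime ∧ ∃ a b : G, a ∈ A ∧ b ∈ A ∧ (∃ k : ℕ, a ^ p ^ k = 1) ∧
      (∃ k : ℕ, b ^ p ^ k = 1) ∧ a ^ p ∈ D ∧ b ^ p ∈ D ∧ b ∉ D ∧ a ∉ D ⊔ Subgroup.zpowers b := by
  letI : CommGroup ↥A :=
    { (inferInstance : Group ↥A) with mul_comm := fun x y => Subtype.ext (hAc x x.2 y y.2) }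
  set D' : Subgroup ↥A := D.subgroupOf A with hD'
  let φ : ↥A →* ↥A ⧸ D' := QuotientGroup.mk' D'
  have hker : ∀ x : ↥A, φ x = 1 ↔ (x : G) ∈ D := by
    intro x
    rw [← MonoidHom.mem_ker, QuotientGroup.ker_mk', hD', Subgroup.mem_subgroupOf]
  have hncyc : ¬ IsCyclic (↥A ⧸ D') := by
    intro hcyc
    obtain ⟨q₀, hq₀⟩ := hcyc.exists_generator
    obtain ⟨a₀, rfl⟩ := QuotientGroup.mk'_surjective D' q₀
    apply hnc
    refine ⟨a₀, a₀.2, le_antisymm (sup_le hDA (by rw [Subgroup.zpowers_le]; exact a₀.2)) ?_⟩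
    intro x hx
    obtain ⟨k, hk⟩ := Subgroup.mem_zpowers_iff.mp (hq₀ (φ ⟨x, hx⟩))
    have h1 : φ (a₀ ^ (-k) * ⟨x, hx⟩) = 1 := by
      rw [map_mul, map_zpow, ← hk, ← zpow_add, neg_add_cancel, zpow_zero]
    rw [hker] at h1
    have h2 : x = (a₀ : G) ^ k * ((a₀ ^ (-k) * ⟨x, hx⟩ : ↥A) : G) := by
      simp only [Subgroup.coe_mul, Subgroup.coe_zpow]
      rw [← mul_assoc, ← zpow_add, add_neg_cancel, zpow_zero, one_mul]
    rw [h2]
    exact Subgroup.mul_mem _
      (Subgroup.mem_sup_right (Subgroup.zpow_mem _ (Subgroup.mem_zpowers (a₀ : G)) k))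
      (Subgroup.mem_sup_left h1)
  obtain ⟨p, hp, yb, zb, hybp, hzbp, hzb1, hybzb⟩ := exists_rank_two_of_not_isCyclic hncyc
  obtain ⟨y₀, rfl⟩ := QuotientGroup.mk'_surjective D' yb
  obtain ⟨z₀, rfl⟩ := QuotientGroup.mk'_surjective D' zb
  obtain ⟨k, m, hpm, hcard⟩ := Nat.exists_eq_pow_mul_and_not_dvd
    (Nat.card_pos (α := ↥A)).ne' p hp.one_lt.ne'
  have hcop : Nat.Coprime m p := ((Nat.Prime.coprime_iff_not_dvd hp).mpr hpm).symm
  obtain ⟨u, -, hu⟩ := Nat.exists_mul_mod_eq_one_of_coprime hcop hp.one_lt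
  have hppart : ∀ w : ↥A, (w ^ (m * u)) ^ p ^ k = 1 := by
    intro w
    rw [← pow_mul, mul_comm (m * u), ← mul_assoc, ← hcard, pow_mul, pow_card_eq_one', one_pow]
  have hφ : ∀ w : ↥A, (φ w) ^ p = 1 → φ (w ^ (m * u)) = φ w := by
    intro w hw
    rw [map_pow, pow_eq_pow_mod _ hw, hu, pow_one]
  set a : ↥A := y₀ ^ (m * u) with ha
  set b : ↥A := z₀ ^ (m * u) with hb
  have hφa : φ a = φ y₀ := hφ y₀ hybp
  have hφb : φ b = φ z₀ := hφ z₀ hzbp
  refine ⟨p, hp, (a : G), (b : G), a.2, b.2, ⟨k, ?_⟩, ⟨k, ?_⟩, ?_, ?_, ?_, ?_⟩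
  · have := congrArg Subtype.val (hppart y₀)
    rw [← ha] at this
    simpa using this
  · have := congrArg Subtype.val (hppart z₀)
    rw [← hb] at this
    simpa using this
  · have h1 : φ (a ^ p) = 1 := by rw [map_pow, hφa, hybp]
    rw [hker] at h1
    simpa using h1
  · have h1 : φ (b ^ p) = 1 := by rw [map_pow, hφb, hzbp]
    rw [hker] at h1
    simpa using h1
  · intro hbD
    apply hzb1
    rw [← hφb, hker]
    exact hbD
  · intro haD
    apply hybzb
    rw [← hφa, ← hφb]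
    have hle : D ⊔ Subgroup.zpowers (b : G) ≤
        ((Subgroup.zpowers (φ b)).comap φ).map A.subtype := by
      apply sup_le
      · intro d hd
        refine ⟨⟨d, hDA hd⟩, ?_, rfl⟩
        rw [SetLike.mem_coe, Subgroup.mem_comap, (hker ⟨d, hDA hd⟩).mpr hd]
        exact Subgroup.one_mem _
      · rw [Subgroup.zpowers_le]
        exact ⟨b, Subgroup.mem_zpowers (φ b), rfl⟩
    obtain ⟨a', ha', haa'⟩ := hle haD
    have : a' = a := Subtype.ext haa'
    rw [this] at ha'
    exact ha'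

/-! ### Generation by the centralizers of subgroups with cyclic quotient -/

/-- the `p`-part of an abelian subgroup -/
def pPart (A : Subgroup G) (hAc : ∀ x ∈ A, ∀ y ∈ A, x * y = y * x) (p : ℕ) : Subgroup G where
  carrier := {x | x ∈ A ∧ ∃ k : ℕ, x ^ p ^ k = 1}
  mul_mem' := by
    rintro x y ⟨hx, k, hk⟩ ⟨hy, l, hl⟩
    refine ⟨A.mul_mem hx hy, k + l, ?_⟩
    have hc : Commute x y := hAc x hx y hy
    rw [hc.mul_pow, pow_add, pow_mul, hk, one_pow, mul_comm (p ^ k), pow_mul, hl, one_pow, one_mul]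
  one_mem' := ⟨A.one_mem, 0, by simp⟩
  inv_mem' := by
    rintro x ⟨hx, k, hk⟩
    exact ⟨A.inv_mem hx, k, by rw [inv_pow, hk, inv_one]⟩

theorem pPart_le (A : Subgroup G) (hAc : ∀ x ∈ A, ∀ y ∈ A, x * y = y * x) (p : ℕ) :
    pPart A hAc p ≤ A := fun _ hx => hx.1

theorem pPart_isPGroup (A : Subgroup G) (hAc : ∀ x ∈ A, ∀ y ∈ A, x * y = y * x) (p : ℕ) :
    IsPGroup p (pPart A hAc p) := by
  rintro ⟨x, hx, k, hk⟩
  exact ⟨k, Subtype.ext hk⟩

theorem le_normalizer_inf_centralizer {A M D : Subgroup G}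
    (hAc : ∀ x ∈ A, ∀ y ∈ A, x * y = y * x) (hAM : A ≤ normalizer (M : Set G)) (hDA : D ≤ A) :
    A ≤ normalizer ((M ⊓ centralizer (D : Set G) : Subgroup G) : Set G) := by
  intro x hx
  apply Cfsg.Agent.Helper48.mem_normalizer_inf' (hAM hx)
  apply le_normalizer
  rw [mem_centralizer_iff]
  intro d hd
  exact hAc d (hDA hd) x hx

theorem inf_centralizer_le_iSup_cyc_aux [Finite G] (A M : Subgroup G)
    (hAc : ∀ x ∈ A, ∀ y ∈ A, x * y = y * x) (hAM : A ≤ normalizer (M : Set G))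
    (hcop : (Nat.card A).Coprime (Nat.card M)) :
    ∀ (n : ℕ) (D : Subgroup G), D ≤ A → Nat.card A - Nat.card D = n →
      M ⊓ centralizer (D : Set G) ≤
        ⨆ B ∈ {B : Subgroup G | B ≤ A ∧ ∃ a ∈ A, B ⊔ zpowers a = A},
          M ⊓ centralizer (B : Set G) := by
  intro n
  induction n using Nat.strong_induction_on with
  | _ n ih =>
  intro D hDA hn
  by_cases hcyc : ∃ a ∈ A, D ⊔ zpowers a = A
  · exact le_iSup₂_of_le (f := fun (B : Subgroup G)
      (_ : B ∈ {B : Subgroup G | B ≤ A ∧ ∃ a ∈ A, B ⊔ zpowers a = A}) =>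
        M ⊓ centralizer (B : Set G)) D ⟨hDA, hcyc⟩ le_rfl
  obtain ⟨p, hp, a, b, haA, hbA, ⟨ka, hka⟩, ⟨kb, hkb⟩, hapD, hbpD, hbD, haDb⟩ :=
    exists_rank_two_section A D hAc hDA hcyc
  haveI := Fact.mk hp
  have hAp_c : ∀ x ∈ pPart A hAc p, ∀ y ∈ pPart A hAc p, x * y = y * x :=
    fun x hx y hy => hAc x hx.1 y hy.1
  have hS1 : ∀ j : ℕ, a * b ^ j ∈ {c | c ∈ pPart A hAc p ∧ c ∉ D} := by
    intro j
    refine ⟨(pPart A hAc p).mul_mem ⟨haA, ka, hka⟩ ((pPart A hAc p).pow_mem ⟨hbA, kb, hkb⟩ j),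
      fun h => haDb ?_⟩
    have : a = (a * b ^ j) * (b ^ j)⁻¹ := by group
    rw [this]
    exact Subgroup.mul_mem _ (mem_sup_left h)
      (mem_sup_right (Subgroup.inv_mem _ (Subgroup.pow_mem _ (mem_zpowers b) j)))
  have hS2 : ∀ i : ℕ, 0 < i → i < p → b ^ i ∈ {c | c ∈ pPart A hAc p ∧ c ∉ D} := by
    intro i hi hip
    refine ⟨(pPart A hAc p).pow_mem ⟨hbA, kb, hkb⟩ i, fun h => hbD ?_⟩
    have hcop' : IsCoprime (i : ℤ) (p : ℤ) :=
      Nat.isCoprime_iff_coprime.mpr (Nat.coprime_of_lt_prime hi.ne' hip hp).symm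
    obtain ⟨u, v, huv⟩ := hcop'
    have hb1 : b = (b ^ i) ^ u * (b ^ p) ^ v := by
      rw [← zpow_natCast b i, ← zpow_natCast b p, ← zpow_mul, ← zpow_mul, ← zpow_add,
        mul_comm (i : ℤ), mul_comm (p : ℤ), huv, zpow_one]
    rw [hb1]
    exact D.mul_mem (D.zpow_mem h u) (D.zpow_mem hbpD v)
  have hAM' := le_normalizer_inf_centralizer hAc hAM hDA
  have hpA : p ∣ Nat.card A := by
    have hb1 : b ≠ 1 := fun h => hbD (h ▸ D.one_mem)
    have h1 : orderOf b ∣ p ^ kb := orderOf_dvd_of_pow_eq_one hkb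
    obtain ⟨e, -, he⟩ := (Nat.dvd_prime_pow hp).mp h1
    have he0 : e ≠ 0 := by
      intro h0
      rw [h0, pow_zero, orderOf_eq_one_iff] at he
      exact hb1 he
    have h2 : p ∣ orderOf b := by rw [he]; exact dvd_pow_self p he0
    exact h2.trans (Subgroup.orderOf_dvd_natCard A hbA)
  have hMcop : (Nat.card (M ⊓ centralizer (D : Set G) : Subgroup G)).Coprime p := by
    have h1 : (Nat.card M).Coprime p := (Nat.Coprime.coprime_dvd_left hpA hcop).symm
    exact Nat.Coprime.coprime_dvd_left (Subgroup.card_dvd_of_le inf_le_left) h1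
  have hcentD : ∀ d ∈ D, d ∈ centralizer ((M ⊓ centralizer (D : Set G) : Subgroup G) : Set G) := by
    intro d hd
    rw [mem_centralizer_iff]
    intro m hm
    exact (mem_centralizer_iff.mp hm.2 d hd).symm
  have hgen := le_genS_rel (pPart A hAc p) (M ⊓ centralizer (D : Set G)) hAp_c
    (pPart_isPGroup A hAc p) {c | c ∈ pPart A hAc p ∧ c ∉ D} (fun c hc => hc.1)
    ⟨haA, ka, hka⟩ ⟨hbA, kb, hkb⟩ hS1 hS2 ((pPart_le A hAc p).trans hAM') hMcop
    (hcentD _ hapD) (hcentD _ hbpD)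
  refine le_trans hgen ?_
  unfold genS
  apply iSup_le
  rintro ⟨c, hcA, hcD⟩
  have hcA' : c ∈ A := hcA.1
  have hD'A : D ⊔ zpowers c ≤ A := sup_le hDA (by rw [zpowers_le]; exact hcA')
  have hDD' : D ≠ D ⊔ zpowers c := by
    intro h
    apply hcD
    rw [h]
    exact mem_sup_right (mem_zpowers c)
  have hlt : Nat.card A - Nat.card (D ⊔ zpowers c : Subgroup G) < n := by
    have h1 : Nat.card D < Nat.card (D ⊔ zpowers c : Subgroup G) :=
      Cfsg.Agent.Helper48.card_lt_of_le_of_ne le_sup_left hDD'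
    have h2 : Nat.card (D ⊔ zpowers c : Subgroup G) ≤ Nat.card A := Subgroup.card_le_of_le hD'A
    omega
  have := ih _ hlt (D ⊔ zpowers c) hD'A rfl
  refine le_trans ?_ this
  rw [inf_assoc]
  exact inf_le_inf_left _ (centralizer_inf_singleton_le_sup D c)

/-- **Coprime action of an abelian group** (first part): if the abelian subgroup `A` normalizes `M`
and `|A|`, `|M|` are coprime, then `M` is generated by the subgroups `C_M(B)`, `B ≤ A` with `A / B`
cyclic. -/
theorem iSup_cyc_eq [Finite G] (A M : Subgroup G)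
    (hAc : ∀ x ∈ A, ∀ y ∈ A, x * y = y * x) (hAM : A ≤ normalizer (M : Set G))
    (hcop : (Nat.card A).Coprime (Nat.card M)) :
    (⨆ B ∈ {B : Subgroup G | B ≤ A ∧ ∃ a ∈ A, B ⊔ zpowers a = A},
      M ⊓ centralizer (B : Set G)) = M := by
  apply le_antisymm
  · exact iSup₂_le fun B _ => inf_le_left
  · have h := inf_centralizer_le_iSup_cyc_aux A M hAc hAM hcop _ ⊥ bot_le rfl
    refine le_trans ?_ h
    apply le_inf le_rfl
    intro x _
    rw [mem_centralizer_iff]
    intro d hd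
    rw [coe_bot, Set.mem_singleton_iff] at hd
    rw [hd, one_mul, mul_one]

theorem mem_normalizer_commutator_of_mem {K A : Subgroup G} {x : G}
    (hK : x ∈ normalizer (K : Set G)) (hA : x ∈ normalizer (A : Set G)) :
    x ∈ normalizer ((⁅K, A⁆ : Subgroup G) : Set G) := by
  rw [mem_normalizer_iff_map_conj_eq] at hK hA ⊢
  rw [Subgroup.map_commutator, hK, hA]

/-- **Coprime action of an abelian group** (second part): `[M, A]` is generated by the subgroups
`[C_M(B), A]`, `B ≤ A` with `A / B` cyclic. -/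
theorem iSup_cyc_commutator_eq [Finite G] (A M : Subgroup G)
    (hAc : ∀ x ∈ A, ∀ y ∈ A, x * y = y * x) (hAM : A ≤ normalizer (M : Set G))
    (hcop : (Nat.card A).Coprime (Nat.card M)) :
    (⨆ B ∈ {B : Subgroup G | B ≤ A ∧ ∃ a ∈ A, B ⊔ zpowers a = A},
      ⁅M ⊓ centralizer (B : Set G), A⁆) = ⁅M, A⁆ := by
  apply le_antisymm
  · exact iSup₂_le fun B _ => commutator_mono inf_le_left le_rfl
  have hsolvA : Group.IsSolvable A := by
    apply Group.isSolvable_of_comm
    intro x y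
    exact Subtype.ext (hAc x x.2 y y.2)
  set H := ⁅M, A⁆ with hH
  have hHM : H ≤ M := Cfsg.Agent.Helper24.commutator_le_of_le_normalizer M A hAM
  have hAH : A ≤ normalizer (H : Set G) := normalizer_commutator_ge_right M A
  have hcopH : (Nat.card A).Coprime (Nat.card H) :=
    Nat.Coprime.coprime_dvd_right (Subgroup.card_dvd_of_le hHM) hcop
  have h1 : ⁅H, A⁆ = H :=
    Cfsg.Agent.Helper52.commutator_commutator_eq M A hAM hcop (Or.inl hsolvA)
  have h2 := iSup_cyc_eq A H hAc hAH hcopH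
  set G₁ := ⨆ B ∈ {B : Subgroup G | B ≤ A ∧ ∃ a ∈ A, B ⊔ zpowers a = A},
      ⁅H ⊓ centralizer (B : Set G), A⁆ with hG₁
  have hG₁le : G₁ ≤ ⨆ B ∈ {B : Subgroup G | B ≤ A ∧ ∃ a ∈ A, B ⊔ zpowers a = A},
      ⁅M ⊓ centralizer (B : Set G), A⁆ :=
    iSup₂_mono fun B _ => commutator_mono (inf_le_inf_right _ hHM) le_rfl
  refine le_trans ?_ hG₁le
  -- normalizers
  have hnorm : ∀ x : G, x ∈ normalizer (H : Set G) → x ∈ normalizer (A : Set G) →
      (∀ B : Subgroup G, B ≤ A → x ∈ centralizer (B : Set G)) →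
      x ∈ normalizer (G₁ : Set G) := by
    intro x hxH hxA hxB
    rw [mem_normalizer_iff_map_conj_eq]
    rw [hG₁, Subgroup.map_iSup]
    apply iSup_congr
    intro B
    rw [Subgroup.map_iSup]
    apply iSup_congr
    intro hB
    have hx1 : x ∈ normalizer ((H ⊓ centralizer (B : Set G) : Subgroup G) : Set G) :=
      Cfsg.Agent.Helper48.mem_normalizer_inf' hxH (le_normalizer (hxB B hB.1))
    have := mem_normalizer_commutator_of_mem hx1 hxA
    rw [mem_normalizer_iff_map_conj_eq] at this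
    exact this
  have hAG₁ : A ≤ normalizer (G₁ : Set G) := by
    intro x hx
    apply hnorm x (hAH hx) (le_normalizer hx)
    intro B hB
    rw [mem_centralizer_iff]
    intro d hd
    exact hAc d (hB hd) x hx
  have hCG₁ : H ⊓ centralizer (A : Set G) ≤ normalizer (G₁ : Set G) := by
    intro x hx
    apply hnorm x (le_normalizer hx.1) (centralizer_le_normalizer _ hx.2)
    intro B hB
    exact centralizer_le hB hx.2
  -- `H ≤ G₁ ⊔ C_H(A)`
  have hHle : H ≤ (H ⊓ centralizer (A : Set G)) ⊔ G₁ := by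
    refine le_trans (le_of_eq h2.symm) ?_
    apply iSup₂_le
    intro B hB
    have hAK : A ≤ normalizer ((H ⊓ centralizer (B : Set G) : Subgroup G) : Set G) :=
      le_normalizer_inf_centralizer hAc hAH hB.1
    have hcopK : (Nat.card A).Coprime (Nat.card (H ⊓ centralizer (B : Set G) : Subgroup G)) :=
      Nat.Coprime.coprime_dvd_right (Subgroup.card_dvd_of_le inf_le_left) hcopH
    have h3 := Cfsg.Agent.Helper52.eq_commutator_sup_centralizer
      (H ⊓ centralizer (B : Set G)) A hAK hcopK (Or.inl hsolvA)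
    rw [h3]
    apply sup_le
    · refine le_trans ?_ le_sup_right
      exact le_iSup₂_of_le (f := fun (B : Subgroup G)
        (_ : B ∈ {B : Subgroup G | B ≤ A ∧ ∃ a ∈ A, B ⊔ zpowers a = A}) =>
          ⁅H ⊓ centralizer (B : Set G), A⁆) B hB le_rfl
    · refine le_trans ?_ le_sup_left
      exact inf_le_inf_right _ inf_le_left
  -- `[H, A] ≤ G₁`
  rw [← h1, commutator_le]
  intro h hh a ha
  have hmem := hHle hh
  rw [← SetLike.mem_coe, coe_mul_of_left_le_normalizer_right _ _ hCG₁] at hmem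
  obtain ⟨c, hc, g, hg, rfl⟩ := hmem
  have hca : c * a = a * c := (mem_centralizer_iff.mp hc.2 a ha).symm
  have e : ⁅c * g, a⁆ = c * (g * (a * g⁻¹ * a⁻¹)) * c⁻¹ := by
    rw [commutatorElement_def]
    calc c * g * a * (c * g)⁻¹ * a⁻¹ = c * g * a * g⁻¹ * (c⁻¹ * a⁻¹) := by group
      _ = c * g * a * g⁻¹ * (a⁻¹ * c⁻¹) := by
          rw [← mul_inv_rev, ← mul_inv_rev, hca]
      _ = c * (g * (a * g⁻¹ * a⁻¹)) * c⁻¹ := by group
  rw [e]
  have h5 : a * g⁻¹ * a⁻¹ ∈ G₁ :=
    (mem_normalizer_iff.mp (hAG₁ ha) g⁻¹).mp (G₁.inv_mem hg)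
  exact (mem_normalizer_iff.mp (hCG₁ hc) _).mp (G₁.mul_mem hg h5)

end Cfsg.Agent.Helper29
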