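import Mathlib
import Cfsg.Prelude.Def_Transfer
import Cfsg.Agent.Lib.Helper33.Syl
import Cfsg.Agent.Lib.Helper47.PRes

/-!
# Strong Alperin–Goldschmidt: internal definitions and their conjugation invariance

Left conjugation convention: `MulAut.conj g • K = g K g⁻¹`.
-/

set_option autoImplicit false
set_option linter.unusedSectionVars false
open Pointwise

namespace Cfsg.Agent.Helper29.AG

open Cfsg.Agent.Helper33

variable {G : Type*} [Group G]

local notation "nz" D:max => Subgroup.normalizer (SetLike.coe D)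
local notation "cz" D:max => Subgroup.centralizer (SetLike.coe D)

/-- `Y` is a candidate over `D`: `D ≤ Y ≤ N(D)`, `Y` normalized by `N(D)`, `p ∣ |Y : D|`. -/
def Cand (p : ℕ) (D Y : Subgroup G) : Prop :=
  D ≤ Y ∧ Y ≤ nz D ∧ nz D ≤ nz Y ∧ p ∣ D.relIndex Y

/-- `X` is the least candidate over `D`. -/
def Least (p : ℕ) (D X : Subgroup G) : Prop :=
  Cand p D X ∧ ∀ Y : Subgroup G, Cand p D Y → X ≤ Y

/-- internal radicality: `D` is Sylow in every `N(D)`-invariant `M ≥ D C(D)` with `M / C(D)` a `p`-group. -/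
def Rad (p : ℕ) (D : Subgroup G) : Prop :=
  ∀ M : Subgroup G, D ≤ M → cz D ≤ M → M ≤ nz D → nz D ≤ nz M →
    (∃ k : ℕ, (cz D).relIndex M = p ^ k) → ¬ p ∣ D.relIndex M

/-- adjacency of two Sylow `p`-subgroups of `N(D)`: they meet outside `D`. -/
def Adj (p : ℕ) (D T T' : Subgroup G) : Prop :=
  IsSylIn p T (nz D) ∧ IsSylIn p T' (nz D) ∧ ¬ (T ⊓ T' ≤ D)

/-- the Sylow `p`-subgroups of `N(D)` are connected through intersections bigger than `D`. -/
def Conn (p : ℕ) (D : Subgroup G) : Prop :=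
  ∀ T T' : Subgroup G, IsSylIn p T (nz D) → IsSylIn p T' (nz D) →
    Relation.ReflTransGen (Adj p D) T T'

/-- `O^p(X)` as a subgroup of `G`. -/
def Ep (p : ℕ) (X : Subgroup G) : Subgroup G := (Cfsg.pResidual p ↥X).map X.subtype

theorem Ep_eq_closure (p : ℕ) (X : Subgroup G) :
    Ep p X = Subgroup.closure {g : G | g ∈ X ∧ (orderOf g).Coprime p} :=
  Cfsg.Agent.Helper47.map_pResidual_eq_closure X

theorem Ep_le (p : ℕ) (X : Subgroup G) : Ep p X ≤ X := Subgroup.map_subtype_le _

/-- the internal family -/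
structure Fam (p : ℕ) (P D X : Subgroup G) : Prop where
  le : D ≤ P
  fn : ¬ p ∣ (P ⊓ nz D).relIndex (nz D)
  rad : Rad p D
  nconn : ¬ Conn p D
  least : Least p D X

/-! ### conjugation invariance -/

theorem Cand.conj {p : ℕ} {D Y : Subgroup G} (h : Cand p D Y) (y : G) :
    Cand p (MulAut.conj y • D) (MulAut.conj y • Y) := by
  obtain ⟨h1, h2, h3, h4⟩ := h
  refine ⟨conj_smul_le_conj_smul h1, ?_, ?_, ?_⟩
  · rw [normalizer_conj_smul]; exact conj_smul_le_conj_smul h2
  · rw [normalizer_conj_smul, normalizer_conj_smul]; exact conj_smul_le_conj_smul h3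
  · rw [relIndex_conj_smul]; exact h4

theorem Cand.of_conj {p : ℕ} {D Y : Subgroup G} (y : G)
    (h : Cand p (MulAut.conj y • D) Y) : Cand p D (MulAut.conj y⁻¹ • Y) := by
  have := h.conj y⁻¹
  rwa [conj_inv_smul_smul] at this

theorem Least.conj {p : ℕ} {D X : Subgroup G} (h : Least p D X) (y : G) :
    Least p (MulAut.conj y • D) (MulAut.conj y • X) := by
  refine ⟨h.1.conj y, fun Y hY => ?_⟩
  rw [conj_smul_le_iff_le_inv]
  exact h.2 _ (Cand.of_conj y hY)

theorem Rad.conj {p : ℕ} {D : Subgroup G} (h : Rad p D) (y : G) :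
    Rad p (MulAut.conj y • D) := by
  intro M h1 h2 h3 h4 h5
  have e : MulAut.conj y • (MulAut.conj y⁻¹ • M) = M := conj_smul_inv_smul y M
  have key := h (MulAut.conj y⁻¹ • M)
    (by rw [← conj_smul_le_iff_le_inv]; exact h1)
    (by
      rw [← conj_smul_le_iff_le_inv, ← centralizer_conj_smul]; exact h2)
    (by
      rw [← conj_smul_le_conj_smul_iff (g := y), e, ← normalizer_conj_smul]; exact h3)
    (by
      rw [← conj_smul_le_conj_smul_iff (g := y), ← normalizer_conj_smul, ← normalizer_conj_smul, e]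
      exact h4)
    (by
      obtain ⟨k, hk⟩ := h5
      refine ⟨k, ?_⟩
      rw [← relIndex_conj_smul y, ← centralizer_conj_smul, e]; exact hk)
  rw [← e, relIndex_conj_smul]
  exact key

theorem Adj.conj {p : ℕ} {D T T' : Subgroup G} (h : Adj p D T T') (y : G) :
    Adj p (MulAut.conj y • D) (MulAut.conj y • T) (MulAut.conj y • T') := by
  obtain ⟨h1, h2, h3⟩ := h
  refine ⟨?_, ?_, ?_⟩
  · rw [normalizer_conj_smul]; exact h1.conj y
  · rw [normalizer_conj_smul]; exact h2.conj y
  · rw [← conj_smul_inf, conj_smul_le_conj_smul_iff]; exact h3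

theorem reflTransGen_adj_conj {p : ℕ} {D T T' : Subgroup G}
    (h : Relation.ReflTransGen (Adj p D) T T') (y : G) :
    Relation.ReflTransGen (Adj p (MulAut.conj y • D)) (MulAut.conj y • T) (MulAut.conj y • T') := by
  induction h with
  | refl => exact Relation.ReflTransGen.refl
  | tail _ hbc ih => exact ih.tail (hbc.conj y)

theorem Conn.of_conj {p : ℕ} {D : Subgroup G} (y : G) (h : Conn p (MulAut.conj y • D)) :
    Conn p D := by
  intro T T' hT hT'
  have h1 : IsSylIn p (MulAut.conj y • T) (nz (MulAut.conj y • D)) := by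
    rw [normalizer_conj_smul]; exact hT.conj y
  have h2 : IsSylIn p (MulAut.conj y • T') (nz (MulAut.conj y • D)) := by
    rw [normalizer_conj_smul]; exact hT'.conj y
  have h3 := h _ _ h1 h2
  have h4 := reflTransGen_adj_conj h3 y⁻¹
  simpa only [conj_inv_smul_smul] using h4

theorem conj_mem_Ep {p : ℕ} {X : Subgroup G} {x : G} (hx : x ∈ Ep p X) (y : G) :
    y * x * y⁻¹ ∈ Ep p (MulAut.conj y • X) := by
  rw [Ep_eq_closure] at hx ⊢
  induction hx using Subgroup.closure_induction with
  | mem c hc =>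
    apply Subgroup.subset_closure
    refine ⟨conj_mem_conj_smul hc.1, ?_⟩
    have : y * c * y⁻¹ = MulAut.conj y c := by simp
    rw [this, MulEquiv.orderOf_eq]
    exact hc.2
  | one => simp
  | mul a b _ _ iha ihb =>
    have : y * (a * b) * y⁻¹ = (y * a * y⁻¹) * (y * b * y⁻¹) := by group
    rw [this]; exact mul_mem iha ihb
  | inv a _ iha =>
    have : y * a⁻¹ * y⁻¹ = (y * a * y⁻¹)⁻¹ := by group
    rw [this]; exact inv_mem iha

theorem Fam.conj {p : ℕ} {P D X : Subgroup G} (h : Fam p P D X) {y : G}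
    (hy : y ∈ nz P) : Fam p P (MulAut.conj y • D) (MulAut.conj y • X) := by
  have hP : MulAut.conj y • P = P := smul_eq_of_mem_normalizer hy
  refine ⟨?_, ?_, h.rad.conj y, fun hc => h.nconn (Conn.of_conj y hc), h.least.conj y⟩
  · rw [← hP]; exact conj_smul_le_conj_smul h.le
  · have : (P ⊓ nz (MulAut.conj y • D)) = MulAut.conj y • (P ⊓ nz D) := by
      rw [conj_smul_inf, hP, normalizer_conj_smul]
    rw [this, normalizer_conj_smul, relIndex_conj_smul]
    exact h.fn

end Cfsg.Agent.Helper29.AG
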