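import Mathlib
import Cfsg.Agent.Lib.Helper29.AGDefs
import Cfsg.Agent.Lib.Helper50.SylowLemmas
import Cfsg.Agent.S2014

/-!
# Strong Alperin–Goldschmidt: the key generation lemma (cases A, B, D)
-/

set_option autoImplicit false
set_option linter.unusedSectionVars false
open Pointwise

namespace Cfsg.Agent.Helper29.AG

open Cfsg.Agent.Helper33

variable {G : Type*} [Group G]

local notation "nz" D:max => Subgroup.normalizer (SetLike.coe D)
local notation "cz" D:max => Subgroup.centralizer (SetLike.coe D)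

variable [Finite G] {p : ℕ} [Fact p.Prime]

/-- every Sylow `p`-subgroup of `N(D)` contains `D` as soon as one does. -/
theorem le_of_isSylIn {D S T : Subgroup G} (hS : IsSylIn p S (nz D)) (hDS : D ≤ S)
    (hT : IsSylIn p T (nz D)) : D ≤ T := by
  obtain ⟨m, hm, hmT⟩ := hT.exists_conj_eq hS
  rw [← hmT, ← smul_eq_of_mem_normalizer hm]
  exact conj_smul_le_conj_smul hDS

/-- Frattini argument in subgroup form. -/
theorem frattini_le {N M T K : Subgroup G} (hT : IsSylIn p T M) (hMN : M ≤ N)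
    (hNM : N ≤ nz M) (hMK : M ≤ K) (hNK : N ⊓ nz T ≤ K) : N ≤ K := by
  intro n hn
  obtain ⟨m, hm, hmn⟩ := Cfsg.Agent.Helper50.exists_mul_mem_normalizer_of_sylow hT.le hT.isPGroup
    hT.not_dvd (hNM hn)
  have e : n = m * (m⁻¹ * n) := by group
  rw [e]
  exact K.mul_mem (hMK hm) (hNK ⟨N.mul_mem (N.inv_mem (hMN hm)) hn, hmn⟩)

/-- a subgroup of index simultaneously a `p`-power and prime to `p` is everything -/
theorem le_sup_of_relIndex {A B M : Subgroup G} {k : ℕ} (hA : A.relIndex M = p ^ k)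
    (hB : ¬ p ∣ B.relIndex M) : M ≤ A ⊔ B := by
  have h1 : (A ⊔ B).relIndex M ∣ A.relIndex M := Subgroup.relIndex_dvd_of_le_left M le_sup_left
  have h2 : (A ⊔ B).relIndex M ∣ B.relIndex M := Subgroup.relIndex_dvd_of_le_left M le_sup_right
  rw [hA] at h1
  obtain ⟨j, -, hj'⟩ := (Nat.dvd_prime_pow (Fact.out)).mp h1
  have hj0 : j = 0 := by
    by_contra hne
    apply hB
    refine dvd_trans ?_ h2
    rw [hj']
    exact dvd_pow_self p hne
  rw [hj0, pow_zero] at hj'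
  exact Subgroup.relIndex_eq_one.mp hj'

/-- **Case A**: `D` not radical. -/
theorem le_of_not_rad {D S K : Subgroup G} (hS : IsSylIn p S (nz D)) (hDS : D ≤ S)
    (hC : cz D ≤ K) (hSK : S ≤ K)
    (hK1 : ∀ D1 : Subgroup G, D ≤ D1 → D1 ≠ D → D1 ≤ S → nz D ⊓ nz D1 ≤ K)
    (hnr : ¬ Rad p D) : nz D ≤ K := by
  unfold Rad at hnr
  push Not at hnr
  obtain ⟨M, h1, h2, h3, h4, ⟨k, hk⟩, hdvd⟩ := hnr
  have hD1 : IsSylIn p (S ⊓ M) M := hS.inf_normal h3 h4
  have hDD1 : D ≤ S ⊓ M := le_inf hDS h1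
  have hne : S ⊓ M ≠ D := by
    intro h
    apply hD1.not_dvd
    rw [h]; exact hdvd
  have hM : M ≤ cz D ⊔ (S ⊓ M) := le_sup_of_relIndex hk hD1.not_dvd
  exact frattini_le hD1 h3 h4 (hM.trans (sup_le hC (inf_le_left.trans hSK)))
    (hK1 _ hDD1 hne inf_le_left)

/-- **Case B**: the Sylow `p`-subgroups of `N(D)` are connected. -/
theorem le_of_conn {D S K : Subgroup G} (hS : IsSylIn p S (nz D)) (hDS : D ≤ S) (hne : D ≠ S)
    (H1 : ∀ B : Subgroup G, D ≤ B → ¬ B ≤ D → B ≤ S → ∀ u ∈ nz D, MulAut.conj u • B ≤ S → u ∈ K)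
    (hconn : Conn p D) : nz D ≤ K := by
  have claim : ∀ T : Subgroup G, Relation.ReflTransGen (Adj p D) S T →
      ∀ n ∈ nz D, MulAut.conj n • S = T → n ∈ K := by
    intro T hT
    induction hT with
    | refl =>
      intro n hn hnS
      exact H1 S hDS (fun h => hne (le_antisymm hDS h)) le_rfl n hn (le_of_eq hnS)
    | @tail T₁ T₂ _ hbc ih =>
      intro n hn hnT
      obtain ⟨hT1, hT2, hnle⟩ := hbc
      obtain ⟨m, hm, hmT⟩ := hT1.exists_conj_eq hS
      have hmK := ih m hm hmT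
      have hminv : m⁻¹ ∈ nz D := (nz D).inv_mem hm
      have hDm : MulAut.conj m⁻¹ • D = D := smul_eq_of_mem_normalizer hminv
      have hDB : D ≤ T₁ ⊓ T₂ := le_inf (le_of_isSylIn hS hDS hT1) (le_of_isSylIn hS hDS hT2)
      have hB'S : MulAut.conj m⁻¹ • (T₁ ⊓ T₂) ≤ S := by
        calc MulAut.conj m⁻¹ • (T₁ ⊓ T₂) ≤ MulAut.conj m⁻¹ • T₁ := conj_smul_le_conj_smul inf_le_left
          _ = S := by rw [← hmT, conj_inv_smul_smul]
      have hDB' : D ≤ MulAut.conj m⁻¹ • (T₁ ⊓ T₂) := by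
        rw [← hDm]; exact conj_smul_le_conj_smul hDB
      have hB'D : ¬ MulAut.conj m⁻¹ • (T₁ ⊓ T₂) ≤ D := by
        intro h
        apply hnle
        rw [← hDm, conj_smul_le_conj_smul_iff] at h
        exact h
      have hu : n⁻¹ * m ∈ nz D := (nz D).mul_mem ((nz D).inv_mem hn) hm
      have huB : MulAut.conj (n⁻¹ * m) • (MulAut.conj m⁻¹ • (T₁ ⊓ T₂)) ≤ S := by
        rw [← conj_mul_smul, mul_assoc, mul_inv_cancel, mul_one]
        calc MulAut.conj n⁻¹ • (T₁ ⊓ T₂) ≤ MulAut.conj n⁻¹ • T₂ := conj_smul_le_conj_smul inf_le_right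
          _ = S := by rw [← hnT, conj_inv_smul_smul]
      have huK := H1 _ hDB' hB'D hB'S _ hu huB
      have e : n = m * (n⁻¹ * m)⁻¹ := by group
      rw [e]
      exact K.mul_mem hmK (K.inv_mem huK)
  intro n hn
  have hT : IsSylIn p (MulAut.conj n • S) (nz D) := by
    have := hS.conj n
    rwa [conj_smul_eq_self_of_mem hn] at this
  exact claim _ (hconn S _ hS hT) n hn rfl

/-- `X = O^p(X) T` for a Sylow `p`-subgroup `T` of `X`. -/
theorem le_Ep_sup {X T : Subgroup G} (hT : IsSylIn p T X) : X ≤ Ep p X ⊔ T := by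
  have h1 : T.subgroupOf X ⊔ Cfsg.pResidual p ↥X = ⊤ :=
    Cfsg.Agent.S2014.sup_pResidual_eq_top p (T.subgroupOf X) hT.not_dvd
  intro x hx
  have h2 : (⟨x, hx⟩ : ↥X) ∈ T.subgroupOf X ⊔ Cfsg.pResidual p ↥X := by
    rw [h1]; exact Subgroup.mem_top _
  have h3 : x ∈ (T.subgroupOf X ⊔ Cfsg.pResidual p ↥X).map X.subtype := ⟨⟨x, hx⟩, h2, rfl⟩
  rw [Subgroup.map_sup, Subgroup.map_subgroupOf_eq_of_le hT.le, sup_comm] at h3
  exact h3

/-- **Case D**: a least candidate exists. -/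
theorem le_of_least {D S K X : Subgroup G} (hS : IsSylIn p S (nz D)) (hDS : D ≤ S)
    (hSK : S ≤ K)
    (hK1 : ∀ D1 : Subgroup G, D ≤ D1 → D1 ≠ D → D1 ≤ S → nz D ⊓ nz D1 ≤ K)
    (hL : Least p D X) (hEp : Ep p X ≤ K) : nz D ≤ K := by
  obtain ⟨⟨hDX, hXN, hNX, hdvd⟩, -⟩ := hL
  have hSX : IsSylIn p (S ⊓ X) X := hS.inf_normal hXN hNX
  have hne : S ⊓ X ≠ D := by
    intro h
    apply hSX.not_dvd
    rw [h]; exact hdvd
  have hX : X ≤ K := (le_Ep_sup hSX).trans (sup_le hEp (inf_le_left.trans hSK))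
  exact frattini_le hSX hXN hNX hX (hK1 _ (le_inf hDS hDX) hne inf_le_left)

end Cfsg.Agent.Helper29.AG
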