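import Mathlib
import Cfsg.Agent.Lib.Helper29.AGKey
import Cfsg.Agent.Lib.Helper29.CoprimeHyp

/-!
# Strong Alperin–Goldschmidt: the key generation lemma, case C (no least candidate)
-/

set_option autoImplicit false
set_option linter.unusedSectionVars false
open Pointwise

namespace Cfsg.Agent.Helper29.AG

open Cfsg.Agent.Helper33

variable {G : Type*} [Group G]

local notation "nz" D:max => Subgroup.normalizer (SetLike.coe D)
local notation "cz" D:max => Subgroup.centralizer (SetLike.coe D)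

variable [Finite G] {p : ℕ} [Fact p.Prime]

theorem dvd_relIndex_of_ne {D S : Subgroup G} (hS : IsPGroup p S) (h : D ≤ S) (hne : D ≠ S) :
    p ∣ D.relIndex S := by
  have h1 : D.relIndex S ≠ 1 := by
    intro h1
    exact hne (le_antisymm h (Subgroup.relIndex_eq_one.mp h1))
  have h2 : D.relIndex S ∣ Nat.card S := Subgroup.relIndex_dvd_card D S
  obtain ⟨k, hk⟩ := IsPGroup.iff_card.mp hS
  rw [hk] at h2
  obtain ⟨j, -, hj⟩ := (Nat.dvd_prime_pow (Fact.out)).mp h2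
  rw [hj]
  rcases j with _ | j
  · exact absurd (by rw [hj, pow_zero]) h1
  · exact dvd_pow_self p (Nat.succ_ne_zero j)

theorem dvd_relIndex_of_le {D S M : Subgroup G} (hDS : D ≤ S) (hSM : S ≤ M)
    (h : p ∣ D.relIndex S) : p ∣ D.relIndex M := by
  rw [← Subgroup.relIndex_mul_relIndex D S M hDS hSM]
  exact Dvd.dvd.mul_right h _

theorem normalizer_inf_le (Y1 Y2 : Subgroup G) : nz Y1 ⊓ nz Y2 ≤ nz (Y1 ⊓ Y2) := by
  intro n hn
  rw [mem_normalizer_iff_smul_eq, conj_smul_inf, smul_eq_of_mem_normalizer hn.1,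
    smul_eq_of_mem_normalizer hn.2]

theorem mem_normalizer_of_conj_smul_le {g : G} {H : Subgroup G} (h : MulAut.conj g • H ≤ H) :
    g ∈ nz H := by
  rw [mem_normalizer_iff_smul_eq]
  apply Subgroup.eq_of_le_of_card_ge h
  rw [card_conj_smul]

theorem card_lt_of_lt {H K : Subgroup G} (h : H ≤ K) (hne : H ≠ K) : Nat.card H < Nat.card K := by
  rcases (Subgroup.card_le_of_le h).lt_or_eq with h1 | h1
  · exact h1
  · exact absurd (Subgroup.eq_of_le_of_card_ge h h1.ge) hne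

/-- `T` is Sylow in `T K` when `T ∩ K` is Sylow in `K` and `T` normalizes `K`. -/
theorem isSylIn_sup {T K : Subgroup G} (hT : IsPGroup p T) (hTK : T ≤ nz K)
    (h : IsSylIn p (T ⊓ K) K) : IsSylIn p T (T ⊔ K) := by
  obtain ⟨W, hW, hTW⟩ := exists_isSylIn_ge (p := p) (Q := T) (H := T ⊔ K) hT le_sup_left
  have hnorm : T ⊔ K ≤ nz K := sup_le hTK Subgroup.le_normalizer
  have hWK : IsSylIn p (W ⊓ K) K := hW.inf_normal le_sup_right hnorm
  have heq : W ⊓ K = T ⊓ K := h.eq_of_le hWK.isPGroup inf_le_right (inf_le_inf_right K hTW)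
  have hWT : W ≤ T := by
    intro x hx
    have hx' : x ∈ T ⊔ K := hW.le hx
    have hset : ((T ⊔ K : Subgroup G) : Set G) = (T : Set G) * (K : Set G) :=
      Subgroup.coe_mul_of_left_le_normalizer_right T K hTK
    have hx'' : x ∈ (T : Set G) * (K : Set G) := by rw [← hset]; exact hx'
    obtain ⟨t, ht, k, hk, rfl⟩ := Set.mem_mul.mp hx''
    have hkW : k ∈ W := by
      have e : k = t⁻¹ * (t * k) := by group
      rw [e]; exact W.mul_mem (W.inv_mem (hTW ht)) hx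
    have hkTK : k ∈ T ⊓ K := by rw [← heq]; exact ⟨hkW, hk⟩
    exact T.mul_mem ht hkTK.1
  have hWeq : W = T := le_antisymm hWT hTW
  rwa [hWeq] at hW

theorem exists_pow_p_mem {D T : Subgroup G} (hT : IsPGroup p T) (hDT : D ≤ T) (hne : T ≠ D) :
    ∃ z ∈ T, z ∉ D ∧ z ^ p ∈ D := by
  classical
  obtain ⟨s, hsT, hsD⟩ := SetLike.exists_of_lt (lt_of_le_of_ne hDT hne.symm)
  have hex : ∃ m : ℕ, s ^ (p ^ m) ∈ D := by
    obtain ⟨k, hk⟩ := hT ⟨s, hsT⟩
    refine ⟨k, ?_⟩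
    have hk' := congrArg Subtype.val hk
    simp only [Subgroup.coe_pow, Subgroup.coe_one] at hk'
    rw [hk']; exact D.one_mem
  have hm0 : Nat.find hex ≠ 0 := by
    intro h0
    have := Nat.find_spec hex
    rw [h0, pow_zero, pow_one] at this
    exact hsD this
  obtain ⟨m, hm⟩ := Nat.exists_eq_succ_of_ne_zero hm0
  refine ⟨s ^ (p ^ m), T.pow_mem hsT _, ?_, ?_⟩
  · exact Nat.find_min hex (by rw [hm]; exact Nat.lt_succ_self m)
  · have := Nat.find_spec hex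
    rw [hm, pow_succ, pow_mul] at this
    exact this

/-- **Rank two generation in the quotient `N(D)/D`.** -/
theorem le_of_rank_two {D S I K : Subgroup G}
    (hSN : S ≤ nz D)
    (hDI : D ≤ I) (hIN : I ≤ nz D) (hNI : nz D ≤ nz I) (hcop : ¬ p ∣ D.relIndex I)
    (hDK : D ≤ K)
    (hK : ∀ s ∈ S, s ∉ D → nz D ⊓ nz (D ⊔ Subgroup.zpowers s) ≤ K)
    {z1 z2 : G} (hz1 : z1 ∈ S) (hz2 : z2 ∈ S) (hz1p : z1 ^ p ∈ D) (hz2p : z2 ^ p ∈ D)
    (hz2D : z2 ∉ D) (hcomm : (z1 * z2)⁻¹ * (z2 * z1) ∈ D)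
    (hind : ∀ j : ℕ, z1 * z2 ^ j ∉ D) : I ≤ K := by
  obtain ⟨N, hN⟩ : ∃ N : Subgroup G, N = nz D := ⟨_, rfl⟩
  rw [← hN] at hSN hIN hNI hK
  have hDN : D ≤ N := hN ▸ Subgroup.le_normalizer
  haveI hDn : (D.subgroupOf N).Normal :=
    (Subgroup.normal_subgroupOf_iff_le_normalizer hDN).mpr (le_of_eq hN)
  let π : ↥N →* ↥N ⧸ D.subgroupOf N := QuotientGroup.mk' (D.subgroupOf N)
  have hπ1 : ∀ x : ↥N, π x = 1 ↔ (x : G) ∈ D := by
    intro x
    rw [QuotientGroup.mk'_apply, QuotientGroup.eq_one_iff, Subgroup.mem_subgroupOf]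
  have hπeq : ∀ x y : ↥N, π x = π y ↔ ((x : G))⁻¹ * (y : G) ∈ D := by
    intro x y
    rw [QuotientGroup.mk'_apply, QuotientGroup.mk'_apply, QuotientGroup.eq, Subgroup.mem_subgroupOf]
    simp
  obtain ⟨a, ha⟩ : ∃ a : ↥N ⧸ D.subgroupOf N, a = π ⟨z1, hSN hz1⟩ := ⟨_, rfl⟩
  obtain ⟨b, hb⟩ : ∃ b : ↥N ⧸ D.subgroupOf N, b = π ⟨z2, hSN hz2⟩ := ⟨_, rfl⟩
  have hap : a ^ p = 1 := by
    rw [ha, ← map_pow, hπ1]; simpa using hz1p
  have hbp : b ^ p = 1 := by
    rw [hb, ← map_pow, hπ1]; simpa using hz2p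
  have hb1 : b ≠ 1 := by
    rw [hb, Ne, hπ1]; exact hz2D
  have hab : a * b = b * a := by
    rw [ha, hb, ← map_mul, ← map_mul, hπeq]
    simpa using hcomm
  obtain ⟨A, hA⟩ : ∃ A : Subgroup (↥N ⧸ D.subgroupOf N), A = Subgroup.closure {a, b} := ⟨_, rfl⟩
  have haA : a ∈ A := hA ▸ Subgroup.subset_closure (by simp)
  have hbA : b ∈ A := hA ▸ Subgroup.subset_closure (by simp)
  have hAc : ∀ x ∈ A, ∀ y ∈ A, x * y = y * x := by
    have h1 : ({a, b} : Set (↥N ⧸ D.subgroupOf N)) ⊆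
        Subgroup.centralizer ({a, b} : Set (↥N ⧸ D.subgroupOf N)) := by
      intro x hx
      rw [SetLike.mem_coe, Subgroup.mem_centralizer_iff]
      intro y hy
      rcases hx with rfl | hx <;> rcases hy with rfl | hy
      · rfl
      · rw [Set.mem_singleton_iff] at hy; rw [hy]; exact hab.symm
      · rw [Set.mem_singleton_iff] at hx; rw [hx]; exact hab
      · rw [Set.mem_singleton_iff] at hx hy; rw [hx, hy]
    have h2 : A ≤ Subgroup.centralizer (A : Set (↥N ⧸ D.subgroupOf N)) := by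
      rw [hA, Subgroup.centralizer_closure]
      exact (Subgroup.closure_le _).mpr h1
    intro x hx y hy
    exact (Subgroup.mem_centralizer_iff.mp (h2 hy) x hx)
  have hAp : ∀ x ∈ A, x ^ p = 1 := by
    intro x hx
    rw [hA] at hx
    induction hx using Subgroup.closure_induction with
    | mem c hc =>
      rcases hc with rfl | hc
      · exact hap
      · rw [Set.mem_singleton_iff] at hc; rw [hc]; exact hbp
    | one => exact one_pow p
    | mul x y hx hy ihx ihy =>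
      have hc : Commute x y := hAc x (hA ▸ hx) y (hA ▸ hy)
      rw [hc.mul_pow, ihx, ihy, one_mul]
    | inv x _ ihx => rw [inv_pow, ihx, inv_one]
  -- the set of nonidentity elements of `A`
  obtain ⟨Sset, hSset⟩ : ∃ Sset : Set (↥N ⧸ D.subgroupOf N), Sset = {c | c ∈ A ∧ c ≠ 1} :=
    ⟨_, rfl⟩
  have hS1 : ∀ j : ℕ, a * b ^ j ∈ Sset := by
    intro j
    rw [hSset]
    refine ⟨A.mul_mem haA (A.pow_mem hbA j), ?_⟩
    rw [ha, hb, ← map_pow, ← map_mul, Ne, hπ1]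
    simpa using hind j
  have hS2 : ∀ i : ℕ, 0 < i → i < p → b ^ i ∈ Sset := by
    intro i hi hip
    rw [hSset]
    refine ⟨A.pow_mem hbA i, fun h => hb1 ?_⟩
    have h1 : b ^ i ∈ (⊥ : Subgroup (↥N ⧸ D.subgroupOf N)) := by rw [h]; exact Subgroup.one_mem _
    have h2 := Cfsg.Agent.Helper29.pow_mem_of_coprime_aux hbp ⊥ hi hip h1
    exact Subgroup.mem_bot.mp h2
  -- the image of `I`
  have hIn : (I.subgroupOf N).Normal := (Subgroup.normal_subgroupOf_iff_le_normalizer hIN).mpr hNI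
  have hIbn : ((I.subgroupOf N).map π).Normal :=
    Subgroup.Normal.map hIn π (QuotientGroup.mk'_surjective _)
  have hAM : A ≤ Subgroup.normalizer (((I.subgroupOf N).map π : Subgroup _) : Set _) := by
    rw [Subgroup.normalizer_eq_top_iff.mpr hIbn]; exact le_top
  have hcard : Nat.card ((I.subgroupOf N).map π) = D.relIndex I := by
    have h1 := Subgroup.relIndex_comap (H := (⊥ : Subgroup (↥N ⧸ D.subgroupOf N))) π
      (I.subgroupOf N)
    rw [Subgroup.relIndex_bot_left, MonoidHom.comap_bot, QuotientGroup.ker_mk',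
      Subgroup.relIndex_subgroupOf hIN] at h1
    exact h1.symm
  have hMcop : (Nat.card ((I.subgroupOf N).map π)).Coprime p := by
    rw [hcard]
    exact ((Nat.Prime.coprime_iff_not_dvd (Fact.out : p.Prime)).mpr hcop).symm
  have hgen := Cfsg.Agent.Helper29.le_genS A ((I.subgroupOf N).map π) hAc hAp Sset
    (fun c hc => by rw [hSset] at hc; exact hc.1) haA hbA hS1 hS2 hAM hMcop
  -- `A` lies in the image of `S`
  have hAS : A ≤ (S.subgroupOf N).map π := by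
    rw [hA, Subgroup.closure_le]
    intro x hx
    rcases hx with rfl | hx
    · rw [ha]; exact Subgroup.mem_map_of_mem _ (Subgroup.mem_subgroupOf.mpr hz1)
    · rw [Set.mem_singleton_iff] at hx
      rw [hx, hb]; exact Subgroup.mem_map_of_mem _ (Subgroup.mem_subgroupOf.mpr hz2)
  -- centralizers of nonidentity elements of `A` in the image of `I` lie in the image of `K`
  have hmain : Cfsg.Agent.Helper29.genS Sset ((I.subgroupOf N).map π) ≤ (K.subgroupOf N).map π := by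
    unfold Cfsg.Agent.Helper29.genS
    apply iSup_le
    rintro ⟨c, hc⟩
    rw [hSset] at hc
    obtain ⟨hcA, hc1⟩ := hc
    intro q hq
    obtain ⟨⟨i', hi', rfl⟩, hqc⟩ := hq
    obtain ⟨s', hs', rfl⟩ := hAS hcA
    have hsD : (s' : G) ∉ D := fun h => hc1 ((hπ1 s').mpr h)
    have hcomm' : π s' * π i' = π i' * π s' :=
      Subgroup.mem_centralizer_iff.mp hqc (π s') (Set.mem_singleton _)
    rw [← map_mul, ← map_mul, hπeq] at hcomm'
    simp only [Subgroup.coe_mul] at hcomm'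
    -- `i'` normalizes `D ⊔ zpowers s'`
    have hiN : (i' : G) ∈ nz D := hN ▸ i'.2
    have hinv : ((i' : G))⁻¹ ∈ nz (D ⊔ Subgroup.zpowers (s' : G)) := by
      apply mem_normalizer_of_conj_smul_le
      rw [Subgroup.smul_sup]
      apply sup_le
      · rw [smul_eq_of_mem_normalizer ((nz D).inv_mem hiN)]; exact le_sup_left
      · have e : MulAut.conj ((i' : G))⁻¹ • Subgroup.zpowers (s' : G) =
            Subgroup.zpowers (((i' : G))⁻¹ * (s' : G) * (i' : G)) := by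
          have h := MonoidHom.map_zpowers (MulAut.conj ((i' : G))⁻¹).toMonoidHom (s' : G)
          have h2 : (MulAut.conj ((i' : G))⁻¹).toMonoidHom (s' : G) =
              ((i' : G))⁻¹ * (s' : G) * (i' : G) := by simp
          rw [h2] at h
          exact h
        rw [e, Subgroup.zpowers_le]
        have e2 : ((i' : G))⁻¹ * (s' : G) * (i' : G) =
            (s' : G) * (((s' : G) * (i' : G))⁻¹ * ((i' : G) * (s' : G)))⁻¹ := by group
        rw [e2]
        exact Subgroup.mul_mem _ (Subgroup.mem_sup_right (Subgroup.mem_zpowers _))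
          (Subgroup.mem_sup_left (D.inv_mem hcomm'))
    have hi2 : (i' : G) ∈ nz (D ⊔ Subgroup.zpowers (s' : G)) := by
      have := Subgroup.inv_mem _ hinv
      rwa [inv_inv] at this
    have hiK : (i' : G) ∈ K :=
      hK (s' : G) (Subgroup.mem_subgroupOf.mp hs') hsD ⟨i'.2, hi2⟩
    exact Subgroup.mem_map_of_mem _ (Subgroup.mem_subgroupOf.mpr hiK)
  -- conclusion
  intro i hi
  have h1 : π ⟨i, hIN hi⟩ ∈ (I.subgroupOf N).map π :=
    Subgroup.mem_map_of_mem _ (Subgroup.mem_subgroupOf.mpr hi)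
  obtain ⟨k', hk', hkeq⟩ := hmain (hgen h1)
  rw [hπeq] at hkeq
  have e : i = (k' : G) * (((k' : G))⁻¹ * i) := by group
  rw [e]
  exact K.mul_mem (Subgroup.mem_subgroupOf.mp hk') (hDK hkeq)

/-- **Case C**: no least candidate. -/
theorem le_of_no_least {D S K : Subgroup G} (hS : IsSylIn p S (nz D)) (hDS : D ≤ S)
    (hne : D ≠ S) (hSK : S ≤ K)
    (hK1 : ∀ D1 : Subgroup G, D ≤ D1 → D1 ≠ D → D1 ≤ S → nz D ⊓ nz D1 ≤ K)
    (hnl : ¬ ∃ X : Subgroup G, Least p D X) : nz D ≤ K := by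
  classical
  have hDp : IsPGroup p D := hS.isPGroup.to_le hDS
  have hDN : D ≤ nz D := Subgroup.le_normalizer
  have hcandN : Cand p D (nz D) :=
    ⟨hDN, le_rfl, Subgroup.le_normalizer,
      dvd_relIndex_of_le hDS hS.le (dvd_relIndex_of_ne hS.isPGroup hDS hne)⟩
  -- a candidate of minimal order
  have hex : ∃ k : ℕ, ∃ Y : Subgroup G, Cand p D Y ∧ Nat.card Y = k := ⟨_, _, hcandN, rfl⟩
  obtain ⟨Y1, hY1, hk⟩ := Nat.find_spec hex
  have hmin : ∀ Y : Subgroup G, Cand p D Y → Nat.card Y1 ≤ Nat.card Y := by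
    intro Y hY
    rw [hk]
    exact Nat.find_min' hex ⟨Y, hY, rfl⟩
  -- a second candidate
  have hY2 : ∃ Y2 : Subgroup G, Cand p D Y2 ∧ ¬ Y1 ≤ Y2 := by
    by_contra hcon
    push Not at hcon
    exact hnl ⟨Y1, hY1, hcon⟩
  obtain ⟨Y2, hY2, hY12⟩ := hY2
  obtain ⟨hDY1, hY1N, hNY1, hdvd1⟩ := hY1
  obtain ⟨hDY2, hY2N, hNY2, hdvd2⟩ := hY2
  have hDI : D ≤ Y1 ⊓ Y2 := le_inf hDY1 hDY2
  have hIN : Y1 ⊓ Y2 ≤ nz D := inf_le_left.trans hY1N
  have hNI : nz D ≤ nz (Y1 ⊓ Y2) := (le_inf hNY1 hNY2).trans (normalizer_inf_le Y1 Y2)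
  have hcopI : ¬ p ∣ D.relIndex (Y1 ⊓ Y2) := by
    intro hdvd
    have hc : Cand p D (Y1 ⊓ Y2) := ⟨hDI, hIN, hNI, hdvd⟩
    have h1 := hmin _ hc
    have h2 : Nat.card (Y1 ⊓ Y2 : Subgroup G) < Nat.card Y1 :=
      card_lt_of_lt inf_le_left (fun h => hY12 (inf_eq_left.mp h))
    omega
  -- the Sylow subgroups of `Y1`, `Y2`
  have hS1 : IsSylIn p (S ⊓ Y1) Y1 := hS.inf_normal hY1N hNY1
  have hS2 : IsSylIn p (S ⊓ Y2) Y2 := hS.inf_normal hY2N hNY2
  have hne1 : S ⊓ Y1 ≠ D := by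
    intro h
    apply hS1.not_dvd
    rw [h]; exact hdvd1
  have hne2 : S ⊓ Y2 ≠ D := by
    intro h
    apply hS2.not_dvd
    rw [h]; exact hdvd2
  have hSI : S ⊓ (Y1 ⊓ Y2) ≤ D := by
    by_contra hcon
    have hle : D ≤ S ⊓ (Y1 ⊓ Y2) := le_inf hDS hDI
    have hne' : D ≠ S ⊓ (Y1 ⊓ Y2) := fun h => hcon (le_of_eq h.symm)
    have h1 := dvd_relIndex_of_ne (hS.isPGroup.to_le inf_le_left) hle hne'
    exact hcopI (dvd_relIndex_of_le hle inf_le_right h1)
  obtain ⟨z1, hz1, hz1D, hz1p⟩ := exists_pow_p_mem (hS.isPGroup.to_le inf_le_left)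
    (le_inf hDS hDY1) hne1
  obtain ⟨z2, hz2, hz2D, hz2p⟩ := exists_pow_p_mem (hS.isPGroup.to_le inf_le_left)
    (le_inf hDS hDY2) hne2
  have hz1N : z1 ∈ nz D := hS.le hz1.1
  have hz2N : z2 ∈ nz D := hS.le hz2.1
  have hind : ∀ j : ℕ, z1 * z2 ^ j ∉ D := by
    intro j hj
    apply hz1D
    apply hSI
    have h1 : z1 ∈ S ⊓ Y2 := by
      have e : z1 = (z1 * z2 ^ j) * (z2 ^ j)⁻¹ := by group
      rw [e]
      exact Subgroup.mul_mem _ (le_inf hDS hDY2 hj)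
        (Subgroup.inv_mem _ (Subgroup.pow_mem _ hz2 j))
    exact ⟨hz1.1, hz1.2, h1.2⟩
  have hcomm : (z1 * z2)⁻¹ * (z2 * z1) ∈ D := by
    apply hSI
    refine ⟨?_, ?_, ?_⟩
    · exact S.mul_mem (S.inv_mem (S.mul_mem hz1.1 hz2.1)) (S.mul_mem hz2.1 hz1.1)
    · have h1 : z2⁻¹ * z1⁻¹ * z2⁻¹⁻¹ ∈ Y1 :=
        (Subgroup.mem_normalizer_iff.mp (hNY1 ((nz D).inv_mem hz2N)) z1⁻¹).mp (Y1.inv_mem hz1.2)
      have e : (z1 * z2)⁻¹ * (z2 * z1) = (z2⁻¹ * z1⁻¹ * z2⁻¹⁻¹) * z1 := by group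
      rw [e]
      exact Y1.mul_mem h1 hz1.2
    · have h1 : z1⁻¹ * z2 * z1⁻¹⁻¹ ∈ Y2 :=
        (Subgroup.mem_normalizer_iff.mp (hNY2 ((nz D).inv_mem hz1N)) z2).mp hz2.2
      have e : (z1 * z2)⁻¹ * (z2 * z1) = z2⁻¹ * (z1⁻¹ * z2 * z1⁻¹⁻¹) := by group
      rw [e]
      exact Y2.mul_mem (Y2.inv_mem hz2.2) h1
  have hDK : D ≤ K := hDS.trans hSK
  have hK' : ∀ s ∈ S, s ∉ D → nz D ⊓ nz (D ⊔ Subgroup.zpowers s) ≤ K := by
    intro s hs hsD
    apply hK1 _ le_sup_left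
    · intro h
      apply hsD
      rw [← h]
      exact Subgroup.mem_sup_right (Subgroup.mem_zpowers s)
    · exact sup_le hDS (by rw [Subgroup.zpowers_le]; exact hs)
  have hIK : Y1 ⊓ Y2 ≤ K :=
    le_of_rank_two hS.le hDI hIN hNI hcopI hDK hK' hz1.1 hz2.1 hz1p hz2p hz2D hcomm hind
  -- `Y1 ≤ K`
  have hS2I : (S ⊓ Y2) ⊓ (Y1 ⊓ Y2) = D :=
    le_antisymm ((inf_le_inf_right _ inf_le_left).trans hSI) (le_inf (le_inf hDS hDY2) hDI)
  have hS2W : IsSylIn p (S ⊓ Y2) ((S ⊓ Y2) ⊔ (Y1 ⊓ Y2)) := by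
    apply isSylIn_sup hS2.isPGroup ((inf_le_left.trans hS.le).trans hNI)
    rw [hS2I]
    exact ⟨hDI, hDp, hcopI⟩
  have hWN : (S ⊓ Y2) ⊔ (Y1 ⊓ Y2) ≤ nz D := sup_le (inf_le_left.trans hS.le) hIN
  have hWK : (S ⊓ Y2) ⊔ (Y1 ⊓ Y2) ≤ K := sup_le (inf_le_left.trans hSK) hIK
  have hKS2 : nz D ⊓ nz (S ⊓ Y2) ≤ K := hK1 _ (le_inf hDS hDY2) hne2 inf_le_left
  have hY1K : Y1 ≤ K := by
    intro y hy
    have hyN : y ∈ nz D := hY1N hy
    have hconjle : MulAut.conj y • (S ⊓ Y2) ≤ (S ⊓ Y2) ⊔ (Y1 ⊓ Y2) := by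
      rw [conj_smul_le_iff]
      intro s hs
      have hsN : s ∈ nz D := hS.le hs.1
      have h1 : s⁻¹ * y * s⁻¹⁻¹ ∈ Y1 :=
        (Subgroup.mem_normalizer_iff.mp (hNY1 ((nz D).inv_mem hsN)) y).mp hy
      have h2 : y * s * y⁻¹ ∈ Y2 :=
        (Subgroup.mem_normalizer_iff.mp (hNY2 hyN) s).mp hs.2
      have e : y * s * y⁻¹ = s * (s⁻¹ * (y * s * y⁻¹)) := by group
      rw [e]
      refine Subgroup.mul_mem _ (Subgroup.mem_sup_left hs) (Subgroup.mem_sup_right ⟨?_, ?_⟩)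
      · have e2 : s⁻¹ * (y * s * y⁻¹) = (s⁻¹ * y * s⁻¹⁻¹) * y⁻¹ := by group
        rw [e2]
        exact Y1.mul_mem h1 (Y1.inv_mem hy)
      · exact Y2.mul_mem (Y2.inv_mem hs.2) h2
    have hyS2W : IsSylIn p (MulAut.conj y • (S ⊓ Y2)) ((S ⊓ Y2) ⊔ (Y1 ⊓ Y2)) :=
      hS2W.of_card_le (isPGroup_conj_smul hS2.isPGroup) hconjle
        (by rw [card_conj_smul])
    obtain ⟨w, hw, hwS⟩ := hS2W.exists_conj_eq hyS2W
    have hwy : w * y ∈ nz (S ⊓ Y2) := by
      rw [mem_normalizer_iff_smul_eq, conj_mul_smul]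
      exact hwS
    have hwyK : w * y ∈ K := hKS2 ⟨(nz D).mul_mem (hWN hw) hyN, hwy⟩
    have e : y = w⁻¹ * (w * y) := by group
    rw [e]
    exact K.mul_mem (K.inv_mem (hWK hw)) hwyK
  exact frattini_le hS1 hY1N hNY1 hY1K (hK1 _ (le_inf hDS hDY1) hne1 inf_le_left)

/-- **The key generation lemma.** A subgroup `K` containing `C(D)` and all elements of `N(D)`
conjugating a subgroup `D < B ≤ S` into `S` contains `N(D)`, unless `D` is radical, the Sylow
subgroups of `N(D)` are disconnected and there is a least candidate `X`; in that case it suffices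
that `O^p(X) ≤ K`. -/
theorem key {D S K : Subgroup G} (hS : IsSylIn p S (nz D)) (hDS : D ≤ S) (hne : D ≠ S)
    (hC : cz D ≤ K)
    (H1 : ∀ B : Subgroup G, D ≤ B → ¬ B ≤ D → B ≤ S → ∀ u ∈ nz D, MulAut.conj u • B ≤ S → u ∈ K)
    (hEp : ∀ X : Subgroup G, Rad p D → ¬ Conn p D → Least p D X → Ep p X ≤ K) : nz D ≤ K := by
  have hSK : S ≤ K := by
    intro u hu
    exact H1 S hDS (fun h => hne (le_antisymm hDS h)) le_rfl u (hS.le hu)
      (le_of_eq (conj_smul_eq_self_of_mem hu))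
  have hK1 : ∀ D1 : Subgroup G, D ≤ D1 → D1 ≠ D → D1 ≤ S → nz D ⊓ nz D1 ≤ K := by
    intro D1 hDD1 hne1 hD1S u hu
    exact H1 D1 hDD1 (fun h => hne1 (le_antisymm h hDD1)) hD1S u hu.1
      ((le_of_eq (smul_eq_of_mem_normalizer hu.2)).trans hD1S)
  by_cases hrad : Rad p D
  · by_cases hconn : Conn p D
    · exact le_of_conn hS hDS hne H1 hconn
    · by_cases hl : ∃ X : Subgroup G, Least p D X
      · obtain ⟨X, hX⟩ := hl
        exact le_of_least hS hDS hSK hK1 hX (hEp X hrad hconn hX)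
      · exact le_of_no_least hS hDS hne hSK hK1 hl
  · exact le_of_not_rad hS hDS hC hSK hK1 hrad

end Cfsg.Agent.Helper29.AG
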