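import Mathlib
import Cfsg.Agent.Lib.Helper29.AGGen

/-!
# Strong Alperin–Goldschmidt: chains and the main induction
-/

set_option autoImplicit false
set_option linter.unusedSectionVars false
open Pointwise

namespace Cfsg.Agent.Helper29.AG

open Cfsg.Agent.Helper33

variable {G : Type*} [Group G]

local notation "nz" D:max => Subgroup.normalizer (SetLike.coe D)
local notation "cz" D:max => Subgroup.centralizer (SetLike.coe D)

/-- `Chain p P K g`: `g = xₙ ⋯ x₁` with `xᵢ ∈ O^p(Xᵢ)`, `Fam p P Hᵢ Xᵢ`, and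
`(xᵢ₋₁ ⋯ x₁) K (xᵢ₋₁ ⋯ x₁)⁻¹ ≤ Hᵢ`. -/
inductive Chain (p : ℕ) (P : Subgroup G) : Subgroup G → G → Prop
  | refl (K : Subgroup G) : Chain p P K 1
  | step (K H X : Subgroup G) (x g : G) :
      Fam p P H X → x ∈ Ep p X → K ≤ H → Chain p P (MulAut.conj x • K) g → Chain p P K (g * x)

theorem Chain.mono {p : ℕ} {P K K' : Subgroup G} {g : G} (h : Chain p P K g) (hK : K' ≤ K) :
    Chain p P K' g := by
  induction h generalizing K' with
  | refl K => exact Chain.refl K'
  | step K H X x g hF hx hle _ ih =>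
    exact Chain.step K' H X x g hF hx (hK.trans hle) (ih (conj_smul_le_conj_smul hK))

theorem Chain.trans {p : ℕ} {P K : Subgroup G} {g h : G} (h1 : Chain p P K g)
    (h2 : Chain p P (MulAut.conj g • K) h) : Chain p P K (h * g) := by
  induction h1 generalizing h with
  | refl K =>
    rw [mul_one]
    simpa using h2
  | step K H X x g hF hx hle _ ih =>
    rw [← mul_assoc]
    refine Chain.step K H X x (h * g) hF hx hle (ih ?_)
    rwa [conj_mul_smul] at h2

theorem Chain.conj {p : ℕ} {P K : Subgroup G} {w : G} (h : Chain p P K w) {y : G}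
    (hy : y ∈ nz P) : Chain p P (MulAut.conj y • K) (y * w * y⁻¹) := by
  induction h with
  | refl K =>
    have e : y * 1 * y⁻¹ = 1 := by group
    rw [e]; exact Chain.refl _
  | step K H X x g hF hx hle _ ih =>
    have e : y * (g * x) * y⁻¹ = (y * g * y⁻¹) * (y * x * y⁻¹) := by group
    rw [e]
    refine Chain.step _ (MulAut.conj y • H) (MulAut.conj y • X) _ _ (hF.conj hy)
      (conj_mem_Ep hx y) (conj_smul_le_conj_smul hle) ?_
    have e2 : MulAut.conj (y * x * y⁻¹) • MulAut.conj y • K = MulAut.conj y • MulAut.conj x • K := by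
      rw [← conj_mul_smul, ← conj_mul_smul]
      congr 2
      group
    rw [e2]
    exact ih

/-- `g = y w c` with `y ∈ N(P)`, `w` a chain for `K`, `c ∈ C(K)`. -/
def Good (p : ℕ) (P K : Subgroup G) (g : G) : Prop :=
  ∃ y w c : G, y ∈ nz P ∧ Chain p P K w ∧ c ∈ cz K ∧ g = y * w * c

theorem Good.mono {p : ℕ} {P K K' : Subgroup G} {g : G} (h : Good p P K g) (hK : K' ≤ K) :
    Good p P K' g := by
  obtain ⟨y, w, c, hy, hw, hc, rfl⟩ := h
  exact ⟨y, w, c, hy, hw.mono hK, Subgroup.centralizer_le hK hc, rfl⟩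

theorem Good.of_normalizer {p : ℕ} {P : Subgroup G} (K : Subgroup G) {y : G} (hy : y ∈ nz P) :
    Good p P K y :=
  ⟨y, 1, 1, hy, Chain.refl K, Subgroup.one_mem _, by group⟩

theorem Good.of_centralizer {p : ℕ} (P : Subgroup G) {K : Subgroup G} {c : G} (hc : c ∈ cz K) :
    Good p P K c :=
  ⟨1, 1, c, Subgroup.one_mem _, Chain.refl K, hc, by group⟩

theorem Good.of_step {p : ℕ} {P K H X : Subgroup G} {x : G} (hF : Fam p P H X) (hx : x ∈ Ep p X)
    (hle : K ≤ H) : Good p P K x :=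
  ⟨1, 1 * x, 1, Subgroup.one_mem _, Chain.step K H X x 1 hF hx hle (Chain.refl _),
    Subgroup.one_mem _, by group⟩

theorem Good.mul {p : ℕ} {P K : Subgroup G} {g h : G} (h1 : Good p P K g)
    (h2 : Good p P (MulAut.conj g • K) h) : Good p P K (h * g) := by
  obtain ⟨y, w, c, hy, hw, hc, rfl⟩ := h1
  obtain ⟨y', w', c', hy', hw', hc', rfl⟩ := h2
  have hcK : MulAut.conj c • K = K :=
    smul_eq_of_mem_normalizer (Subgroup.centralizer_le_normalizer (s := (K : Set G)) hc)
  have hK' : MulAut.conj (y * w * c) • K = MulAut.conj y • MulAut.conj w • K := by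
    rw [conj_mul_smul, conj_mul_smul, hcK]
  rw [hK'] at hw' hc'
  -- c' = (y w c) c'' (y w c)⁻¹
  have hc'' : (y * w)⁻¹ * c' * (y * w) ∈ cz K := by
    rw [← conj_mul_smul, centralizer_conj_smul, mem_conj_smul] at hc'
    exact hc'
  have hw'' : Chain p P (MulAut.conj w • K) (y⁻¹ * w' * y⁻¹⁻¹) := by
    have := hw'.conj ((nz P).inv_mem hy)
    rwa [conj_inv_smul_smul] at this
  refine ⟨y' * y, (y⁻¹ * w' * y⁻¹⁻¹) * w, ((y * w)⁻¹ * c' * (y * w)) * c,
    (nz P).mul_mem hy' hy, hw.trans hw'', Subgroup.mul_mem _ hc'' hc, ?_⟩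
  group

/-- the subgroup of `N(K)` consisting of the good elements. -/
def GG [Finite G] (p : ℕ) (P K : Subgroup G) : Subgroup G where
  carrier := {n | n ∈ nz K ∧ Good p P K n}
  one_mem' := ⟨Subgroup.one_mem _, Good.of_normalizer K (Subgroup.one_mem _)⟩
  mul_mem' := by
    rintro a b ⟨ha, hga⟩ ⟨hb, hgb⟩
    refine ⟨Subgroup.mul_mem _ ha hb, Good.mul hgb ?_⟩
    rw [smul_eq_of_mem_normalizer hb]
    exact hga
  inv_mem' := by
    rintro a ⟨ha, hga⟩
    refine ⟨Subgroup.inv_mem _ ha, ?_⟩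
    have hpow : ∀ k : ℕ, Good p P K (a ^ k) := by
      intro k
      induction k with
      | zero => rw [pow_zero]; exact Good.of_normalizer K (Subgroup.one_mem _)
      | succ k ih =>
        rw [pow_succ]
        refine Good.mul hga ?_
        rw [smul_eq_of_mem_normalizer ha]
        exact ih
    have hinv : a⁻¹ = a ^ (orderOf a - 1) := by
      have hpos : 0 < orderOf a := orderOf_pos a
      apply inv_eq_of_mul_eq_one_left
      rw [← pow_succ, Nat.sub_add_cancel hpos, pow_orderOf_eq_one]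
    rw [hinv]
    exact hpow _

theorem mem_GG [Finite G] {p : ℕ} {P K : Subgroup G} {n : G} :
    n ∈ GG p P K ↔ n ∈ nz K ∧ Good p P K n := Iff.rfl

section fin

variable [Finite G] {p : ℕ} [Fact p.Prime]

/-- `Q ~ P via z`. -/
def Rel (P Q : Sylow p G) (z : G) : Prop :=
  Good p (P : Subgroup G) ((P : Subgroup G) ⊓ (Q : Subgroup G)) z ∧
    MulAut.conj z • (Q : Subgroup G) = (P : Subgroup G)

theorem Rel.trans' {P Q S : Sylow p G} {x z : G}
    (hle : (P : Subgroup G) ⊓ (Q : Subgroup G) ≤ (S : Subgroup G))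
    (h1 : Rel P S x) (h2 : Rel P (x • Q) z) : Rel P Q (z * x) := by
  have c1 : Good p (P : Subgroup G) ((P : Subgroup G) ⊓ (Q : Subgroup G)) x :=
    h1.1.mono (le_inf inf_le_left hle)
  have c1le : MulAut.conj x • ((P : Subgroup G) ⊓ (Q : Subgroup G)) ≤ (P : Subgroup G) :=
    (conj_smul_le_conj_smul hle).trans (le_of_eq h1.2)
  have c2 : Good p (P : Subgroup G) (MulAut.conj x • ((P : Subgroup G) ⊓ (Q : Subgroup G))) z := by
    refine h2.1.mono (le_inf c1le ?_)
    rw [Sylow.coe_subgroup_smul]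
    exact conj_smul_le_conj_smul inf_le_right
  refine ⟨c1.mul c2, ?_⟩
  rw [conj_mul_smul, ← Sylow.coe_subgroup_smul]
  exact h2.2

theorem rel_self (P : Sylow p G) : Rel P P 1 :=
  ⟨Good.of_normalizer _ (Subgroup.one_mem _), by simp⟩

theorem sylow_eq_of_inf_eq' {P Q : Sylow p G}
    (h : (P : Subgroup G) ⊓ (Q : Subgroup G) = (P : Subgroup G)) : Q = P := by
  have hle : (P : Subgroup G) ≤ (Q : Subgroup G) := inf_eq_left.mp h
  exact (Sylow.ext (P.is_maximal' Q.isPGroup' hle)).symm ▸ rfl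

/-- Main induction. -/
theorem exists_rel_aux (P : Sylow p G) : ∀ n : ℕ, ∀ Q : Sylow p G,
    Nat.card (P : Subgroup G) - Nat.card ((P : Subgroup G) ⊓ (Q : Subgroup G) : Subgroup G) = n →
      ∃ z, Rel P Q z := by
  intro n
  induction n using Nat.strong_induction_on with
  | _ n IH =>
  have hcardle : ∀ S : Sylow p G,
      Nat.card ((P : Subgroup G) ⊓ (S : Subgroup G) : Subgroup G) ≤ Nat.card (P : Subgroup G) :=
    fun S => Subgroup.card_le_of_le inf_le_left
  have IH' : ∀ Q S : Sylow p G,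
      Nat.card (P : Subgroup G) - Nat.card ((P : Subgroup G) ⊓ (Q : Subgroup G) : Subgroup G) = n →
      Nat.card ((P : Subgroup G) ⊓ (Q : Subgroup G) : Subgroup G) <
        Nat.card ((P : Subgroup G) ⊓ (S : Subgroup G) : Subgroup G) → ∃ z, Rel P S z := by
    intro Q S hn hlt
    have h1 := hcardle S
    have h2 := hcardle Q
    exact IH _ (by omega) S rfl
  -- Claim A: the case where `N_P(P ⊓ Q)` is Sylow in `N_G(P ⊓ Q)`
  have claimA : ∀ Q : Sylow p G,
      Nat.card (P : Subgroup G) - Nat.card ((P : Subgroup G) ⊓ (Q : Subgroup G) : Subgroup G) = n →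
      IsSylIn p ((P : Subgroup G) ⊓ Subgroup.normalizer
        (((P : Subgroup G) ⊓ (Q : Subgroup G) : Subgroup G) : Set G))
        (Subgroup.normalizer (((P : Subgroup G) ⊓ (Q : Subgroup G) : Subgroup G) : Set G)) →
      ∃ z, Rel P Q z := by
    intro Q hn hsyl
    by_cases hHP : (P : Subgroup G) ⊓ (Q : Subgroup G) = (P : Subgroup G)
    · rw [sylow_eq_of_inf_eq' hHP]
      exact ⟨1, rel_self P⟩
    obtain ⟨H, hH⟩ : ∃ H : Subgroup G, H = (P : Subgroup G) ⊓ (Q : Subgroup G) := ⟨_, rfl⟩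
    rw [← hH] at hsyl hHP
    have hHleP : H ≤ (P : Subgroup G) := hH ▸ inf_le_left
    have hHleQ : H ≤ (Q : Subgroup G) := hH ▸ inf_le_right
    have hHQ : H ≠ (Q : Subgroup G) := by
      intro h
      apply hHP
      have hQP : (Q : Subgroup G) ≤ (P : Subgroup G) := by
        rw [← h]; exact hHleP
      have := Q.is_maximal' P.isPGroup' hQP
      rw [h, this]
    have hgrowQ : H < (Q : Subgroup G) ⊓ nz H :=
      IsSylIn.normalizer_growth Q.isPGroup' hHleQ hHQ
    have hgrowP : H < (P : Subgroup G) ⊓ nz H :=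
      IsSylIn.normalizer_growth P.isPGroup' hHleP hHP
    -- consequence of the induction hypothesis
    have IH'' : ∀ B : Subgroup G, B ≤ (P : Subgroup G) → Nat.card H < Nat.card B →
        ∀ m : G, MulAut.conj m • B ≤ (P : Subgroup G) → Good p (P : Subgroup G) B m := by
      intro B hBP hcard m hm
      have hBR : B ≤ ((m⁻¹ • P : Sylow p G) : Subgroup G) := by
        rw [Sylow.coe_subgroup_smul]
        exact conj_smul_le_iff_le_inv.mp hm
      have hlt : Nat.card H <
          Nat.card ((P : Subgroup G) ⊓ ((m⁻¹ • P : Sylow p G) : Subgroup G) : Subgroup G) :=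
        lt_of_lt_of_le hcard (Subgroup.card_le_of_le (le_inf hBP hBR))
      obtain ⟨z, hz⟩ := IH' Q (m⁻¹ • P) hn (hH ▸ hlt)
      have hzm : z * m⁻¹ ∈ nz (P : Subgroup G) := by
        rw [mem_normalizer_iff_smul_eq, conj_mul_smul, ← Sylow.coe_subgroup_smul]
        exact hz.2
      have hy : m * z⁻¹ ∈ nz (P : Subgroup G) := by
        have := Subgroup.inv_mem _ hzm
        have e : (z * m⁻¹)⁻¹ = m * z⁻¹ := by group
        rwa [e] at this
      have hgz : Good p (P : Subgroup G) B z := hz.1.mono (le_inf hBP hBR)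
      have := hgz.mul (Good.of_normalizer (MulAut.conj z • B) hy)
      have e : m * z⁻¹ * z = m := by group
      rwa [e] at this
    -- the key lemma
    have hkey : nz H ≤ GG p (P : Subgroup G) H := by
      apply key hsyl hgrowP.le hgrowP.ne
      · intro c hc
        exact ⟨Subgroup.centralizer_le_normalizer (s := (H : Set G)) hc, Good.of_centralizer _ hc⟩
      · intro B hHB hBH hBS u hu huB
        refine ⟨hu, (IH'' B (hBS.trans inf_le_left)
          (card_lt_of_lt hHB (fun h => hBH (le_of_eq h.symm))) u (huB.trans inf_le_left)).mono hHB⟩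
      · intro X hrad hnconn hleast x hx
        have hF : Fam p (P : Subgroup G) H X := ⟨hHleP, hsyl.not_dvd, hrad, hnconn, hleast⟩
        exact ⟨hleast.1.2.1 (Ep_le p X hx), Good.of_step hF hx le_rfl⟩
    obtain ⟨u, huN, hule⟩ := hsyl.exists_conj_le (Q.isPGroup'.to_le inf_le_left)
      (inf_le_right : (Q : Subgroup G) ⊓ nz H ≤ nz H)
    have hle' : MulAut.conj u • ((Q : Subgroup G) ⊓ nz H) ≤
        (P : Subgroup G) ⊓ ((u • Q : Sylow p G) : Subgroup G) := by
      refine le_inf (hule.trans inf_le_left) ?_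
      rw [Sylow.coe_subgroup_smul]
      exact conj_smul_le_conj_smul inf_le_left
    have hlt' : Nat.card H <
        Nat.card ((P : Subgroup G) ⊓ ((u • Q : Sylow p G) : Subgroup G) : Subgroup G) := by
      calc Nat.card H < Nat.card ((Q : Subgroup G) ⊓ nz H : Subgroup G) :=
            card_lt_of_lt hgrowQ.le hgrowQ.ne
        _ = Nat.card (MulAut.conj u • ((Q : Subgroup G) ⊓ nz H) : Subgroup G) :=
            (card_conj_smul u _).symm
        _ ≤ _ := Subgroup.card_le_of_le hle'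
    obtain ⟨z', hz'⟩ := IH' Q (u • Q) hn (hH ▸ hlt')
    have huH : MulAut.conj u • H = H := smul_eq_of_mem_normalizer huN
    refine ⟨z' * u, ?_, ?_⟩
    · rw [← hH]
      refine Good.mul (hkey huN).2 ?_
      rw [huH]
      refine hz'.1.mono (le_inf hHleP ?_)
      rw [Sylow.coe_subgroup_smul, ← huH]
      exact conj_smul_le_conj_smul hHleQ
    · rw [conj_mul_smul, ← Sylow.coe_subgroup_smul]
      exact hz'.2
  -- general case
  intro Q hn
  by_cases hHP : (P : Subgroup G) ⊓ (Q : Subgroup G) = (P : Subgroup G)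
  · rw [sylow_eq_of_inf_eq' hHP]
    exact ⟨1, rel_self P⟩
  obtain ⟨H, hH⟩ : ∃ H : Subgroup G, H = (P : Subgroup G) ⊓ (Q : Subgroup G) := ⟨_, rfl⟩
  rw [← hH] at hHP
  obtain ⟨N, hN⟩ : ∃ N : Subgroup G, N = Subgroup.normalizer (H : Set G) := ⟨_, rfl⟩
  have hgrowP : H < (P : Subgroup G) ⊓ N := by
    rw [hN]
    exact IsSylIn.normalizer_growth P.isPGroup' (hH ▸ inf_le_left) hHP
  obtain ⟨T₀, hT₀, hPT₀⟩ := exists_isSylIn_ge (p := p) (Q := (P : Subgroup G) ⊓ N) (H := N)
    (P.isPGroup'.to_le inf_le_left) inf_le_right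
  obtain ⟨S, hT₀S⟩ := hT₀.isPGroup.exists_le_sylow
  have hPNS : (P : Subgroup G) ⊓ N ≤ (P : Subgroup G) ⊓ (S : Subgroup G) :=
    le_inf inf_le_left (hPT₀.trans hT₀S)
  have hltS : Nat.card ((P : Subgroup G) ⊓ (Q : Subgroup G) : Subgroup G) <
      Nat.card ((P : Subgroup G) ⊓ (S : Subgroup G) : Subgroup G) := by
    rw [← hH]
    exact lt_of_lt_of_le (card_lt_of_lt hgrowP.le hgrowP.ne) (Subgroup.card_le_of_le hPNS)
  obtain ⟨x, hx⟩ := IH' Q S hn hltS
  have hHS : H ≤ (P : Subgroup G) ⊓ (S : Subgroup G) := hgrowP.le.trans hPNS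
  suffices hsuff : ∃ z, Rel P (x • Q) z by
    obtain ⟨z, hz⟩ := hsuff
    exact ⟨z * x, Rel.trans' (hH ▸ hHS.trans inf_le_right) hx hz⟩
  have hH'P : MulAut.conj x • H ≤ (P : Subgroup G) :=
    (conj_smul_le_conj_smul (hHS.trans inf_le_right)).trans (le_of_eq hx.2)
  have hH'Q : MulAut.conj x • H ≤ ((x • Q : Sylow p G) : Subgroup G) := by
    rw [Sylow.coe_subgroup_smul]
    exact conj_smul_le_conj_smul (hH ▸ inf_le_right)
  by_cases hlt : Nat.card H <
      Nat.card ((P : Subgroup G) ⊓ ((x • Q : Sylow p G) : Subgroup G) : Subgroup G)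
  · exact IH' Q (x • Q) hn (hH ▸ hlt)
  · have hPQ' : (P : Subgroup G) ⊓ ((x • Q : Sylow p G) : Subgroup G) = MulAut.conj x • H :=
      (Subgroup.eq_of_le_of_card_ge (le_inf hH'P hH'Q)
        (by rw [card_conj_smul]; exact not_lt.mp hlt)).symm
    apply claimA (x • Q)
    · rw [hPQ', card_conj_smul, hH]
      exact hn
    · rw [hPQ', normalizer_conj_smul, ← hN]
      have hSN : (S : Subgroup G) ⊓ N = T₀ :=
        hT₀.eq_of_le (S.isPGroup'.to_le inf_le_left) inf_le_right (le_inf hT₀S hT₀.le)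
      have : (P : Subgroup G) ⊓ MulAut.conj x • N = MulAut.conj x • T₀ := by
        rw [← hSN, conj_smul_inf, hx.2]
      rw [this]
      exact hT₀.conj x

theorem exists_rel (P Q : Sylow p G) : ∃ z, Rel P Q z :=
  exists_rel_aux P _ Q rfl

/-- **Strong Alperin–Goldschmidt, internal form.** -/
theorem main (P : Sylow p G) {K : Subgroup G} (hK : K ≤ (P : Subgroup G)) {g : G}
    (hg : MulAut.conj g • K ≤ (P : Subgroup G)) : Good p (P : Subgroup G) K g := by
  obtain ⟨z, hz⟩ := exists_rel P (g⁻¹ • P)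
  have hKQ : K ≤ ((g⁻¹ • P : Sylow p G) : Subgroup G) := by
    rw [Sylow.coe_subgroup_smul]
    exact conj_smul_le_iff_le_inv.mp hg
  have h1 : z * g⁻¹ ∈ nz (P : Subgroup G) := by
    rw [mem_normalizer_iff_smul_eq, conj_mul_smul, ← Sylow.coe_subgroup_smul]
    exact hz.2
  have h2 : g * z⁻¹ ∈ nz (P : Subgroup G) := by
    have := Subgroup.inv_mem _ h1
    have e : (z * g⁻¹)⁻¹ = g * z⁻¹ := by group
    rwa [e] at this
  have hgz : Good p (P : Subgroup G) K z := hz.1.mono (le_inf hK hKQ)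
  have := hgz.mul (Good.of_normalizer (MulAut.conj z • K) h2)
  have e : g * z⁻¹ * z = g := by group
  rwa [e] at this

end fin

end Cfsg.Agent.Helper29.AG
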