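import Mathlib
import Cfsg.Prelude.Def_Local
import Cfsg.Prelude.Def_SylowChains
import Cfsg.Agent.Lib.Helper29.AGMain
import Cfsg.Agent.S3076

/-!
# Strong Alperin–Goldschmidt: bridging the internal family to the official conditions
-/

set_option autoImplicit false
set_option linter.unusedSectionVars false
open Pointwise

namespace Cfsg.Agent.Helper29.AG

open Cfsg.Agent.Helper33

variable {G : Type*} [Group G]

local notation "nz" D:max => Subgroup.normalizer (SetLike.coe D)
local notation "cz" D:max => Subgroup.centralizer (SetLike.coe D)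

/-! ### correspondence with the quotient `N / H` -/

section Quot

variable {N H : Subgroup G} [hn : (H.subgroupOf N).Normal]

/-- preimage in `G` of a subgroup of `N / H`. -/
def pre (N H : Subgroup G) [(H.subgroupOf N).Normal] (c : Subgroup (↥N ⧸ H.subgroupOf N)) :
    Subgroup G :=
  (c.comap (QuotientGroup.mk' (H.subgroupOf N))).map N.subtype

/-- image in `N / H` of a subgroup of `G`. -/
def img (N H : Subgroup G) [(H.subgroupOf N).Normal] (T : Subgroup G) :
    Subgroup (↥N ⧸ H.subgroupOf N) :=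
  (T.subgroupOf N).map (QuotientGroup.mk' (H.subgroupOf N))

theorem pre_le (c : Subgroup (↥N ⧸ H.subgroupOf N)) : pre N H c ≤ N := Subgroup.map_subtype_le _

theorem mem_pre {c : Subgroup (↥N ⧸ H.subgroupOf N)} {g : G} :
    g ∈ pre N H c ↔ ∃ hg : g ∈ N, QuotientGroup.mk' (H.subgroupOf N) ⟨g, hg⟩ ∈ c := by
  constructor
  · rintro ⟨x, hx, rfl⟩
    exact ⟨x.2, hx⟩
  · rintro ⟨hg, h⟩
    exact ⟨⟨g, hg⟩, h, rfl⟩

theorem le_pre (hHN : H ≤ N) (c : Subgroup (↥N ⧸ H.subgroupOf N)) : H ≤ pre N H c := by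
  intro h hh
  rw [mem_pre]
  refine ⟨hHN hh, ?_⟩
  have : QuotientGroup.mk' (H.subgroupOf N) ⟨h, hHN hh⟩ = 1 := by
    rw [QuotientGroup.mk'_apply, QuotientGroup.eq_one_iff, Subgroup.mem_subgroupOf]
    exact hh
  rw [this]; exact c.one_mem

theorem pre_img {T : Subgroup G} (hHT : H ≤ T) (hTN : T ≤ N) : pre N H (img N H T) = T := by
  ext g
  rw [mem_pre]
  constructor
  · rintro ⟨hg, t, ht, hteq⟩
    rw [QuotientGroup.mk'_apply, QuotientGroup.mk'_apply, QuotientGroup.eq,
      Subgroup.mem_subgroupOf] at hteq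
    have e : g = (t : G) * (((t : G))⁻¹ * g) := by group
    rw [e]
    refine T.mul_mem (Subgroup.mem_subgroupOf.mp ht) (hHT ?_)
    simpa using hteq
  · intro hg
    exact ⟨hTN hg, ⟨g, hTN hg⟩, Subgroup.mem_subgroupOf.mpr hg, rfl⟩

theorem relIndex_pre (c : Subgroup (↥N ⧸ H.subgroupOf N)) : (pre N H c).relIndex N = c.index := by
  have h1 : (pre N H c).subgroupOf N = c.comap (QuotientGroup.mk' (H.subgroupOf N)) :=
    Subgroup.comap_map_eq_self_of_injective N.subtype_injective _
  rw [Subgroup.relIndex, h1]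
  exact Subgroup.index_comap_of_surjective (H := c) (QuotientGroup.mk'_surjective _)

theorem isPGroup_pre {p : ℕ} (hH : IsPGroup p H) {c : Subgroup (↥N ⧸ H.subgroupOf N)}
    (hc : IsPGroup p c) : IsPGroup p (pre N H c) := by
  unfold pre
  apply IsPGroup.map
  apply hc.comap_of_ker_isPGroup
  rw [QuotientGroup.ker_mk']
  exact hH.comap_subtype

theorem inf_eq_bot_of_pre_inf_le {c c' : Subgroup (↥N ⧸ H.subgroupOf N)}
    (h : pre N H c ⊓ pre N H c' ≤ H) : c ⊓ c' = ⊥ := by
  rw [Subgroup.eq_bot_iff_forall]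
  rintro q ⟨hq, hq'⟩
  obtain ⟨x, rfl⟩ := QuotientGroup.mk'_surjective (H.subgroupOf N) q
  have h1 : (x : G) ∈ pre N H c := mem_pre.mpr ⟨x.2, hq⟩
  have h2 : (x : G) ∈ pre N H c' := mem_pre.mpr ⟨x.2, hq'⟩
  have h3 := h ⟨h1, h2⟩
  rw [QuotientGroup.mk'_apply, QuotientGroup.eq_one_iff, Subgroup.mem_subgroupOf]
  exact h3

end Quot

section fin

variable [Finite G] {p : ℕ} [Fact p.Prime]

theorem isSylIn_pre {N H : Subgroup G} [(H.subgroupOf N).Normal] (hH : IsPGroup p H)
    (c : Sylow p (↥N ⧸ H.subgroupOf N)) : IsSylIn p (pre N H (c : Subgroup _)) N :=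
  ⟨pre_le _, isPGroup_pre hH c.isPGroup', by rw [relIndex_pre]; exact c.not_dvd_index⟩

/-- official chain-connectedness implies the internal one. -/
theorem conn_of_official {H S : Subgroup G} (hS : IsSylIn p S (nz H)) (hHS : H ≤ S)
    (hoff : Cfsg.IsSylowChainConnected p (↥(nz H) ⧸ H.subgroupOf (nz H))) : Conn p H := by
  have hHp : IsPGroup p H := hS.isPGroup.to_le hHS
  have hHN : H ≤ nz H := Subgroup.le_normalizer
  -- Sylow subgroups of the quotient attached to Sylow subgroups of `N(H)`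
  have hsyl : ∀ T : Subgroup G, IsSylIn p T (nz H) →
      ∃ c : Sylow p (↥(nz H) ⧸ H.subgroupOf (nz H)), pre (nz H) H (c : Subgroup _) = T := by
    intro T hT
    have hHT : H ≤ T := le_of_isSylIn hS hHS hT
    have hpi : pre (nz H) H (img (nz H) H T) = T := pre_img hHT hT.le
    have hp1 : IsPGroup p (img (nz H) H T) := (hT.isPGroup.comap_subtype).map _
    have hp2 : ¬ p ∣ (img (nz H) H T).index := by
      rw [← relIndex_pre, hpi]; exact hT.not_dvd
    refine ⟨hp1.toSylow hp2, ?_⟩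
    rw [IsPGroup.toSylow_coe]
    exact hpi
  intro T T' hT hT'
  obtain ⟨cT, hcT⟩ := hsyl T hT
  obtain ⟨cT', hcT'⟩ := hsyl T' hT'
  obtain ⟨n, c, h0, hlast, -, hstep⟩ := hoff cT cT'
  have hall : ∀ i : Fin (n + 1),
      Relation.ReflTransGen (Adj p H) T (pre (nz H) H ((c i : Sylow p _) : Subgroup _)) := by
    intro i
    induction i using Fin.induction with
    | zero => rw [h0, hcT]
    | succ i ih =>
      refine ih.tail ⟨isSylIn_pre hHp _, isSylIn_pre hHp _, fun hle => (hstep i).2 ?_⟩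
      exact inf_eq_bot_of_pre_inf_le hle
  have := hall (Fin.last n)
  rwa [hlast, hcT'] at this

theorem normalizer_le_normalizer_centralizer (H : Subgroup G) : nz H ≤ nz (cz H) := by
  intro n hn
  rw [mem_normalizer_iff_smul_eq, ← centralizer_conj_smul, smul_eq_of_mem_normalizer hn]

/-- the official conditions on a pair `(H, X)`. -/
def Off (p : ℕ) (P H X : Subgroup G) : Prop :=
  H ≤ P ∧
  ¬ p ∣ (P ⊓ Subgroup.normalizer (H : Set G)).relIndex (Subgroup.normalizer (H : Set G)) ∧
  P ⊓ Subgroup.centralizer (H : Set G) ≤ H ∧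
  (Cfsg.pPrimePCore p ↥(Subgroup.normalizer (H : Set G))).map
      (Subgroup.normalizer (H : Set G)).subtype = H ⊔ Subgroup.centralizer (H : Set G) ∧
  ¬ Cfsg.IsSylowChainConnected p
      (↥(Subgroup.normalizer (H : Set G)) ⧸ H.subgroupOf (Subgroup.normalizer (H : Set G))) ∧
  (H ≤ X ∧ X ≤ Subgroup.normalizer (H : Set G) ∧
    (X.subgroupOf (Subgroup.normalizer (H : Set G))).Normal ∧ p ∣ H.relIndex X ∧
    ∀ Y : Subgroup G, H ≤ Y → Y ≤ Subgroup.normalizer (H : Set G) →
      (Y.subgroupOf (Subgroup.normalizer (H : Set G))).Normal → p ∣ H.relIndex Y → X ≤ Y)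

theorem Fam.off {P : Sylow p G} {H X : Subgroup G} (h : Fam p (P : Subgroup G) H X) :
    Off p (P : Subgroup G) H X := by
  obtain ⟨hHP, hfn, hrad, hnconn, ⟨⟨hHX, hXN, hNX, hdvd⟩, hleast⟩⟩ := h
  have hHN : H ≤ nz H := Subgroup.le_normalizer
  have hCN : cz H ≤ nz H := Subgroup.centralizer_le_normalizer (s := (H : Set G))
  haveI hC : ((cz H).subgroupOf (nz H)).Normal :=
    (Subgroup.normal_subgroupOf_iff_le_normalizer hCN).mpr (normalizer_le_normalizer_centralizer H)
  have hS : IsSylIn p ((P : Subgroup G) ⊓ nz H) (nz H) :=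
    ⟨inf_le_right, P.isPGroup'.to_le inf_le_left, hfn⟩
  have hHp : IsPGroup p H := P.isPGroup'.to_le hHP
  -- the subgroup `L`
  obtain ⟨L, hL⟩ : ∃ L : Subgroup ↥(nz H), L =
      (Cfsg.pCore p (↥(nz H) ⧸ (cz H).subgroupOf (nz H))).comap (QuotientGroup.mk' _) := ⟨_, rfl⟩
  have hLn : L.Normal := by rw [hL]; infer_instance
  have eH : (H.subgroupOf (nz H)).map (nz H).subtype = H := Subgroup.map_subgroupOf_eq_of_le hHN
  have eC : ((cz H).subgroupOf (nz H)).map (nz H).subtype = cz H :=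
    Subgroup.map_subgroupOf_eq_of_le hCN
  have hHL' : H.subgroupOf (nz H) ≤ L := by
    rw [hL]
    apply Cfsg.Agent.S3076.map_le_pCore_of_pow_mem
    intro a ha
    obtain ⟨k, hk⟩ := (hHp.comap_subtype (K := nz H)) ⟨a, ha⟩
    refine ⟨k, ?_⟩
    have hk' := congrArg Subtype.val hk
    simp only [Subgroup.coe_pow, Subgroup.coe_one] at hk'
    rw [hk']; exact one_mem _
  have hCL' : (cz H).subgroupOf (nz H) ≤ L := by
    intro c hc
    rw [hL, Subgroup.mem_comap]
    have : (QuotientGroup.mk' ((cz H).subgroupOf (nz H))) c = 1 :=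
      (QuotientGroup.eq_one_iff c).mpr hc
    rw [this]; exact one_mem _
  have hHL : H ≤ L.map (nz H).subtype := le_of_eq_of_le eH.symm (Subgroup.map_mono hHL')
  have hCL : cz H ≤ L.map (nz H).subtype := le_of_eq_of_le eC.symm (Subgroup.map_mono hCL')
  have hLN : L.map (nz H).subtype ≤ nz H := Subgroup.map_subtype_le _
  have hNL : nz H ≤ nz (L.map (nz H).subtype) := by
    rw [← Subgroup.normal_subgroupOf_iff_le_normalizer hLN]
    have : (L.map (nz H).subtype).subgroupOf (nz H) = L := by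
      unfold Subgroup.subgroupOf
      exact Subgroup.comap_map_eq_self_of_injective (nz H).subtype_injective L
    rw [this]; exact hLn
  have hk : ∃ k : ℕ, (cz H).relIndex (L.map (nz H).subtype) = p ^ k := by
    obtain ⟨k, hk⟩ := Cfsg.Agent.S3076.relIndex_comap_pCore_eq_pow (p := p)
      ((cz H).subgroupOf (nz H))
    refine ⟨k, ?_⟩
    rw [← hL] at hk
    rw [← hk, ← Subgroup.relIndex_map_map_of_injective _ _
      (Subgroup.subtype_injective (nz H)), eC]
  have hnd : ¬ p ∣ H.relIndex (L.map (nz H).subtype) := hrad _ hHL hCL hLN hNL hk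
  have h3076 := (Cfsg.Agent.S3076.result P H hHP hfn).mp (by
    rw [← hL]
    exact ⟨hHL, hnd⟩)
  refine ⟨hHP, hfn, h3076.1, h3076.2, ?_, hHX, hXN, ?_, hdvd, ?_⟩
  · intro hoff
    exact hnconn (conn_of_official hS (le_inf hHP hHN) hoff)
  · exact (Subgroup.normal_subgroupOf_iff_le_normalizer hXN).mpr hNX
  · intro Y hHY hYN hYn hdvdY
    exact hleast Y ⟨hHY, hYN, (Subgroup.normal_subgroupOf_iff_le_normalizer hYN).mp hYn, hdvdY⟩

end fin

/-- unfolding a chain into finite sequences. -/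
theorem Chain.exists_fin {p : ℕ} {P K : Subgroup G} {w : G} (h : Chain p P K w) :
    ∃ (n : ℕ) (H X : Fin n → Subgroup G) (x : Fin n → G),
      w⁻¹ = (List.ofFn x).prod ∧
      ∀ i : Fin n, Fam p P (H i) (X i) ∧ x i ∈ Ep p (X i) ∧
        ∀ a ∈ K, (((List.ofFn x).take i.val).prod)⁻¹ * a * ((List.ofFn x).take i.val).prod ∈ H i := by
  induction h with
  | refl K =>
    refine ⟨0, Fin.elim0, Fin.elim0, Fin.elim0, by simp, fun i => i.elim0⟩
  | step K H X x g hF hx hle _ ih =>
    obtain ⟨n, H', X', x', hprod, hall⟩ := ih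
    refine ⟨n + 1, Fin.cons H H', Fin.cons X X', Fin.cons x⁻¹ x', ?_, ?_⟩
    · rw [List.ofFn_succ, List.prod_cons, Fin.cons_zero, mul_inv_rev, hprod]
      simp only [Fin.cons_succ]
    · intro i
      refine Fin.cases ?_ (fun j => ?_) i
      · refine ⟨by simpa using hF, by simpa using Subgroup.inv_mem _ hx, fun a ha => ?_⟩
        simpa using hle ha
      · obtain ⟨h1, h2, h3⟩ := hall j
        refine ⟨by simpa using h1, by simpa using h2, fun a ha => ?_⟩
        have h4 := h3 (x * a * x⁻¹) (conj_mem_conj_smul ha)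
        rw [List.ofFn_succ]
        simp only [Fin.cons_zero, Fin.cons_succ, Fin.val_succ, List.take_succ_cons, List.prod_cons,
          mul_inv_rev, inv_inv]
        have e : ((List.take (↑j) (List.ofFn x')).prod)⁻¹ * x * a *
            (x⁻¹ * (List.take (↑j) (List.ofFn x')).prod) =
            ((List.take (↑j) (List.ofFn x')).prod)⁻¹ * (x * a * x⁻¹) *
              (List.take (↑j) (List.ofFn x')).prod := by group
        rw [e]
        exact h4

end Cfsg.Agent.Helper29.AG
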