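import Mathlib
import Cfsg.Prelude.Def_OddOrderLocal
import Cfsg.Agent.Lib.Helper29.BG1212c
import Cfsg.Agent.Lib.Helper45.BG143
import Cfsg.Agent.Lib.Helper22.Radical

/-!
# Bender-Glauberman Theorem 12.12, part (b): assembling `E₀` from normal cyclic `τ₂`-subgroups
(helper29)

`exists_E0_of_cyclic`: if for every `p ∈ τ₂(M)` the complement `E` has a normal cyclic `p`-subgroup
`C_p` whose order is a multiple of the order of every `p`-element of `E` and all of whose
nonidentity elements act fixed-point-freely on `M_σ`, then `E₀ := (⨆ C_p) ⊔ Q`, `Q` a Hall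
`τ₂(M)'`-subgroup of `E`, has the exponent of `E` and acts fixed-point-freely on `M_σ`.
-/

set_option autoImplicit false
set_option linter.style.haveILetI false
set_option linter.unusedSectionVars false
set_option linter.unusedVariables false

namespace Cfsg.Agent.Helper29.BG1212

open Subgroup Cfsg

variable {G : Type*} [Group G] [Finite G]

/-- an element of `H` whose order is prime to the index of the `H`-normal subgroup `N` lies in
`N`. -/
theorem mem_of_coprime_relIndex {H N : Subgroup G} (hNH : N ≤ H)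
    (hn : H ≤ normalizer (N : Set G)) {x : G} (hx : x ∈ H)
    (hcop : (orderOf x).Coprime (N.relIndex H)) : x ∈ N := by
  haveI : (N.subgroupOf H).Normal := (Subgroup.normal_subgroupOf_iff_le_normalizer hNH).mpr hn
  have h1 : zpowers (⟨x, hx⟩ : H) ≤ N.subgroupOf H := by
    apply le_of_coprime_index
    rw [Nat.card_zpowers, Subgroup.orderOf_mk]
    exact hcop
  have := h1 (mem_zpowers _)
  rwa [Subgroup.mem_subgroupOf] at this

/-- a finite join of `E`-normal subgroups of `E` is an `E`-normal subgroup of `E`. -/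
theorem finset_iSup_facts (E : Subgroup G) (C : ℕ → Subgroup G) (s : Finset ℕ)
    (hC : ∀ p ∈ s, C p ≤ E ∧ E ≤ normalizer (C p : Set G)) :
    (⨆ p ∈ s, C p) ≤ E ∧ E ≤ normalizer ((⨆ p ∈ s, C p : Subgroup G) : Set G) := by
  classical
  induction s using Finset.induction_on with
  | empty =>
    have h0 : (⨆ p ∈ (∅ : Finset ℕ), C p : Subgroup G) = ⊥ := by simp
    rw [h0]
    refine ⟨bot_le, ?_⟩
    intro g _
    rw [Subgroup.mem_normalizer_iff]
    intro x
    rw [Subgroup.mem_bot, Subgroup.mem_bot, conj_eq_one_iff]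
  | insert a s ha ih =>
    rw [Finset.iSup_insert]
    have h1 := hC a (Finset.mem_insert_self a s)
    have h2 := ih (fun p hp => hC p (Finset.mem_insert_of_mem hp))
    exact ⟨sup_le h1.1 h2.1, fun g hg =>
      Cfsg.Agent.Helper22.normalizer_inf_le_normalizer_sup _ _ ⟨h1.2 hg, h2.2 hg⟩⟩

/-- a finite join of `E`-normal subgroups of `E` of order prime to `r` has order prime to `r`. -/
theorem finset_iSup_coprime (E : Subgroup G) (C : ℕ → Subgroup G) (s : Finset ℕ) (r : ℕ)
    (hC : ∀ p ∈ s, C p ≤ E ∧ E ≤ normalizer (C p : Set G))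
    (hr : ∀ p ∈ s, (Nat.card (C p)).Coprime r) :
    (Nat.card (⨆ p ∈ s, C p : Subgroup G)).Coprime r := by
  classical
  induction s using Finset.induction_on with
  | empty => simp
  | insert a s ha ih =>
    rw [Finset.iSup_insert]
    have h1 := hC a (Finset.mem_insert_self a s)
    have hC' : ∀ p ∈ s, C p ≤ E ∧ E ≤ normalizer (C p : Set G) :=
      fun p hp => hC p (Finset.mem_insert_of_mem hp)
    have h2 := ih hC' (fun p hp => hr p (Finset.mem_insert_of_mem hp))
    have h3 := finset_iSup_facts E C s hC'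
    exact Cfsg.Agent.Helper22.card_sup_coprime (hr a (Finset.mem_insert_self a s)) h2
      (h1.1.trans h3.2)

/-- **B-G Theorem 12.12, assembling `E₀`** from normal cyclic `τ₂`-subgroups with fixed-point-free
nonidentity elements. -/
theorem exists_E0_of_cyclic (hG : IsMinSimpleOddOrder G) {M E : Subgroup G} (hM : IsCoatom M)
    (hE : IsComplIn E (sigmaCore M) M) (h : Hyp M E)
    (hC : ∀ p : ℕ, p.Prime → p ∈ tau2 M → ∃ C : Subgroup G, C ≤ E ∧ IsCyclic C ∧ IsPGroup p C ∧
      E ≤ normalizer (C : Set G) ∧ (∀ x ∈ E, IsPGroup p (zpowers x) → orderOf x ∣ Nat.card C) ∧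
      ∀ c ∈ C, c ≠ 1 → sigmaCore M ⊓ centralizer ({c} : Set G) = ⊥) :
    ∃ E₀ : Subgroup G, E₀ ≤ E ∧ Monoid.exponent E₀ = Monoid.exponent E ∧
      ∀ e ∈ E₀, e ≠ 1 → sigmaCore M ⊓ centralizer ({e} : Set G) = ⊥ := by
  classical
  choose! C hC using hC
  set s : Finset ℕ := (Nat.card E).primeFactors.filter (· ∈ tau2 M) with hs
  have hsmem : ∀ p, p ∈ s ↔ p.Prime ∧ p ∣ Nat.card E ∧ p ∈ tau2 M := by
    intro p
    rw [hs, Finset.mem_filter, Nat.mem_primeFactors]
    have : Nat.card E ≠ 0 := Nat.card_pos.ne'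
    tauto
  have hCs : ∀ p ∈ s, C p ≤ E ∧ E ≤ normalizer (C p : Set G) := by
    intro p hp
    obtain ⟨hpp, -, hpτ⟩ := (hsmem p).mp hp
    exact ⟨(hC p hpp hpτ).1, (hC p hpp hpτ).2.2.2.1⟩
  set Y : Subgroup G := ⨆ p ∈ s, C p with hY
  have hYf := finset_iSup_facts E C s hCs
  have hEsolv : Group.IsSolvable E := by
    apply hG.2.2.2 E
    intro hEt
    apply hM.1
    rw [eq_top_iff, ← hEt]
    exact hE.1
  obtain ⟨Q, hQ⟩ := Cfsg.Agent.Helper45.BG143.exists_hall (tau2 M)ᶜ E hEsolv
  have hE₀E : Y ⊔ Q ≤ E := sup_le hYf.1 hQ.1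
  have hCY : ∀ p ∈ s, C p ≤ Y := fun p hp => le_biSup C hp
  refine ⟨Y ⊔ Q, hE₀E, ?_, ?_⟩
  · -- the exponent
    apply Nat.dvd_antisymm
    · exact Monoid.exponent_dvd_of_monoidHom (Subgroup.inclusion hE₀E)
        (Subgroup.inclusion_injective hE₀E)
    · rw [Monoid.exponent_dvd_iff_forall_pow_eq_one]
      intro g
      rw [← orderOf_dvd_iff_pow_eq_one, ← Subgroup.orderOf_coe,
        Nat.dvd_iff_prime_pow_dvd_dvd]
      intro q k hq hqk
      haveI : Fact q.Prime := ⟨hq⟩
      rcases Nat.eq_zero_or_pos k with rfl | hk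
      · simp
      set x : G := (g : G) with hx
      have hxE : x ∈ E := g.2
      have hx0 : orderOf x ≠ 0 := (orderOf_pos x).ne'
      set y : G := x ^ (orderOf x / q ^ k) with hy
      have hyo : orderOf y = q ^ k := orderOf_pow_orderOf_div hx0 hqk
      have hyE : y ∈ E := E.pow_mem hxE _
      have hyp : IsPGroup q (zpowers y) := by
        apply IsPGroup.of_card (n := k)
        rw [Nat.card_zpowers, hyo]
      by_cases hqτ : q ∈ tau2 M
      · have hqE : q ∣ Nat.card E := by
          have h1 : orderOf y ∣ Nat.card E := by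
            have := orderOf_dvd_natCard (⟨y, hyE⟩ : E)
            rwa [Subgroup.orderOf_mk] at this
          rw [hyo] at h1
          exact dvd_trans (dvd_pow_self q hk.ne') h1
        have hqs : q ∈ s := (hsmem q).mpr ⟨hq, hqE, hqτ⟩
        obtain ⟨-, hcyc, -, -, hord, -⟩ := hC q hq hqτ
        haveI := hcyc
        obtain ⟨c, hc⟩ := IsCyclic.exists_generator (α := C q)
        have hco : orderOf c = Nat.card (C q) := orderOf_eq_card_of_forall_mem_zpowers hc
        have hcE₀ : (c : G) ∈ Y ⊔ Q := le_sup_left (a := Y) (b := Q) (hCY q hqs c.2)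
        have h2 : orderOf (⟨(c : G), hcE₀⟩ : ↥(Y ⊔ Q)) ∣ Monoid.exponent ↥(Y ⊔ Q) :=
          Monoid.order_dvd_exponent _
        rw [Subgroup.orderOf_mk, Subgroup.orderOf_coe, hco] at h2
        rw [← hyo]
        exact dvd_trans (hord y hyE hyp) h2
      · have hidx : ¬ q ∣ Q.relIndex E := hQ.2.2 q hq hqτ
        obtain ⟨m, hm, hmy⟩ := Cfsg.Agent.Helper45.BGTools.exists_conj_mem hidx hyE hyp
        have hmE₀ : m * y * m⁻¹ ∈ Y ⊔ Q := le_sup_right (a := Y) (b := Q) hmy
        have h2 : orderOf (⟨m * y * m⁻¹, hmE₀⟩ : ↥(Y ⊔ Q)) ∣ Monoid.exponent ↥(Y ⊔ Q) :=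
          Monoid.order_dvd_exponent _
        have h3 : orderOf (m * y * m⁻¹) = orderOf y := by
          have := MulEquiv.orderOf_eq (MulAut.conj m) y
          rwa [MulAut.conj_apply] at this
        rw [Subgroup.orderOf_mk, h3, hyo] at h2
        exact h2
  · -- fixed-point-freeness
    intro e he he1
    by_contra hbad
    have hn1 : orderOf e ≠ 1 := fun h1 => he1 (orderOf_eq_one_iff.mp h1)
    have hn0 : orderOf e ≠ 0 := (orderOf_pos e).ne'
    obtain ⟨r, hr, hrn⟩ := Nat.exists_prime_and_dvd hn1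
    haveI : Fact r.Prime := ⟨hr⟩
    set e' : G := e ^ (orderOf e / r) with he'
    have he'o : orderOf e' = r := orderOf_pow_orderOf_div hn0 hrn
    have he'E₀ : e' ∈ Y ⊔ Q := (Y ⊔ Q).pow_mem he _
    have he'E : e' ∈ E := hE₀E he'E₀
    have he'1 : e' ≠ 1 := by
      intro h1
      rw [h1, orderOf_one] at he'o
      exact hr.one_lt.ne he'o
    have hbad' : sigmaCore M ⊓ centralizer ({e'} : Set G) ≠ ⊥ := by
      intro h0
      apply hbad
      rw [eq_bot_iff, ← h0]
      apply inf_le_inf_left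
      intro g hg
      rw [Subgroup.mem_centralizer_iff] at hg ⊢
      intro z hz
      rw [Set.mem_singleton_iff] at hz
      have h1 : Commute e g := hg e (Set.mem_singleton e)
      rw [hz, he']
      exact (h1.pow_left _).eq
    have hrτ : r ∈ tau2 M := by
      apply mem_tau2_of_bad hG hM hE h hr he'E he'1 (k := 1) _ hbad'
      rw [pow_one, ← he'o]
      exact pow_orderOf_eq_one e'
    have hrE : r ∣ Nat.card E := by
      have h1 : orderOf e' ∣ Nat.card E := by
        have := orderOf_dvd_natCard (⟨e', he'E⟩ : E)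
        rwa [Subgroup.orderOf_mk] at this
      rwa [he'o] at h1
    have hrs : r ∈ s := (hsmem r).mpr ⟨hr, hrE, hrτ⟩
    obtain ⟨hCrE, -, hCrp, hCrn, -, hgood⟩ := hC r hr hrτ
    -- decompose `Y ⊔ Q = C r ⊔ W`
    set Y' : Subgroup G := ⨆ p ∈ s.erase r, C p with hY'
    have hCs' : ∀ p ∈ s.erase r, C p ≤ E ∧ E ≤ normalizer (C p : Set G) :=
      fun p hp => hCs p (Finset.mem_of_mem_erase hp)
    have hY'f := finset_iSup_facts E C (s.erase r) hCs'
    have hYeq : Y = C r ⊔ Y' := by
      rw [hY, hY', ← Finset.iSup_insert, Finset.insert_erase hrs]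
    have hY'cop : (Nat.card Y').Coprime r := by
      apply finset_iSup_coprime E C (s.erase r) r hCs'
      intro p hp
      obtain ⟨hpr, hps⟩ := Finset.mem_erase.mp hp
      obtain ⟨hpp, -, hpτ⟩ := (hsmem p).mp hps
      haveI : Fact p.Prime := ⟨hpp⟩
      obtain ⟨n, hn⟩ := IsPGroup.iff_card.mp (hC p hpp hpτ).2.2.1
      rw [hn]
      apply Nat.Coprime.pow_left
      exact (Nat.coprime_primes hpp hr).mpr hpr
    have hQcop : (Nat.card Q).Coprime r := by
      rw [Nat.coprime_comm, Nat.Prime.coprime_iff_not_dvd hr]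
      intro hd
      exact hQ.2.1 r hr hd hrτ
    set W : Subgroup G := Q ⊔ Y' with hW
    have hWcop : (Nat.card W).Coprime r :=
      Cfsg.Agent.Helper22.card_sup_coprime hQcop hY'cop (hQ.1.trans hY'f.2)
    have hE₀eq : Y ⊔ Q = W ⊔ C r := by
      rw [hYeq, hW]
      rw [sup_assoc, sup_comm (a := C r), sup_comm (a := Y') (b := Q)]
    have hWE : W ≤ E := sup_le hQ.1 hY'f.1
    have hCrle : C r ≤ W ⊔ C r := le_sup_right
    have hdvd : (C r).relIndex (W ⊔ C r) ∣ Nat.card W := by
      have h1 : Nat.card (W ⊔ C r : Subgroup G) ∣ Nat.card W * Nat.card (C r) :=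
        Cfsg.Agent.Helper22.card_sup_dvd_of_le_normalizer (hWE.trans hCrn)
      have h2 := Cfsg.Agent.Helper55.BGB.card_mul_relIndex hCrle
      rw [← h2, mul_comm (Nat.card W)] at h1
      exact Nat.dvd_of_mul_dvd_mul_left Nat.card_pos h1
    have hmem : e' ∈ C r := by
      apply mem_of_coprime_relIndex (H := W ⊔ C r) hCrle
      · rw [← hE₀eq]; exact hE₀E.trans hCrn
      · rw [← hE₀eq]; exact he'E₀
      · rw [he'o]
        exact (Nat.Coprime.coprime_dvd_left hdvd hWcop).symm
    exact hbad' (hgood e' hmem he'1)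

end Cfsg.Agent.Helper29.BG1212
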