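import Mathlib
import Cfsg.Prelude.Def_OddOrderLocal
import Cfsg.Prelude.Def_OddOrderChar
import Cfsg.Prelude.Def_OddOrder
import Cfsg.Agent.Lib.Helper11.BG1537Defs
import Cfsg.Agent.Lib.Helper90.BG1537P1
import Cfsg.Agent.Lib.Helper96.BG1537P2
import Cfsg.Agent.Lib.Helper25.BG1537P3

/-!
# S1537, part (I)+(III) (backup by helper29): the Dade hypothesis for `B = sigmaA0 M K \ {1}`
and its restriction to `M`-invariant subsets.
-/

set_option autoImplicit false
set_option linter.unusedSectionVars false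
set_option linter.unusedVariables false

namespace Cfsg.Agent.Helper29.BG1537

open Subgroup Cfsg
open Cfsg.Agent.Helper11.BG1537 (Rows)

variable {G : Type*} [Group G] [Finite G]

/-- `R(a) = 1` when `C_G(a) ≤ M`. -/
theorem supportR_eq_bot_of_le {M : Subgroup G} {a : G} (h : centralizer ({a} : Set G) ≤ M) :
    supportR M a = ⊥ := by
  unfold supportR
  rw [dif_neg]
  exact fun h' => h'.1 h

/-- `R(a) = C_{N_F}(a)` when `C_G(a) ≰ M` and `N` is the unique maximal subgroup over `C_G(a)`. -/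
theorem supportR_eq {M N : Subgroup G} {a : G} (hnot : ¬ centralizer ({a} : Set G) ≤ M)
    (hN : IsCoatom N ∧ centralizer ({a} : Set G) ≤ N)
    (huniq : ∀ L : Subgroup G, IsCoatom L → centralizer ({a} : Set G) ≤ L → L = N) :
    supportR M a = fittingHallOf N ⊓ centralizer ({a} : Set G) := by
  have hex : ∃! L : Subgroup G, IsCoatom L ∧ centralizer ({a} : Set G) ≤ L :=
    ⟨N, hN, fun L hL => huniq L hL.1 hL.2⟩
  have hc : Classical.choose hex.exists = N :=
    huniq _ (Classical.choose_spec hex.exists).1 (Classical.choose_spec hex.exists).2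
  unfold supportR
  rw [dif_pos ⟨hnot, hex⟩]
  show fittingHallOf (Classical.choose hex.exists) ⊓ _ = _
  rw [hc]

/-- (III) the Dade hypothesis passes to `M`-invariant subsets. -/
theorem dade_subset {A B : Set G} {M : Subgroup G} {R : G → Subgroup G}
    (hD : DadeHypothesis B M R) (hAB : A ⊆ B)
    (hinv : ∀ m ∈ M, ∀ a ∈ A, m * a * m⁻¹ ∈ A) : DadeHypothesis A M R where
  one_not_mem := fun h => hD.one_not_mem (hAB h)
  subset := fun a ha => hD.subset (hAB ha)
  conj_mem := hinv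
  fusion := fun a ha g hg => hD.fusion a (hAB ha) g (hAB hg)
  le_centralizer := fun a ha => hD.le_centralizer a (hAB ha)
  conj_mem_H := fun a ha => hD.conj_mem_H a (hAB ha)
  inf_eq_bot := fun a ha => hD.inf_eq_bot a (hAB ha)
  sup_eq := fun a ha => hD.sup_eq a (hAB ha)
  coprime := fun a ha b hb => hD.coprime a (hAB ha) b (hAB hb)

/-- `K = ⊥` forces `sigmaA0 M K ⊆ sigmaA M U`. -/
theorem sigmaA0_subset_sigmaA_of_K_bot {M K U : Subgroup G} (hKU : IsSigmaDecomposition M K U)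
    (hK : K = ⊥) : sigmaA0 M K ⊆ sigmaA M U := by
  intro a ha
  refine ⟨ha.1, ?_⟩
  obtain ⟨u, hu, b, hb, hab⟩ := hKU.compl.2.2.2 a ha.1.1
  rw [hK, bot_sup_eq] at hb
  show a ∈ U ⊔ sigmaCore M
  rw [hab]
  exact Subgroup.mul_mem_sup hu hb

theorem conj_ne_one {g a : G} (ha1 : a ≠ 1) : g * a * g⁻¹ ≠ 1 :=
  fun h => ha1 (conj_eq_one_iff.mp h)

theorem orderOf_conj' (g a : G) : orderOf (g * a * g⁻¹) = orderOf a := by
  have h : g * a * g⁻¹ = MulAut.conj g a := rfl
  rw [h, MulEquiv.orderOf_eq]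

/-- (I) the Dade hypothesis for `B = sigmaA0 M K \ {1}`. -/
theorem dade_sigmaA0 (hG : IsMinSimpleOddOrder G) (rows : Rows G) {M K U : Subgroup G}
    (hM : IsCoatom M) (hKU : IsSigmaDecomposition M K U) :
    DadeHypothesis (sigmaA0 M K \ {1}) M (supportR M) := by
  obtain ⟨hinv2, hinv3, hord⟩ := Cfsg.Agent.Helper96.BG1537.ti_sets_facts hG rows hM hKU
  -- description of `R(a)` for `a ∈ B`
  have hR : ∀ a ∈ sigmaA0 M K \ {1},
      (centralizer ({a} : Set G) ≤ M ∧ supportR M a = ⊥) ∨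
      (¬ centralizer ({a} : Set G) ≤ M ∧ a ∈ sigmaCore M ∧ ∃ N : Subgroup G, IsCoatom N ∧
        centralizer ({a} : Set G) ≤ N ∧
        supportR M a = sigmaCore N ⊓ centralizer ({a} : Set G) ∧
        centralizer ({a} : Set G) ≤
          normalizer ((sigmaCore N ⊓ centralizer ({a} : Set G) : Subgroup G) : Set G) ∧
        IsComplIn (M ⊓ centralizer ({a} : Set G)) (sigmaCore N ⊓ centralizer ({a} : Set G))
          (centralizer ({a} : Set G))) := by
    intro a ha
    have ha1 : a ≠ 1 := fun h => ha.2 h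
    by_cases hC : centralizer ({a} : Set G) ≤ M
    · exact Or.inl ⟨hC, supportR_eq_bot_of_le hC⟩
    · right
      have haσ : a ∈ sigmaCore M := by
        by_contra hn
        exact hC (Cfsg.Agent.Helper90.BG1537.centralizer_le_of_not_mem hG rows hM hKU ha.1 ha1 hn)
      obtain ⟨N, hN, huniq, hσF, hnorm, hcompl, -, -⟩ := rows.r1375 M hM a haσ ha1 hC
      refine ⟨hC, haσ, N, hN.1, hN.2, ?_, hnorm, hcompl⟩
      rw [supportR_eq hC hN huniq, hσF]
  refine ⟨fun h => h.2 rfl, fun a ha => ha.1.1.1, ?_, ?_, ?_, ?_, ?_, ?_, ?_⟩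
  · -- conj_mem
    intro x hx a ha
    refine ⟨⟨Cfsg.Agent.Helper96.BG1537.conj_mem_sigmaHat hx ha.1.1, ?_⟩, ?_⟩
    · intro hcon
      apply ha.1.2
      obtain ⟨k, hk, hk1, m, hm, h⟩ := hcon
      exact (Cfsg.Agent.Helper96.BG1537.conjK_iff hx).mp ⟨k, hk, hk1, m, hm, h⟩
    · intro h
      exact ha.2 (conj_eq_one_iff.mp h)
  · -- fusion
    intro a ha g hg
    have ha1 : a ≠ 1 := fun h => ha.2 h
    have haM : a ∈ M := ha.1.1.1
    have hbM : g * a * g⁻¹ ∈ M := hg.1.1.1
    by_cases haσ : a ∈ sigmaCore M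
    · exact Cfsg.Agent.Helper96.BG1537.fusion_sigmaCore hG rows hM haσ ha1 g hbM
    · -- the conjugate is not in `M_σ` either
      have hbσ : g * a * g⁻¹ ∉ sigmaCore M := by
        intro hb
        have hb1 : g * a * g⁻¹ ≠ 1 := conj_ne_one ha1
        have hback : g⁻¹ * (g * a * g⁻¹) * g⁻¹⁻¹ = a := by group
        obtain ⟨m, hm, hmeq⟩ := Cfsg.Agent.Helper96.BG1537.fusion_sigmaCore hG rows hM hb hb1 g⁻¹
          (by rw [hback]; exact haM)
        apply haσ
        rw [← hback, ← hmeq]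
        exact Cfsg.Agent.Helper96.BG1537.conj_mem_sigmaCore hm hb
      have hordeq : orderOf (g * a * g⁻¹) = orderOf a := orderOf_conj' g a
      by_cases haA : a ∈ sigmaA M U
      · -- both in X₂
        have hbA : g * a * g⁻¹ ∈ sigmaA M U := by
          by_contra hbn
          exact hord a haA _ ⟨hg.1, hbn⟩ hordeq.symm
        have hgM : g ∈ M := Cfsg.Agent.Helper96.BG1537.mem_of_TI hG hM
          (X := sigmaA M U \ (sigmaCore M : Set G)) (fun x hx => hx.1.1.1) hinv2
          (rows.r1362 M hM K U hKU) ⟨haA, haσ⟩ ha1 g ⟨hbA, hbσ⟩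
        exact ⟨g, hgM, rfl⟩
      · -- both in X₃
        have hbA : g * a * g⁻¹ ∉ sigmaA M U := by
          intro hb
          exact hord _ hb a ⟨ha.1, haA⟩ hordeq
        have hK1 : K ≠ ⊥ := by
          intro hK
          exact haA (sigmaA0_subset_sigmaA_of_K_bot hKU hK ha.1)
        have hgM : g ∈ M := Cfsg.Agent.Helper96.BG1537.mem_of_TI hG hM
          (X := sigmaA0 M K \ sigmaA M U) (fun x hx => hx.1.1.1) hinv3
          (rows.r1371 M hM K U hKU hK1).2 ⟨ha.1, haA⟩ ha1 g ⟨hg.1, hbA⟩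
        exact ⟨g, hgM, rfl⟩
  · -- le_centralizer
    intro a ha
    rcases hR a ha with ⟨-, h⟩ | ⟨-, -, N, -, -, h, -, -⟩
    · rw [h]; exact bot_le
    · rw [h]; exact inf_le_right
  · -- conj_mem_H
    intro a ha c hc u hu
    rcases hR a ha with ⟨-, h⟩ | ⟨-, -, N, -, -, h, hnorm, -⟩
    · rw [h, Subgroup.mem_bot] at hu ⊢
      rw [hu]; group
    · rw [h] at hu ⊢
      exact ((Subgroup.mem_normalizer_iff.mp (hnorm hc)) u).mp hu
  · -- inf_eq_bot
    intro a ha
    rcases hR a ha with ⟨-, h⟩ | ⟨-, -, N, -, -, h, -, hcompl⟩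
    · rw [h, bot_inf_eq]
    · rw [h, inf_comm]
      exact hcompl.2.2.1
  · -- sup_eq
    intro a ha
    rcases hR a ha with ⟨hC, h⟩ | ⟨-, -, N, -, -, h, -, hcompl⟩
    · rw [h, bot_sup_eq]
      exact inf_eq_right.mpr hC
    · rw [h]
      apply le_antisymm
      · exact sup_le hcompl.2.1 hcompl.1
      · intro c hc
        obtain ⟨x, hx, y, hy, hxy⟩ := hcompl.2.2.2 c hc
        rw [hxy]
        -- x ∈ M ⊓ C(a), y ∈ R: need y' x' form; use normality
        have hxc : x ∈ centralizer ({a} : Set G) := hx.2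
        rw [sup_comm]
        exact Subgroup.mul_mem_sup hx hy
  · -- coprime
    intro a ha b hb
    rcases hR a ha with ⟨-, h⟩ | ⟨hC, haσ, N, hN, haN, h, -, -⟩
    · rw [h]
      simp
    · rw [h]
      exact Cfsg.Agent.Helper25.BG1537.coprime_support hG rows hM hKU haσ (fun h1 => ha.2 h1) hC
        hN haN hb.1 (fun h1 => hb.2 h1)

end Cfsg.Agent.Helper29.BG1537
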