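import Mathlib
import Cfsg.Prelude.Def_OddOrderLocal
import Cfsg.Prelude.Def_OddOrderChar
import Cfsg.Prelude.Def_OddOrder
import Cfsg.Agent.Lib.Helper11.BG1537Defs
import Cfsg.Agent.Lib.Helper29.BG1537I
import Cfsg.Agent.Lib.Helper25.BG1537P4
import Cfsg.Agent.Lib.Helper86.BG1537P5
import Cfsg.Agent.Lib.Helper96.BG1537P6
import Cfsg.Agent.Lib.Helper86.BG1537P7
import Cfsg.Agent.Lib.Helper55.BGFit
import Cfsg.Agent.Lib.Helper10.TypeIIa

/-!
# S1537, part (II) + assembly (backup by helper29): each of `typeA1 M`, `typeA M`, `typeA0 M` is an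
`M`-invariant subset of `sigmaA0 M K \ {1}` containing a non-identity element.
-/

set_option autoImplicit false
set_option linter.unusedSectionVars false
set_option linter.unusedVariables false

namespace Cfsg.Agent.Helper29.BG1537

open Subgroup Cfsg
open Cfsg.Agent.Helper11.BG1537 (Rows)

variable {G : Type*} [Group G] [Finite G]

/-- `M` normalizes its derived subgroup (elementwise form). -/
theorem conj_mem_commutator_self {M : Subgroup G} {m x : G} (hm : m ∈ M) (hx : x ∈ ⁅M, M⁆) :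
    m * x * m⁻¹ ∈ ⁅M, M⁆ := by
  have h1 : (⁅M, M⁆).map (MulAut.conj m).toMonoidHom = ⁅M, M⁆ := by
    rw [Subgroup.map_commutator]
    have h2 : M.map (MulAut.conj m).toMonoidHom = M := by
      ext y
      constructor
      · rintro ⟨z, hz, rfl⟩
        exact M.mul_mem (M.mul_mem hm hz) (M.inv_mem hm)
      · intro hy
        refine ⟨m⁻¹ * y * m, M.mul_mem (M.mul_mem (M.inv_mem hm) hy) hm, ?_⟩
        simp [MulAut.conj_apply]
        group
    rw [h2]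
  rw [← h1]
  exact ⟨x, hx, rfl⟩

theorem conj_mem_fittingHallOf {M : Subgroup G} {m x : G} (hm : m ∈ M)
    (hx : x ∈ fittingHallOf M) : m * x * m⁻¹ ∈ fittingHallOf M :=
  (Subgroup.mem_normalizer_iff.1 (Cfsg.Agent.Helper55.BGB.le_normalizer_fittingHallOf M hm) x).1 hx

/-- Main theorem of S1537, from the bundled rows. -/
theorem main (hG : IsMinSimpleOddOrder G) (rows : Rows G) {M : Subgroup G} (hM : IsCoatom M)
    (A : Set G) (hA : A = typeA1 M ∨ A = typeA M ∨ A = typeA0 M) :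
    normalizer A = M ∧ DadeHypothesis A M (supportR M) := by
  classical
  haveI : IsSimpleGroup G := hG.2.1
  obtain ⟨⟨K, hK⟩, hcyc⟩ := rows.r1351 M hM
  obtain ⟨⟨U, hKU⟩, -⟩ := rows.r1352 M hM K (hcyc K hK) hK
  have hB := dade_sigmaA0 hG rows hM hKU
  obtain ⟨hF1, hFσ, hσD, hDlt, -⟩ := rows.r1355 M hM
  have hDM : ⁅M, M⁆ ≤ M := hDlt.le
  -- elements of `M'` commuting with a non-identity element of `M_σ` lie in `B`
  have L1 : ∀ a ∈ ⁅M, M⁆, a ≠ 1 → (∃ y ∈ sigmaCore M, y ≠ 1 ∧ a * y = y * a) →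
      a ∈ sigmaA0 M K \ {1} := by
    intro a ha ha1 hy
    exact ⟨Cfsg.Agent.Helper86.BG1537.mem_sigmaA0_of_mem_commutator hG rows hM hKU ha
      ⟨hDM ha, hy⟩, ha1⟩
  -- the subgroup `M_s`
  have hcore_le : typeCore M ≤ sigmaCore M := by
    unfold typeCore
    split_ifs with h
    · rw [Cfsg.Agent.Helper25.BG1537.commutator_eq_sigmaCore_of_typeIII_IV hG rows hM hKU h]
    · exact hFσ
  have hcore_ne : typeCore M ≠ ⊥ := by
    unfold typeCore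
    split_ifs with h
    · intro hbot
      apply hF1
      rw [eq_bot_iff, ← hbot]
      exact hFσ.trans hσD
    · exact hF1
  have hcore_inv : ∀ m ∈ M, ∀ x ∈ typeCore M, m * x * m⁻¹ ∈ typeCore M := by
    unfold typeCore
    split_ifs with h
    · exact fun m hm x hx => conj_mem_commutator_self hm hx
    · exact fun m hm x hx => conj_mem_fittingHallOf hm hx
  have hcore_D : typeCore M ≤ ⁅M, M⁆ := hcore_le.trans hσD
  obtain ⟨x₀, hx₀, hx₀1⟩ := (Subgroup.ne_bot_iff_exists_ne_one.mp hcore_ne |> fun ⟨⟨x, hx⟩, h⟩ =>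
    (⟨x, hx, fun e => h (Subtype.ext e)⟩ : ∃ x, x ∈ typeCore M ∧ x ≠ 1))
  -- (1) `typeA1 M`
  have hA1sub : typeA1 M ⊆ sigmaA0 M K \ {1} := by
    intro a ha
    have ha1 : a ≠ 1 := fun h => ha.2 h
    exact L1 a (hcore_D ha.1) ha1 ⟨a, hcore_le ha.1, ha1, rfl⟩
  have hA1inv : ∀ m ∈ M, ∀ a ∈ typeA1 M, m * a * m⁻¹ ∈ typeA1 M := by
    intro m hm a ha
    exact ⟨hcore_inv m hm a ha.1, fun h => ha.2 (conj_eq_one_iff.mp h)⟩
  have hA1ne : ∃ s ∈ typeA1 M, s ≠ 1 := ⟨x₀, ⟨hx₀, hx₀1⟩, hx₀1⟩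
  -- (2) `typeA M`
  have hA2 : typeA M ⊆ sigmaA0 M K \ {1} ∧ (∀ m ∈ M, ∀ a ∈ typeA M, m * a * m⁻¹ ∈ typeA M) ∧
      ∃ s ∈ typeA M, s ≠ 1 := by
    unfold typeA
    split_ifs with hI
    · -- Type I
      have hKbot : K = ⊥ := Cfsg.Agent.Helper86.BG1537.K_eq_bot_of_typeI hG rows hM hKU hI
      obtain ⟨f₀, hf₀, hf₀1⟩ := (Subgroup.ne_bot_iff_exists_ne_one.mp hF1 |> fun ⟨⟨x, hx⟩, h⟩ =>
        (⟨x, hx, fun e => h (Subtype.ext e)⟩ : ∃ x, x ∈ fittingHallOf M ∧ x ≠ 1))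
      refine ⟨?_, ?_, ?_⟩
      · rintro a ⟨haM, ha1, x, hx, hx1, hax⟩
        refine ⟨⟨⟨haM, x, hFσ hx, hx1, hax⟩, ?_⟩, ha1⟩
        rintro ⟨k, hk, hk1, -⟩
        rw [hKbot, Subgroup.mem_bot] at hk
        exact hk1 hk
      · rintro m hm a ⟨haM, ha1, x, hx, hx1, hax⟩
        refine ⟨M.mul_mem (M.mul_mem hm haM) (M.inv_mem hm), fun h => ha1 (conj_eq_one_iff.mp h),
          m * x * m⁻¹, conj_mem_fittingHallOf hm hx, fun h => hx1 (conj_eq_one_iff.mp h), ?_⟩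
        have e1 : m * a * m⁻¹ * (m * x * m⁻¹) = m * (a * x) * m⁻¹ := by group
        rw [e1, hax]
        group
      · exact ⟨f₀, ⟨Cfsg.Agent.Helper55.BGB.fittingHallOf_le M hf₀, hf₀1, f₀, hf₀, hf₀1, rfl⟩, hf₀1⟩
    · refine ⟨?_, ?_, ?_⟩
      · rintro a ⟨haD, ha1, x, hx, hx1, hax⟩
        exact L1 a haD ha1 ⟨x, hcore_le hx, hx1, hax⟩
      · rintro m hm a ⟨haD, ha1, x, hx, hx1, hax⟩
        refine ⟨conj_mem_commutator_self hm haD, fun h => ha1 (conj_eq_one_iff.mp h),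
          m * x * m⁻¹, hcore_inv m hm x hx, fun h => hx1 (conj_eq_one_iff.mp h), ?_⟩
        have e1 : m * a * m⁻¹ * (m * x * m⁻¹) = m * (a * x) * m⁻¹ := by group
        rw [e1, hax]
        group
      · exact ⟨x₀, ⟨hcore_D hx₀, hx₀1, x₀, hx₀, hx₀1, rfl⟩, hx₀1⟩
  obtain ⟨hA2sub, hA2inv, hA2ne⟩ := hA2
  -- (3) `typeA0 M`
  have hA3sub : typeA0 M ⊆ sigmaA0 M K \ {1} := by
    rintro a (ha | ⟨-, W₁, U', W₂, hP, m, hm, w, hw, hw1, hw2, rfl⟩)
    · exact hA2sub ha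
    · obtain ⟨h1, h2⟩ := Cfsg.Agent.Helper96.BG1537.typeP_elt_mem hG rows hM hKU hP hw hw1 hw2
      exact hB.conj_mem m hm w ⟨h1, h2⟩
  have hA3inv : ∀ m ∈ M, ∀ a ∈ typeA0 M, m * a * m⁻¹ ∈ typeA0 M := by
    rintro m hm a (ha | ⟨hnI, W₁, U', W₂, hP, m', hm', w, hw, hw1, hw2, rfl⟩)
    · exact Or.inl (hA2inv m hm a ha)
    · exact Or.inr ⟨hnI, W₁, U', W₂, hP, m * m', M.mul_mem hm hm', w, hw, hw1, hw2, by group⟩
  have hA3ne : ∃ s ∈ typeA0 M, s ≠ 1 := by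
    obtain ⟨s, hs, hs1⟩ := hA2ne
    exact ⟨s, Or.inl hs, hs1⟩
  -- conclusion
  have fin : ∀ A : Set G, A ⊆ sigmaA0 M K \ {1} → (∀ m ∈ M, ∀ a ∈ A, m * a * m⁻¹ ∈ A) →
      (∃ s ∈ A, s ≠ 1) → normalizer A = M ∧ DadeHypothesis A M (supportR M) := by
    intro A hsub hinv hne
    exact ⟨Cfsg.Agent.Helper10.TypeII.normalizer_set_eq hM (fun a ha => hB.subset (hsub ha)) hne hinv,
      dade_subset hB hsub hinv⟩
  rcases hA with rfl | rfl | rfl
  · exact fin _ hA1sub hA1inv hA1ne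
  · exact fin _ hA2sub hA2inv hA2ne
  · exact fin _ hA3sub hA3inv hA3ne

end Cfsg.Agent.Helper29.BG1537
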