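import Mathlib
import Cfsg.Agent.Lib.Helper29.PGroupNorm

set_option autoImplicit false

/-!
# Groups in which the centralizer of every non-central element is maximal ("CM-groups")
-/

namespace Cfsg.Agent.Helper29.CM

open Subgroup
open scoped commutatorElement
open scoped Pointwise

variable {G : Type*} [Group G]

/-- centralizer of a single element -/
abbrev C (x : G) : Subgroup G := centralizer ({x} : Set G)

theorem mem_C {x g : G} : g ∈ C x ↔ g * x = x * g := mem_centralizer_singleton_iff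

/-- The CM hypothesis. -/
def Hyp (G : Type*) [Group G] : Prop :=
  ∀ x : G, x ∉ center G → IsCoatom (C x)

theorem self_mem_C (x : G) : x ∈ C x := mem_C.mpr rfl

theorem center_le_C (x : G) : center G ≤ C x := by
  intro z hz
  rw [mem_C]
  exact (mem_center_iff.mp hz x).symm

theorem pow_C_le (x : G) (n : ℕ) : C x ≤ C (x ^ n) := by
  intro g hg
  rw [mem_C] at hg ⊢
  exact ((Commute.pow_right (show Commute g x from hg) n)).eq

theorem C_eq_of_le (h : Hyp G) {x y : G} (hx : x ∉ center G) (hy : y ∉ center G)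
    (hle : C x ≤ C y) : C x = C y := by
  rcases (h x hx).le_iff.mp hle with h1 | h1
  · exact absurd h1 (h y hy).1
  · exact h1.symm

theorem mem_C_conj {x g k : G} : k ∈ C (g * x * g⁻¹) ↔ g⁻¹ * k * g ∈ C x := by
  rw [mem_C, mem_C]
  constructor
  · intro h
    calc g⁻¹ * k * g * x = g⁻¹ * (k * (g * x * g⁻¹)) * g := by group
      _ = g⁻¹ * ((g * x * g⁻¹) * k) * g := by rw [h]
      _ = x * (g⁻¹ * k * g) := by group
  · intro h
    calc k * (g * x * g⁻¹) = g * ((g⁻¹ * k * g) * x) * g⁻¹ := by group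
      _ = g * (x * (g⁻¹ * k * g)) * g⁻¹ := by rw [h]
      _ = g * x * g⁻¹ * k := by group

theorem conj_not_mem_center {x : G} (hx : x ∉ center G) (g : G) : g * x * g⁻¹ ∉ center G := by
  intro h
  apply hx
  have h1 : x = g⁻¹ * (g * x * g⁻¹) * g := by group
  rw [h1]
  exact (center G).normal_of_characteristic.conj_mem' _ h g |> fun t => by simpa [mul_assoc] using t

/-- Key pair lemma, power form. -/
theorem pair_pow (h : Hyp G) {x y : G} (hx : x ∉ center G) (hy : y ∉ center G)
    (hxy : x * y = y * x) (hne : C x ≠ C y) (n : ℕ) (hn : x ^ n ∈ center G) :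
    y ^ n ∈ center G := by
  by_contra hyn
  have h1 : C y = C (y ^ n) := C_eq_of_le h hy hyn (pow_C_le y n)
  have hpow : (x * y) ^ n = x ^ n * y ^ n := (show Commute x y from hxy).mul_pow n
  -- x * y is not central
  have hxyZ : x * y ∉ center G := by
    intro hz
    apply hne
    apply C_eq_of_le h hx hy
    intro g hg
    rw [mem_C] at hg ⊢
    have hgz : g * (x * y) = (x * y) * g := (mem_center_iff.mp hz g)
    have hy' : y = x⁻¹ * (x * y) := by group
    have hgx' : g * x⁻¹ = x⁻¹ * g := by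
      have : Commute g x := hg
      exact this.inv_right.eq
    calc g * y = g * (x⁻¹ * (x * y)) := by rw [← hy']
      _ = (g * x⁻¹) * (x * y) := by group
      _ = x⁻¹ * (g * (x * y)) := by rw [hgx']; group
      _ = x⁻¹ * ((x * y) * g) := by rw [hgz]
      _ = y * g := by group
  have hxynZ : (x * y) ^ n ∉ center G := by
    intro hz
    apply hyn
    rw [hpow] at hz
    have : y ^ n = (x ^ n)⁻¹ * (x ^ n * y ^ n) := by group
    rw [this]
    exact mul_mem (inv_mem hn) hz
  have h2 : C (x * y) = C ((x * y) ^ n) := C_eq_of_le h hxyZ hxynZ (pow_C_le _ n)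
  -- C (x*y) ≤ C y
  have h3 : C (x * y) ≤ C y := by
    intro g hg
    rw [h2, hpow] at hg
    rw [h1]
    rw [mem_C] at hg ⊢
    have hgz : g * x ^ n = x ^ n * g := (mem_center_iff.mp hn g)
    have : x ^ n * (g * y ^ n) = x ^ n * (y ^ n * g) := by
      calc x ^ n * (g * y ^ n) = (g * x ^ n) * y ^ n := by rw [hgz]; group
        _ = g * (x ^ n * y ^ n) := by group
        _ = x ^ n * y ^ n * g := hg
        _ = x ^ n * (y ^ n * g) := by group
    exact mul_left_cancel this
  have h4 : C (x * y) = C y := C_eq_of_le h hxyZ hy h3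
  apply hne
  symm
  apply C_eq_of_le h hy hx
  intro g hg
  have hg2 : g ∈ C (x * y) := h4 ▸ hg
  rw [mem_C] at hg hg2 ⊢
  have : (g * x) * y = (x * g) * y := by
    calc (g * x) * y = g * (x * y) := by group
      _ = x * y * g := hg2
      _ = x * (y * g) := by group
      _ = x * (g * y) := by rw [hg]
      _ = (x * g) * y := by group
  exact mul_right_cancel this

/-- Key pair lemma: commuting non-central elements with different centralizers have the same
prime order modulo the centre. -/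
theorem pair_prime [Finite G] (h : Hyp G) {x y : G} (hx : x ∉ center G) (hy : y ∉ center G)
    (hxy : x * y = y * x) (hne : C x ≠ C y) :
    ∃ p : ℕ, p.Prime ∧ x ^ p ∈ center G ∧ y ^ p ∈ center G := by
  classical
  have hex : ∃ n : ℕ, 0 < n ∧ x ^ n ∈ center G :=
    ⟨orderOf x, orderOf_pos x, by rw [pow_orderOf_eq_one]; exact one_mem _⟩
  obtain ⟨o, ho⟩ : ∃ o, o = Nat.find hex := ⟨_, rfl⟩
  have hopos : 0 < o := ho ▸ (Nat.find_spec hex).1
  have hoZ : x ^ o ∈ center G := ho ▸ (Nat.find_spec hex).2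
  have homin : ∀ m, 0 < m → m < o → x ^ m ∉ center G := by
    intro m hm hlt hmZ
    have := Nat.find_min hex (ho ▸ hlt)
    exact this ⟨hm, hmZ⟩
  have ho1 : o ≠ 1 := by
    intro h1
    rw [h1, pow_one] at hoZ
    exact hx hoZ
  obtain ⟨p, hp, hpo⟩ := Nat.exists_prime_and_dvd ho1
  obtain ⟨m, hm⟩ := hpo
  have hmpos : 0 < m := by
    rcases Nat.eq_zero_or_pos m with h0 | h0
    · rw [h0, mul_zero] at hm
      omega
    · exact h0
  have hmlt : m < o := by
    rw [hm]
    have := hp.two_le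
    nlinarith
  have hx1 : x ^ m ∉ center G := homin m hmpos hmlt
  have hx1p : (x ^ m) ^ p ∈ center G := by
    rw [← pow_mul, mul_comm, ← hm]
    exact hoZ
  have hC1 : C x = C (x ^ m) := C_eq_of_le h hx hx1 (pow_C_le x m)
  have hne1 : C (x ^ m) ≠ C y := hC1 ▸ hne
  have hcomm1 : x ^ m * y = y * x ^ m := ((show Commute x y from hxy).pow_left m).eq
  have hyp : y ^ p ∈ center G := pair_pow h hx1 hy hcomm1 hne1 p hx1p
  have hxp : x ^ p ∈ center G := pair_pow h hy hx hxy.symm hne.symm p hyp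
  exact ⟨p, hp, hxp, hyp⟩

theorem prime_unique {x : G} (hx : x ∉ center G) {p q : ℕ} (hp : p.Prime) (hq : q.Prime)
    (hxp : x ^ p ∈ center G) (hxq : x ^ q ∈ center G) : p = q := by
  by_contra hpq
  apply hx
  have hcop : Nat.Coprime p q := (Nat.coprime_primes hp hq).mpr hpq
  have h1 := Nat.gcd_eq_gcd_ab p q
  rw [hcop.gcd_eq_one] at h1
  have h2 : x = (x ^ p) ^ (Nat.gcdA p q) * (x ^ q) ^ (Nat.gcdB p q) := by
    rw [← zpow_natCast x p, ← zpow_natCast x q, ← zpow_mul, ← zpow_mul, ← zpow_add, ← h1]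
    simp
  rw [h2]
  exact mul_mem (zpow_mem hxp _) (zpow_mem hxq _)

/-- A non-abelian centralizer has exponent `p` modulo the centre. -/
theorem exp_of_nonabelian [Finite G] (h : Hyp G) {x : G} (hx : x ∉ center G)
    (hna : ∃ a ∈ C x, ∃ b ∈ C x, a * b ≠ b * a) :
    ∃ p : ℕ, p.Prime ∧ ∀ m ∈ C x, m ^ p ∈ center G := by
  obtain ⟨a, ha, b, hb, hab⟩ := hna
  have haZ : a ∉ center G := fun hz => hab (mem_center_iff.mp hz b).symm
  have hCa : C x ≠ C a := by
    intro hC
    have : b ∈ C a := hC ▸ hb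
    rw [mem_C] at this
    exact hab this.symm
  have hxa : x * a = a * x := (mem_C.mp ha).symm
  obtain ⟨p, hp, hxp, hap⟩ := pair_prime h hx haZ hxa hCa
  refine ⟨p, hp, ?_⟩
  intro m hm
  by_cases hmZ : m ∈ center G
  · exact pow_mem hmZ p
  by_cases hC : C m = C x
  · have hCma : C m ≠ C a := hC ▸ hCa
    have hma : m * a = a * m := by
      have : a ∈ C m := hC ▸ ha
      exact (mem_C.mp this).symm
    obtain ⟨q, hq, hmq, haq⟩ := pair_prime h hmZ haZ hma hCma
    have := prime_unique haZ hp hq hap haq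
    rw [this]
    exact hmq
  · have hxm : x * m = m * x := (mem_C.mp hm).symm
    obtain ⟨q, hq, hxq, hmq⟩ := pair_prime h hx hmZ hxm (Ne.symm hC)
    have := prime_unique hx hp hq hxp hxq
    rw [this]
    exact hmq

/-- normalizers grow in nilpotent subgroups (subgroup form inside an ambient group) -/
theorem exists_mem_normalizer_not_mem_of_lt_nilpotent {P S : Subgroup G}
    (hnil : Group.IsNilpotent ↥S) (hlt : P < S) :
    ∃ g ∈ S, g ∉ P ∧ g ∈ Subgroup.normalizer (P : Set G) := by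
  have hnc : NormalizerCondition ↥S := Group.normalizerCondition_of_isNilpotent
  have hlt' : P.subgroupOf S < ⊤ := by
    rw [lt_top_iff_ne_top]
    intro h
    rw [Subgroup.subgroupOf_eq_top] at h
    exact absurd (le_antisymm hlt.le h) hlt.ne
  obtain ⟨_, hnot⟩ := hnc _ hlt'
  obtain ⟨g, hgN, hgP⟩ := Set.not_subset.mp hnot
  refine ⟨g, g.2, fun h => hgP (Subgroup.mem_subgroupOf.mpr h), ?_⟩
  rw [Subgroup.mem_normalizer_iff]
  have hN := Subgroup.mem_normalizer_iff.mp hgN
  intro h
  constructor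
  · intro hh
    have hhS : h ∈ S := hlt.le hh
    have := (hN ⟨h, hhS⟩).mp (Subgroup.mem_subgroupOf.mpr hh)
    exact Subgroup.mem_subgroupOf.mp this
  · intro hh
    have hghS : (g : G) * h * (g : G)⁻¹ ∈ S := hlt.le hh
    have hhS : h ∈ S := by
      have : h = (g : G)⁻¹ * ((g : G) * h * (g : G)⁻¹) * (g : G) := by group
      rw [this]
      exact S.mul_mem (S.mul_mem (S.inv_mem g.2) hghS) g.2
    have := (hN ⟨h, hhS⟩).mpr (Subgroup.mem_subgroupOf.mpr hh)
    exact Subgroup.mem_subgroupOf.mp this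

/-- In a nilpotent group with proper centre there is an element of the second centre outside
the centre. -/
theorem exists_ucs_two {H : Type*} [Group H] [hnil : Group.IsNilpotent H]
    (hne : center H ≠ ⊤) :
    ∃ y : H, y ∉ center H ∧ ∀ m : H, ⁅y, m⁆ ∈ center H := by
  by_contra hcon
  push Not at hcon
  have h21 : ∀ n : ℕ, Subgroup.upperCentralSeries H (n + 1) = center H := by
    intro n
    induction n with
    | zero => exact Subgroup.upperCentralSeries_one H
    | succ n ih =>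
      apply le_antisymm
      · intro y hy
        by_contra hyc
        obtain ⟨m, hm⟩ := hcon y hyc
        apply hm
        have := Subgroup.mem_upperCentralSeries_succ_iff.mp hy m
        rwa [ih] at this
      · rw [← ih]
        exact Subgroup.upperCentralSeries_mono H (Nat.le_succ _)
  obtain ⟨n, hn⟩ := hnil.nilpotent'
  rcases n with _ | n
  · rw [Subgroup.upperCentralSeries_zero] at hn
    apply hne
    rw [eq_top_iff, ← hn]
    exact bot_le
  · rw [h21 n] at hn
    exact hne hn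

/-- The quotient map by the centre. -/
abbrev piZ (G : Type*) [Group G] : G →* G ⧸ center G := QuotientGroup.mk' (center G)

theorem piZ_eq_one_iff {g : G} : piZ G g = 1 ↔ g ∈ center G := by
  rw [QuotientGroup.mk'_apply, QuotientGroup.eq_one_iff]

theorem comap_map_C (x : G) : ((C x).map (piZ G)).comap (piZ G) = C x := by
  rw [Subgroup.comap_map_eq, QuotientGroup.ker_mk', sup_eq_left]
  exact center_le_C x

theorem mem_map_piZ_iff (x g : G) : piZ G g ∈ (C x).map (piZ G) ↔ g ∈ C x := by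
  rw [← Subgroup.mem_comap, comap_map_C]

theorem isPGroup_map [Finite G] {x : G} {p : ℕ}
    (hexp : ∀ m ∈ C x, m ^ p ∈ center G) : IsPGroup p ↥((C x).map (piZ G)) := by
  rintro ⟨u, m, hm, rfl⟩
  refine ⟨1, ?_⟩
  apply Subtype.ext
  rw [pow_one]
  show (piZ G m) ^ p = 1
  rw [← map_pow, piZ_eq_one_iff]
  exact hexp m hm

theorem isNilpotent_C [Finite G] (h : Hyp G) {x : G} (hx : x ∉ center G)
    (hna : ∃ a ∈ C x, ∃ b ∈ C x, a * b ≠ b * a) : Group.IsNilpotent ↥(C x) := by
  obtain ⟨p, hp, hexp⟩ := exp_of_nonabelian h hx hna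
  have : Fact p.Prime := ⟨hp⟩
  have hP : IsPGroup p ↥((C x).map (piZ G)) := isPGroup_map hexp
  have : Group.IsNilpotent ↥((C x).map (piZ G)) := hP.isNilpotent
  apply Subgroup.isNilpotent_of_ker_le_center ((piZ G).subgroupMap (C x))
  intro m hm
  rw [MonoidHom.mem_ker] at hm
  have h1 : piZ G (m : G) = 1 := congrArg Subtype.val hm
  rw [piZ_eq_one_iff] at h1
  rw [Subgroup.mem_center_iff]
  intro g
  apply Subtype.ext
  exact mem_center_iff.mp h1 (g : G)

theorem nonabelian_C_of_mem (h : Hyp G) {x y : G} (hx : x ∉ center G) (hy : y ∉ center G)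
    (hyx : y ∈ C x) (hne : C y ≠ C x) : ∃ a ∈ C y, ∃ b ∈ C y, a * b ≠ b * a := by
  by_contra hcon
  push Not at hcon
  apply hne
  apply C_eq_of_le h hy hx
  intro g hg
  have hxy : x ∈ C y := by
    rw [mem_C] at hyx ⊢
    exact hyx.symm
  rw [mem_C]
  exact hcon g hg x hxy

theorem mem_conj_smul' {K : Type*} [Group K] (H : Subgroup K) (g x : K) :
    x ∈ MulAut.conj g • H ↔ g⁻¹ * x * g ∈ H := by
  rw [Subgroup.mem_pointwise_smul_iff_inv_smul_mem, MulAut.smul_def, ← map_inv,
    MulAut.conj_apply, inv_inv]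

/-- If `C x` is non-abelian and not normal, then every non-central `y ∈ C x` has centralizer
conjugate to `C x`. -/
theorem exists_conj [Finite G] (h : Hyp G) {x : G} (hx : x ∉ center G)
    (hna : ∃ a ∈ C x, ∃ b ∈ C x, a * b ≠ b * a) (hnn : ¬ (C x).Normal)
    {y : G} (hy : y ∈ C x) (hyZ : y ∉ center G) : ∃ g : G, C y = C (g * x * g⁻¹) := by
  by_cases hC : C y = C x
  · exact ⟨1, by simpa using hC⟩
  have hnaL := nonabelian_C_of_mem h hx hyZ hy hC
  obtain ⟨p, hp, hexpM⟩ := exp_of_nonabelian h hx hna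
  obtain ⟨q, hq, hexpL⟩ := exp_of_nonabelian h hyZ hnaL
  have hpq : p = q := prime_unique hyZ hp hq (hexpM y hy) (hexpL y (self_mem_C y))
  subst hpq
  have : Fact p.Prime := ⟨hp⟩
  have hPM : IsPGroup p ↥((C x).map (piZ G)) := isPGroup_map hexpM
  have hPL : IsPGroup p ↥((C y).map (piZ G)) := isPGroup_map hexpL
  obtain ⟨P, hMP⟩ := hPM.exists_le_sylow
  obtain ⟨Q, hLQ⟩ := hPL.exists_le_sylow
  have hcomapP : (P : Subgroup (G ⧸ center G)).comap (piZ G) = C x := by
    have hle : C x ≤ (P : Subgroup (G ⧸ center G)).comap (piZ G) := by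
      intro m hm
      rw [Subgroup.mem_comap]
      exact hMP (Subgroup.mem_map_of_mem _ hm)
    rcases (h x hx).le_iff.mp hle with h1 | h1
    · exfalso
      have hPtop : (P : Subgroup (G ⧸ center G)) = ⊤ := by
        rw [eq_top_iff]
        intro u _
        obtain ⟨g, rfl⟩ := QuotientGroup.mk'_surjective (center G) u
        have : g ∈ (P : Subgroup (G ⧸ center G)).comap (piZ G) := h1 ▸ Subgroup.mem_top g
        exact this
      have hlt : (C x).map (piZ G) < (P : Subgroup (G ⧸ center G)) := by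
        refine lt_of_le_of_ne hMP ?_
        intro heq
        apply (h x hx).1
        rw [← comap_map_C x, heq, hPtop, Subgroup.comap_top]
      obtain ⟨u, huP, huM, huN⟩ :=
        Cfsg.Agent.Helper29.exists_mem_normalizer_not_mem_of_lt P.isPGroup' hlt
      obtain ⟨g, rfl⟩ := QuotientGroup.mk'_surjective (center G) u
      have hgM : g ∉ C x := fun hg => huM ((mem_map_piZ_iff x g).mpr hg)
      have hgN : g ∈ normalizer (C x : Set G) := by
        rw [Subgroup.mem_normalizer_iff]
        intro m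
        rw [← mem_map_piZ_iff x m, ← mem_map_piZ_iff x (g * m * g⁻¹)]
        have := (Subgroup.mem_normalizer_iff.mp huN) (piZ G m)
        simpa using this
      apply hnn
      have hNtop : normalizer (C x : Set G) = ⊤ := by
        have hle2 : C x ≤ normalizer (C x : Set G) := Subgroup.le_normalizer
        rcases (h x hx).le_iff.mp hle2 with h2 | h2
        · exact h2
        · exfalso
          exact hgM (h2 ▸ hgN)
      exact Subgroup.normalizer_eq_top_iff.mp hNtop
    · exact h1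
  have hPeq : (P : Subgroup (G ⧸ center G)) = (C x).map (piZ G) := by
    rw [← hcomapP, Subgroup.map_comap_eq_self_of_surjective (QuotientGroup.mk'_surjective _)]
  obtain ⟨u, hu⟩ := MulAction.exists_smul_eq (G ⧸ center G) P Q
  obtain ⟨g, rfl⟩ := QuotientGroup.mk'_surjective (center G) u
  refine ⟨g, ?_⟩
  apply C_eq_of_le h hyZ (conj_not_mem_center hx g)
  intro l hl
  rw [mem_C_conj]
  have h1 : piZ G l ∈ (Q : Subgroup (G ⧸ center G)) := hLQ (Subgroup.mem_map_of_mem _ hl)
  rw [← hu, Sylow.coe_subgroup_smul, mem_conj_smul', hPeq] at h1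
  rw [← mem_map_piZ_iff x]
  simpa using h1

/-- A non-normal centralizer of a non-central element is abelian. -/
theorem abelian_of_not_normal [Finite G] (h : Hyp G) {x : G} (hx : x ∉ center G)
    (hnn : ¬ (C x).Normal) : ∀ a ∈ C x, ∀ b ∈ C x, a * b = b * a := by
  by_contra hcon
  push Not at hcon
  have hna := hcon
  obtain ⟨a, ha, b, hb, hab⟩ := hcon
  have hnilM : Group.IsNilpotent ↥(C x) := isNilpotent_C h hx hna
  have hcne : center ↥(C x) ≠ ⊤ := by
    intro htop
    have h1 : (⟨a, ha⟩ : ↥(C x)) ∈ center ↥(C x) := htop ▸ Subgroup.mem_top _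
    have h2 := Subgroup.mem_center_iff.mp h1 ⟨b, hb⟩
    exact hab (congrArg Subtype.val h2).symm
  obtain ⟨⟨y, hyM⟩, hy'c, hy'⟩ := exists_ucs_two hcne
  have hyZ : y ∉ center G := by
    intro hz
    apply hy'c
    rw [Subgroup.mem_center_iff]
    intro g
    apply Subtype.ext
    exact mem_center_iff.mp hz (g : G)
  have hCy : C y ≠ C x := by
    intro hC
    apply hy'c
    rw [Subgroup.mem_center_iff]
    intro g
    apply Subtype.ext
    have : (g : G) ∈ C y := by
      rw [hC]
      exact g.2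
    exact mem_C.mp this
  -- commutators with y are central in C x
  have hcomm : ∀ m ∈ C x, ∃ c ∈ C x, (∀ t ∈ C x, c * t = t * c) ∧ y * m = c * m * y := by
    intro m hm
    have h1 := hy' ⟨m, hm⟩
    refine ⟨y * m * y⁻¹ * m⁻¹, ?_, ?_, by group⟩
    · exact mul_mem (mul_mem (mul_mem hyM hm) (inv_mem hyM)) (inv_mem hm)
    · intro t ht
      have h2 := Subgroup.mem_center_iff.mp h1 ⟨t, ht⟩
      have h3 := congrArg Subtype.val h2
      simp only [commutatorElement_def, Subgroup.coe_mul, Subgroup.coe_inv] at h3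
      exact h3.symm
  obtain ⟨D, hD⟩ : ∃ D : Subgroup G, D = C x ⊓ C y := ⟨_, rfl⟩
  have hDM : D ≤ C x := hD ▸ inf_le_left
  have hDL : D ≤ C y := hD ▸ inf_le_right
  have hconjD : ∀ m ∈ C x, ∀ d ∈ D, m * d * m⁻¹ ∈ D := by
    intro m hm d hd
    have hdM := hDM hd
    have hdy : d * y = y * d := mem_C.mp (hDL hd)
    obtain ⟨c, hcM, hct, e1⟩ := hcomm m hm
    have hwM : m * d * m⁻¹ ∈ C x := mul_mem (mul_mem hm hdM) (inv_mem hm)
    rw [hD]
    refine Subgroup.mem_inf.mpr ⟨hwM, ?_⟩
    rw [mem_C]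
    have e2 : y * m⁻¹ = m⁻¹ * c⁻¹ * y := by
      have : y = c * m * y * m⁻¹ := by rw [← e1]; group
      calc y * m⁻¹ = m⁻¹ * c⁻¹ * (c * m * y * m⁻¹) := by group
        _ = m⁻¹ * c⁻¹ * y := by rw [← this]
    have hcw : c * (m * d * m⁻¹) = (m * d * m⁻¹) * c := hct _ hwM
    symm
    calc y * (m * d * m⁻¹) = (y * m) * d * m⁻¹ := by group
      _ = c * m * y * d * m⁻¹ := by rw [e1]
      _ = c * m * (y * d) * m⁻¹ := by group
      _ = c * m * (d * y) * m⁻¹ := by rw [hdy]
      _ = c * m * d * (y * m⁻¹) := by group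
      _ = c * m * d * (m⁻¹ * c⁻¹ * y) := by rw [e2]
      _ = (c * (m * d * m⁻¹)) * c⁻¹ * y := by group
      _ = ((m * d * m⁻¹) * c) * c⁻¹ * y := by rw [hcw]
      _ = m * d * m⁻¹ * y := by group
  have hMN : C x ≤ normalizer (D : Set G) := by
    intro m hm
    rw [Subgroup.mem_normalizer_iff]
    intro d
    constructor
    · exact hconjD m hm d
    · intro hd
      have := hconjD m⁻¹ (inv_mem hm) _ hd
      have e : m⁻¹ * (m * d * m⁻¹) * m⁻¹⁻¹ = d := by group
      rwa [e] at this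
  have hDlt : D < C y := by
    refine lt_of_le_of_ne hDL ?_
    intro heq
    apply hCy
    apply C_eq_of_le h hyZ hx
    rw [← heq]
    exact hDM
  have hnilL : Group.IsNilpotent ↥(C y) :=
    isNilpotent_C h hyZ (nonabelian_C_of_mem h hx hyZ hyM hCy)
  obtain ⟨l, hlL, hlD, hlN⟩ := exists_mem_normalizer_not_mem_of_lt_nilpotent hnilL hDlt
  have hlM : l ∉ C x := fun hl => hlD (hD ▸ Subgroup.mem_inf.mpr ⟨hl, hlL⟩)
  have hNtop : normalizer (D : Set G) = ⊤ := by
    rcases (h x hx).le_iff.mp hMN with h2 | h2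
    · exact h2
    · exfalso
      exact hlM (h2 ▸ hlN)
  have hxD : x ∈ D := by
    rw [hD]
    refine Subgroup.mem_inf.mpr ⟨self_mem_C x, ?_⟩
    rw [mem_C]
    exact (mem_C.mp hyM).symm
  have hconj : ∀ g : G, x * (g * x * g⁻¹) = (g * x * g⁻¹) * x := by
    intro g
    have hg : g ∈ normalizer (D : Set G) := hNtop ▸ Subgroup.mem_top g
    have h1 : g * x * g⁻¹ ∈ D := (Subgroup.mem_normalizer_iff.mp hg x).mp hxD
    exact (mem_C.mp (hDM h1)).symm
  have hconj2 : ∀ g₁ g₂ : G,
      (g₁ * x * g₁⁻¹) * (g₂ * x * g₂⁻¹) = (g₂ * x * g₂⁻¹) * (g₁ * x * g₁⁻¹) := by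
    intro g₁ g₂
    have h1 := hconj (g₁⁻¹ * g₂)
    calc (g₁ * x * g₁⁻¹) * (g₂ * x * g₂⁻¹)
        = g₁ * (x * ((g₁⁻¹ * g₂) * x * (g₁⁻¹ * g₂)⁻¹)) * g₁⁻¹ := by group
      _ = g₁ * (((g₁⁻¹ * g₂) * x * (g₁⁻¹ * g₂)⁻¹) * x) * g₁⁻¹ := by rw [h1]
      _ = (g₂ * x * g₂⁻¹) * (g₁ * x * g₁⁻¹) := by group
  have haZ : a ∉ center G := fun hz => hab (mem_center_iff.mp hz b).symm
  have hbZ : b ∉ center G := fun hz => hab (mem_center_iff.mp hz a)
  obtain ⟨g₁, h1⟩ := exists_conj h hx hna hnn ha haZ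
  obtain ⟨g₂, h2⟩ := exists_conj h hx hna hnn hb hbZ
  have h3 : g₁ * x * g₁⁻¹ ∈ C b := by
    rw [h2, mem_C]
    exact hconj2 g₁ g₂
  have h4 : b ∈ C a := by
    rw [h1, mem_C]
    exact (mem_C.mp h3).symm
  exact hab (mem_C.mp h4).symm

/-! ### The case where all centralizers are normal -/

theorem mul_pow_of_central {x g c : G} (hc : c ∈ center G) (e : x * g = c * g * x) (n : ℕ) :
    x * g ^ n = c ^ n * g ^ n * x := by
  have hcomm : ∀ t : G, t * c = c * t := fun t => mem_center_iff.mp hc t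
  induction n with
  | zero => simp
  | succ n ih =>
    calc x * g ^ (n + 1) = (x * g ^ n) * g := by rw [pow_succ]; group
      _ = (c ^ n * g ^ n * x) * g := by rw [ih]
      _ = c ^ n * g ^ n * (x * g) := by group
      _ = c ^ n * g ^ n * (c * g * x) := by rw [e]
      _ = c ^ n * (g ^ n * c) * g * x := by group
      _ = c ^ n * (c * g ^ n) * g * x := by rw [hcomm (g ^ n)]
      _ = c ^ (n + 1) * g ^ (n + 1) * x := by rw [pow_succ, pow_succ]; group

theorem pow_mul_of_central {x g c : G} (hc : c ∈ center G) (e : x * g = c * g * x) (n : ℕ) :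
    x ^ n * g = c ^ n * g * x ^ n := by
  have hcomm : ∀ t : G, t * c = c * t := fun t => mem_center_iff.mp hc t
  induction n with
  | zero => simp
  | succ n ih =>
    calc x ^ (n + 1) * g = x ^ n * (x * g) := by rw [pow_succ]; group
      _ = x ^ n * (c * g * x) := by rw [e]
      _ = (x ^ n * c) * g * x := by group
      _ = (c * x ^ n) * g * x := by rw [hcomm (x ^ n)]
      _ = c * (x ^ n * g) * x := by group
      _ = c * (c ^ n * g * x ^ n) * x := by rw [ih]
      _ = c ^ (n + 1) * g * x ^ (n + 1) := by rw [pow_succ, pow_succ]; group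

/-- commutators lie in every normal maximal subgroup -/
theorem commutator_mem_of_normal_coatom {N : Subgroup G} (hN : N.Normal) (hco : IsCoatom N)
    (a b : G) : a * b * a⁻¹ * b⁻¹ ∈ N := by
  by_cases ha : a ∈ N
  · have h1 : b * a⁻¹ * b⁻¹ ∈ N := hN.conj_mem _ (inv_mem ha) b
    have : a * b * a⁻¹ * b⁻¹ = a * (b * a⁻¹ * b⁻¹) := by group
    rw [this]
    exact mul_mem ha h1
  · have hsup : N ⊔ zpowers a = ⊤ := by
      rcases hco.le_iff.mp (le_sup_left : N ≤ N ⊔ zpowers a) with h1 | h1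
      · exact h1
      · exfalso
        apply ha
        rw [← h1]
        exact le_sup_right (a := N) (mem_zpowers a)
    have hb : b ∈ ((N ⊔ zpowers a : Subgroup G) : Set G) := by
      rw [hsup]
      exact Set.mem_univ b
    haveI := hN
    rw [Subgroup.normal_mul] at hb
    obtain ⟨n, hn, z, hz, rfl⟩ := Set.mem_mul.mp hb
    obtain ⟨k, rfl⟩ := mem_zpowers_iff.mp hz
    have : a * (n * a ^ k) * a⁻¹ * (n * a ^ k)⁻¹ = (a * n * a⁻¹) * n⁻¹ := by group
    rw [this]
    exact mul_mem (hN.conj_mem _ hn a) (inv_mem hn)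

theorem caseA_comm (h : Hyp G) (hall : ∀ x : G, x ∉ center G → (C x).Normal) (a b : G) :
    a * b * a⁻¹ * b⁻¹ ∈ center G := by
  rw [mem_center_iff]
  intro g
  by_cases hg : g ∈ center G
  · exact (mem_center_iff.mp hg _).symm
  · have h1 := commutator_mem_of_normal_coatom (hall g hg) (h g hg) a b
    exact (mem_C.mp h1).symm

theorem caseA_pow [Finite G] (h : Hyp G) (hder : ∀ a b : G, a * b * a⁻¹ * b⁻¹ ∈ center G)
    {x : G} (hx : x ∉ center G) : ∃ p : ℕ, p.Prime ∧ x ^ p ∈ center G := by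
  classical
  have hex : ∃ n : ℕ, 0 < n ∧ x ^ n ∈ center G :=
    ⟨orderOf x, orderOf_pos x, by rw [pow_orderOf_eq_one]; exact one_mem _⟩
  obtain ⟨o, ho⟩ : ∃ o, o = Nat.find hex := ⟨_, rfl⟩
  have hopos : 0 < o := ho ▸ (Nat.find_spec hex).1
  have hoZ : x ^ o ∈ center G := ho ▸ (Nat.find_spec hex).2
  have homin : ∀ m, 0 < m → m < o → x ^ m ∉ center G := by
    intro m hm hlt hmZ
    have := Nat.find_min hex (ho ▸ hlt)
    exact this ⟨hm, hmZ⟩
  have ho1 : o ≠ 1 := by
    intro h1
    rw [h1, pow_one] at hoZ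
    exact hx hoZ
  obtain ⟨p, hp, hpo⟩ := Nat.exists_prime_and_dvd ho1
  obtain ⟨m, hm⟩ := hpo
  have hmpos : 0 < m := by
    rcases Nat.eq_zero_or_pos m with h0 | h0
    · rw [h0, mul_zero] at hm
      omega
    · exact h0
  have hmlt : m < o := by
    rw [hm]
    have := hp.two_le
    nlinarith
  have hx1 : x ^ m ∉ center G := homin m hmpos hmlt
  have hx1p : (x ^ m) ^ p ∈ center G := by
    rw [← pow_mul, mul_comm, ← hm]
    exact hoZ
  have hC1 : C x = C (x ^ m) := C_eq_of_le h hx hx1 (pow_C_le x m)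
  refine ⟨p, hp, ?_⟩
  rw [mem_center_iff]
  intro g
  -- step 1: c₁ ^ p = 1
  have e1 : x ^ m * g = (x ^ m * g * (x ^ m)⁻¹ * g⁻¹) * g * x ^ m := by group
  have hc1 := hder (x ^ m) g
  have h2 := pow_mul_of_central hc1 e1 p
  have h3 : (x ^ m) ^ p * g = g * (x ^ m) ^ p := (mem_center_iff.mp hx1p g).symm
  have hc1p : (x ^ m * g * (x ^ m)⁻¹ * g⁻¹) ^ p = 1 := by
    have : (x ^ m * g * (x ^ m)⁻¹ * g⁻¹) ^ p * (g * (x ^ m) ^ p) = 1 * (g * (x ^ m) ^ p) := by
      rw [one_mul, ← mul_assoc, ← h2]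
      exact h3
    exact mul_right_cancel this
  -- step 2: g ^ p ∈ C x
  have h4 := mul_pow_of_central hc1 e1 p
  rw [hc1p, one_mul] at h4
  have hgp : g ^ p ∈ C x := by
    rw [hC1, mem_C]
    exact h4.symm
  -- step 3: c ^ p = 1
  have e2 : x * g = (x * g * x⁻¹ * g⁻¹) * g * x := by group
  have hc := hder x g
  have h5 := mul_pow_of_central hc e2 p
  have h6 : g ^ p * x = x * g ^ p := mem_C.mp hgp
  have hcp : (x * g * x⁻¹ * g⁻¹) ^ p = 1 := by
    have : (x * g * x⁻¹ * g⁻¹) ^ p * (g ^ p * x) = 1 * (g ^ p * x) := by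
      rw [one_mul, ← mul_assoc, ← h5]
      exact h6.symm
    exact mul_right_cancel this
  have h7 := pow_mul_of_central hc e2 p
  rw [hcp, one_mul] at h7
  exact h7.symm

end Cfsg.Agent.Helper29.CM
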