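import Mathlib
import Cfsg.Prelude.Def_Solvable

set_option autoImplicit false

/-!
# Sets of subgroups of order `p` whose commuting pairs span "full" `E_{p²}`'s

`K` is a conjugation-invariant set of subgroups of order `p` such that, whenever two distinct members
`X, Y` commute, every subgroup of order `p` of `XY` is in `K` and every member of `K` centralizes a
nontrivial element of `XY`.  Then (if some two distinct members commute) some member of `K` commutes
with all members of `K`.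
-/

namespace Cfsg.Agent.Helper29.CommGraph

open Subgroup

variable {G : Type*} [Group G]

structure Hyp (p : ℕ) (K : Set (Subgroup G)) : Prop where
  hp : p.Prime
  hK : ∀ X ∈ K, Nat.card ↥X = p
  hKc : ∀ X ∈ K, ∀ g : G, X.map (MulAut.conj g).toMonoidHom ∈ K
  ha : ∀ X ∈ K, ∀ Y ∈ K, X ≠ Y → (∀ x ∈ X, ∀ y ∈ Y, x * y = y * x) →
      ∀ Z : Subgroup G, Z ≤ X ⊔ Y → Nat.card ↥Z = p → Z ∈ K
  hb : ∀ X ∈ K, ∀ Y ∈ K, X ≠ Y → (∀ x ∈ X, ∀ y ∈ Y, x * y = y * x) →
      ∀ W ∈ K, (X ⊔ Y) ⊓ Subgroup.centralizer (W : Set G) ≠ ⊥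

/-- an elementary abelian subgroup all of whose subgroups of order `p` are in `K` -/
structure Full (p : ℕ) (K : Set (Subgroup G)) (A : Subgroup G) : Prop where
  comm : ∀ a ∈ A, ∀ b ∈ A, a * b = b * a
  exp : ∀ a ∈ A, a ^ p = 1
  mem : ∀ a ∈ A, a ≠ 1 → zpowers a ∈ K

variable {p : ℕ} {K : Set (Subgroup G)}

theorem mem_sup_of_comm {X Y : Subgroup G} (hc : ∀ x ∈ X, ∀ y ∈ Y, x * y = y * x) {g : G}
    (hg : g ∈ X ⊔ Y) : ∃ x ∈ X, ∃ y ∈ Y, g = x * y := by
  have hle : X ≤ normalizer (Y : Set G) := by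
    refine le_trans ?_ (Subgroup.centralizer_le_normalizer (Y : Set G))
    intro x hx
    rw [Subgroup.mem_centralizer_iff]
    intro y hy
    exact (hc x hx y hy).symm
  have h1 : g ∈ ((X ⊔ Y : Subgroup G) : Set G) := hg
  rw [Subgroup.coe_mul_of_left_le_normalizer_right X Y hle, Set.mem_mul] at h1
  obtain ⟨x, hx, y, hy, hxy⟩ := h1
  exact ⟨x, hx, y, hy, hxy.symm⟩

namespace Hyp

variable (h : Hyp p K)
include h

theorem zpowers_eq {X : Subgroup G} (hX : X ∈ K) {x : G} (hx : x ∈ X) (hx1 : x ≠ 1) :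
    zpowers x = X := by
  have : Finite X := Nat.finite_of_card_ne_zero (by rw [h.hK X hX]; exact h.hp.ne_zero)
  have hle : zpowers x ≤ X := (Subgroup.zpowers_le).mpr hx
  apply Subgroup.eq_of_le_of_card_ge hle
  rw [h.hK X hX]
  have hd : Nat.card (zpowers x) ∣ p := by
    rw [← h.hK X hX]; exact Subgroup.card_dvd_of_le hle
  rcases (Nat.dvd_prime h.hp).mp hd with h1 | h1
  · exfalso
    rw [Nat.card_zpowers, orderOf_eq_one_iff] at h1
    exact hx1 h1
  · exact h1.ge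

theorem pow_eq_one {X : Subgroup G} (hX : X ∈ K) {x : G} (hx : x ∈ X) : x ^ p = 1 := by
  have h1 : (⟨x, hx⟩ : X) ^ Nat.card X = 1 := pow_card_eq_one'
  rw [h.hK X hX] at h1
  exact congrArg Subtype.val h1

theorem ne_bot {X : Subgroup G} (hX : X ∈ K) : ∃ x ∈ X, x ≠ 1 := by
  by_contra hno
  push Not at hno
  have : X = ⊥ := (Subgroup.eq_bot_iff_forall X).mpr hno
  have h1 := h.hK X hX
  rw [this, Subgroup.card_bot] at h1
  exact h.hp.one_lt.ne h1

theorem comm_self {X : Subgroup G} (hX : X ∈ K) : ∀ x ∈ X, ∀ y ∈ X, x * y = y * x := by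
  intro x hx y hy
  by_cases hx1 : x = 1
  · rw [hx1, one_mul, mul_one]
  · have := h.zpowers_eq hX hx hx1
    rw [← this] at hy
    obtain ⟨m, rfl⟩ := Subgroup.mem_zpowers_iff.mp hy
    exact ((Commute.refl x).zpow_right m).eq

theorem full_of_mem {X : Subgroup G} (hX : X ∈ K) : Full p K X :=
  ⟨h.comm_self hX, fun _ hx => h.pow_eq_one hX hx, fun x hx hx1 => by
    rw [h.zpowers_eq hX hx hx1]; exact hX⟩

omit h in
theorem Full.mono {A B : Subgroup G} (hA : Full p K A) (hBA : B ≤ A) : Full p K B :=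
  ⟨fun a ha b hb => hA.comm a (hBA ha) b (hBA hb), fun a ha => hA.exp a (hBA ha),
    fun a ha => hA.mem a (hBA ha)⟩

theorem orderOf_eq {A : Subgroup G} (hA : Full p K A) {a : G} (ha : a ∈ A) (ha1 : a ≠ 1) :
    orderOf a = p := by
  have h1 : orderOf a ∣ p := orderOf_dvd_of_pow_eq_one (hA.exp a ha)
  rcases (Nat.dvd_prime h.hp).mp h1 with h2 | h2
  · exact absurd (orderOf_eq_one_iff.mp h2) ha1
  · exact h2

/-- extending a full subgroup by a commuting member -/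
theorem full_sup {A X : Subgroup G} (hA : Full p K A) (hX : X ∈ K)
    (hc : ∀ a ∈ A, ∀ x ∈ X, a * x = x * a) : Full p K (A ⊔ X) := by
  have key : ∀ g ∈ A ⊔ X, ∃ a ∈ A, ∃ x ∈ X, g = a * x := fun g hg => mem_sup_of_comm hc hg
  refine ⟨?_, ?_, ?_⟩
  · intro g hg g' hg'
    obtain ⟨a, ha, x, hx, rfl⟩ := key g hg
    obtain ⟨a', ha', x', hx', rfl⟩ := key g' hg'
    have e1 := hA.comm a ha a' ha'
    have e2 := h.comm_self hX x hx x' hx'
    have e3 := hc a ha x' hx'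
    have e4 := hc a' ha' x hx
    calc a * x * (a' * x') = a * (x * a') * x' := by group
      _ = a * (a' * x) * x' := by rw [e4]
      _ = (a * a') * (x * x') := by group
      _ = (a' * a) * (x' * x) := by rw [e1, e2]
      _ = a' * (a * x') * x := by group
      _ = a' * (x' * a) * x := by rw [e3]
      _ = a' * x' * (a * x) := by group
  · intro g hg
    obtain ⟨a, ha, x, hx, rfl⟩ := key g hg
    have hcomm : Commute a x := hc a ha x hx
    rw [hcomm.mul_pow, hA.exp a ha, h.pow_eq_one hX hx, one_mul]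
  · intro g hg hg1
    obtain ⟨a, ha, x, hx, rfl⟩ := key g hg
    by_cases ha1 : a = 1
    · rw [ha1, one_mul] at hg1 ⊢
      rw [h.zpowers_eq hX hx hg1]; exact hX
    by_cases hx1 : x = 1
    · rw [hx1, mul_one] at hg1 ⊢
      exact hA.mem a ha hg1
    by_cases hYX : zpowers a = X
    · have haX : a ∈ X := by rw [← hYX]; exact mem_zpowers a
      rw [h.zpowers_eq hX (X.mul_mem haX hx) hg1]; exact hX
    · have hY : zpowers a ∈ K := hA.mem a ha ha1
      have hcYX : ∀ y ∈ zpowers a, ∀ z ∈ X, y * z = z * y := by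
        intro y hy z hz
        exact hc y ((Subgroup.zpowers_le).mpr ha hy) z hz
      apply h.ha _ hY X hX hYX hcYX
      · rw [Subgroup.zpowers_le]
        exact Subgroup.mul_mem_sup (mem_zpowers a) hx
      · rw [Nat.card_zpowers]
        have hcomm : Commute a x := hc a ha x hx
        have h1 : orderOf (a * x) ∣ p := by
          apply orderOf_dvd_of_pow_eq_one
          rw [hcomm.mul_pow, hA.exp a ha, h.pow_eq_one hX hx, one_mul]
        rcases (Nat.dvd_prime h.hp).mp h1 with h2 | h2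
        · exact absurd (orderOf_eq_one_iff.mp h2) hg1
        · exact h2

/-- hyperplane property: `A = C_A(W) ⟨a⟩` for `a ∈ A` not centralizing `W` -/
theorem exists_zpow_mem_centralizer {A W : Subgroup G} (hA : Full p K A) (hW : W ∈ K) {a : G}
    (ha : a ∈ A) (haW : a ∉ centralizer (W : Set G)) {b : G} (hb : b ∈ A) :
    ∃ k : ℤ, b * a ^ k ∈ centralizer (W : Set G) := by
  by_cases hb1 : b ∈ zpowers a
  · obtain ⟨m, rfl⟩ := Subgroup.mem_zpowers_iff.mp hb1
    refine ⟨-m, ?_⟩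
    rw [← zpow_add, add_neg_cancel, zpow_zero]
    exact one_mem _
  have ha1 : a ≠ 1 := by
    rintro rfl
    exact haW (one_mem _)
  have hb1' : b ≠ 1 := by
    rintro rfl
    exact hb1 (one_mem _)
  have hX : zpowers a ∈ K := hA.mem a ha ha1
  have hY : zpowers b ∈ K := hA.mem b hb hb1'
  have hXY : zpowers a ≠ zpowers b := by
    intro e
    apply hb1
    rw [e]
    exact mem_zpowers b
  have hc : ∀ x ∈ zpowers a, ∀ y ∈ zpowers b, x * y = y * x := by
    intro x hx y hy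
    exact hA.comm x ((Subgroup.zpowers_le).mpr ha hx) y ((Subgroup.zpowers_le).mpr hb hy)
  have hne := h.hb _ hX _ hY hXY hc W hW
  obtain ⟨g, hg1⟩ := (Subgroup.ne_bot_iff_exists_ne_one).mp hne
  obtain ⟨hgs, hgc⟩ := Subgroup.mem_inf.mp g.2
  have hg1' : (g : G) ≠ 1 := fun e => hg1 (Subtype.ext e)
  obtain ⟨x, hx, y, hy, hgxy⟩ := mem_sup_of_comm hc hgs
  by_cases hy1 : y = 1
  · exfalso
    rw [hy1, mul_one] at hgxy
    have hx1 : x ≠ 1 := by rw [← hgxy]; exact hg1'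
    have := h.zpowers_eq hX hx hx1
    have hax : a ∈ zpowers x := by rw [this]; exact mem_zpowers a
    apply haW
    have hxc : x ∈ centralizer (W : Set G) := by rw [← hgxy]; exact hgc
    exact (Subgroup.zpowers_le).mpr hxc hax
  · have := h.zpowers_eq hY hy hy1
    have hby : b ∈ zpowers y := by rw [this]; exact mem_zpowers b
    obtain ⟨m, hm⟩ := Subgroup.mem_zpowers_iff.mp hby
    obtain ⟨i, hi⟩ := Subgroup.mem_zpowers_iff.mp hx
    refine ⟨i * m, ?_⟩
    have hcomm : Commute x y := hc x hx y hy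
    have e1 : (g : G) ^ m = b * a ^ (i * m) := by
      rw [hgxy, hcomm.mul_zpow, hm, zpow_mul, hi]
      have : Commute (x ^ m) b := by
        rw [← hm]
        exact (hcomm.zpow_left m).zpow_right m
      exact this.eq
    rw [← e1]
    exact (centralizer (W : Set G)).zpow_mem hgc m

end Hyp

/-- a full subgroup of maximal order -/
def IsMaxFull (p : ℕ) (K : Set (Subgroup G)) (A : Subgroup G) : Prop :=
  Full p K A ∧ ∀ B : Subgroup G, Full p K B → Nat.card B ≤ Nat.card A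

namespace Hyp

variable (h : Hyp p K) [Finite G]
include h

theorem le_of_comm {A W : Subgroup G} (hA : IsMaxFull p K A) (hW : W ∈ K)
    (hc : ∀ a ∈ A, ∀ w ∈ W, a * w = w * a) : W ≤ A := by
  have hf := h.full_sup hA.1 hW hc
  have h1 := hA.2 _ hf
  have h2 : A = A ⊔ W := Subgroup.eq_of_le_of_card_ge le_sup_left h1
  rw [h2]; exact le_sup_right

omit [Finite G] in
theorem mem_centralizer_of_comm_gen {W : Subgroup G} (hW : W ∈ K) {w : G} (hw : w ∈ W)
    (hw1 : w ≠ 1) {c : G} (hc : Commute c w) : c ∈ centralizer (W : Set G) := by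
  rw [Subgroup.mem_centralizer_iff]
  intro y hy
  have hy' : y ∈ zpowers w := by rw [h.zpowers_eq hW hw hw1]; exact hy
  obtain ⟨m, rfl⟩ := Subgroup.mem_zpowers_iff.mp hy'
  exact ((hc.zpow_right m).eq).symm

/-- if `U ≰ A` then `U` does not centralize `A` -/
theorem exists_not_mem_centralizer {A U : Subgroup G} (hA : IsMaxFull p K A) (hU : U ∈ K)
    (hUA : ¬ U ≤ A) : ∃ a ∈ A, a ∉ centralizer (U : Set G) := by
  by_contra hno
  push Not at hno
  apply hUA
  apply h.le_of_comm hA hU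
  intro a ha u hu
  exact ((Subgroup.mem_centralizer_iff.mp (hno a ha)) u hu).symm

theorem not_inf_le {A U W : Subgroup G} (hA : IsMaxFull p K A) (hU : U ∈ K) (hW : W ∈ K)
    (hUA : ¬ U ≤ A)
    (hne : A ⊓ centralizer (U : Set G) ≠ A ⊓ centralizer (W : Set G)) :
    ¬ A ⊓ centralizer (W : Set G) ≤ A ⊓ centralizer (U : Set G) := by
  intro hle
  obtain ⟨a, haU, haW⟩ := SetLike.exists_of_lt (lt_of_le_of_ne hle hne.symm)
  have haA : a ∈ A := haU.1
  have haW' : a ∉ centralizer (W : Set G) := fun hh => haW ⟨haA, hh⟩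
  obtain ⟨b, hbA, hbU⟩ := h.exists_not_mem_centralizer hA hU hUA
  apply hbU
  obtain ⟨k, hk⟩ := h.exists_zpow_mem_centralizer hA.1 hW haA haW' hbA
  have h1 : b * a ^ k ∈ A ⊓ centralizer (U : Set G) :=
    hle ⟨A.mul_mem hbA (A.zpow_mem haA k), hk⟩
  have h2 : b = (b * a ^ k) * (a ^ k)⁻¹ := by group
  rw [h2]
  exact (centralizer (U : Set G)).mul_mem h1.2
    ((centralizer (U : Set G)).inv_mem ((centralizer (U : Set G)).zpow_mem haU.2 k))

/-- the quadrangle lemma: two members outside `A` with different hyperplanes -/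
theorem quadrangle {A U W : Subgroup G} (hA : IsMaxFull p K A) (hU : U ∈ K) (hW : W ∈ K)
    (hUA : ¬ U ≤ A) (hWA : ¬ W ≤ A)
    (hne : A ⊓ centralizer (U : Set G) ≠ A ⊓ centralizer (W : Set G)) :
    ∀ x ∈ A, ∀ u ∈ U, x⁻¹ * (u * x * u⁻¹) ∈
      A ⊓ centralizer (U : Set G) ⊓ centralizer (W : Set G) := by
  -- x₁ ∈ H_W \ H_U and x₂ ∈ H_U \ H_W
  obtain ⟨x₁, hx₁W, hx₁U⟩ := SetLike.not_le_iff_exists.mp (h.not_inf_le hA hU hW hUA hne)
  obtain ⟨x₂, hx₂U, hx₂W⟩ := SetLike.not_le_iff_exists.mp (h.not_inf_le hA hW hU hWA hne.symm)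
  have hx₁A : x₁ ∈ A := hx₁W.1
  have hx₂A : x₂ ∈ A := hx₂U.1
  have hx₁U' : x₁ ∉ centralizer (U : Set G) := fun hh => hx₁U ⟨hx₁A, hh⟩
  have hx₂W' : x₂ ∉ centralizer (W : Set G) := fun hh => hx₂W ⟨hx₂A, hh⟩
  -- generator of W
  obtain ⟨w, hw, hw1⟩ := h.ne_bot hW
  have hWw := h.zpowers_eq hW hw hw1
  have hwA : w ∉ A := by
    intro hh
    apply hWA
    rw [← hWw]
    exact (Subgroup.zpowers_le).mpr hh
  -- F = H_W ⊔ W
  have hFfull : Full p K ((A ⊓ centralizer (W : Set G)) ⊔ W) := by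
    apply h.full_sup (Hyp.Full.mono hA.1 inf_le_left) hW
    intro a ha w' hw'
    exact ((Subgroup.mem_centralizer_iff.mp ha.2) w' hw').symm
  have hx₁F : x₁ ∈ (A ⊓ centralizer (W : Set G)) ⊔ W := le_sup_left (a := A ⊓ centralizer (W : Set G)) hx₁W
  have hwF : w ∈ (A ⊓ centralizer (W : Set G)) ⊔ W := le_sup_right (a := A ⊓ centralizer (W : Set G)) hw
  obtain ⟨k, hk⟩ := h.exists_zpow_mem_centralizer hFfull hU hx₁F hx₁U' hwF
  obtain ⟨t, ht⟩ : ∃ t : G, t = w * x₁ ^ k := ⟨_, rfl⟩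
  rw [← ht] at hk
  have htF : t ∈ (A ⊓ centralizer (W : Set G)) ⊔ W := by
    rw [ht]; exact Subgroup.mul_mem _ hwF (Subgroup.zpow_mem _ hx₁F k)
  have htA : t ∉ A := by
    intro hh
    apply hwA
    have : w = t * (x₁ ^ k)⁻¹ := by rw [ht]; group
    rw [this]
    exact A.mul_mem hh (A.inv_mem (A.zpow_mem hx₁A k))
  have ht1 : t ≠ 1 := by
    rintro rfl
    exact htA (one_mem _)
  have hT : zpowers t ∈ K := hFfull.mem t htF ht1
  have ctx₁ : Commute t x₁ := hFfull.comm t htF x₁ hx₁F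
  have hcx₁x₂ : Commute x₁ x₂ := hA.1.comm x₁ hx₁A x₂ hx₂A
  have hntx₂ : ¬ Commute t x₂ := by
    intro hc
    apply hx₂W'
    apply h.mem_centralizer_of_comm_gen hW hw hw1
    have : w = t * (x₁ ^ k)⁻¹ := by rw [ht]; group
    rw [this]
    exact (hc.symm).mul_right ((hcx₁x₂.symm.zpow_right k).inv_right)
  -- T ≠ U
  have hTU : zpowers t ≠ U := by
    intro e
    apply hx₁U'
    rw [← e, Subgroup.mem_centralizer_iff]
    intro y hy
    obtain ⟨m, rfl⟩ := Subgroup.mem_zpowers_iff.mp hy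
    exact (ctx₁.zpow_left m).eq
  have hcTU : ∀ y ∈ zpowers t, ∀ u ∈ U, y * u = u * y := by
    intro y hy u hu
    have : y ∈ centralizer (U : Set G) := (Subgroup.zpowers_le).mpr hk hy
    exact ((Subgroup.mem_centralizer_iff.mp this) u hu).symm
  -- P = ⟨x₁ x₂⟩
  have hx₁x₂1 : x₁ * x₂ ≠ 1 := by
    intro e
    apply hx₁U'
    have : x₁ = x₂⁻¹ := eq_inv_of_mul_eq_one_left e
    rw [this]
    exact (centralizer (U : Set G)).inv_mem hx₂U.2
  have hP : zpowers (x₁ * x₂) ∈ K := hA.1.mem _ (A.mul_mem hx₁A hx₂A) hx₁x₂1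
  have hne2 := h.hb _ hT U hU hTU hcTU _ hP
  obtain ⟨g, hg1⟩ := (Subgroup.ne_bot_iff_exists_ne_one).mp hne2
  obtain ⟨hgs, hgc⟩ := Subgroup.mem_inf.mp g.2
  have hg1' : (g : G) ≠ 1 := fun e => hg1 (Subtype.ext e)
  obtain ⟨t', ht', u', hu', hgtu⟩ := mem_sup_of_comm hcTU hgs
  have hgcomm : (x₁ * x₂) * (t' * u') = (t' * u') * (x₁ * x₂) := by
    have := (Subgroup.mem_centralizer_iff.mp hgc) (x₁ * x₂) (mem_zpowers _)
    rw [hgtu] at this
    exact this
  -- commutation facts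
  have c1 : Commute t' x₁ := by
    obtain ⟨m, rfl⟩ := Subgroup.mem_zpowers_iff.mp ht'
    exact ctx₁.zpow_left m
  have c2 : Commute u' x₂ := (Subgroup.mem_centralizer_iff.mp hx₂U.2) u' hu'
  have c3 : Commute t' u' := hcTU t' ht' u' hu'
  -- the element c
  obtain ⟨c, hc⟩ : ∃ c : G, c = x₁⁻¹ * (u' * x₁ * u'⁻¹) := ⟨_, rfl⟩
  have hc' : c = t'⁻¹ * x₂ * t' * x₂⁻¹ := by
    -- from hgcomm
    have e1 : u' * x₁ * x₂ = x₁ * (t'⁻¹ * x₂ * t') * u' := by
      have e0 : t' * (u' * x₁ * x₂) = t' * (x₁ * (t'⁻¹ * x₂ * t') * u') := by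
        calc t' * (u' * x₁ * x₂) = (t' * u') * (x₁ * x₂) := by group
          _ = (x₁ * x₂) * (t' * u') := hgcomm.symm
          _ = (x₁ * t') * (t'⁻¹ * x₂ * t') * u' := by group
          _ = (t' * x₁) * (t'⁻¹ * x₂ * t') * u' := by rw [c1.eq]
          _ = t' * (x₁ * (t'⁻¹ * x₂ * t') * u') := by group
      exact mul_left_cancel e0
    have e2 : u' * x₁ * u'⁻¹ * x₂ = x₁ * (t'⁻¹ * x₂ * t') := by
      calc u' * x₁ * u'⁻¹ * x₂ = u' * x₁ * (u'⁻¹ * x₂) := by group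
        _ = u' * x₁ * (x₂ * u'⁻¹) := by rw [(c2.inv_left).eq]
        _ = (u' * x₁ * x₂) * u'⁻¹ := by group
        _ = x₁ * (t'⁻¹ * x₂ * t') * u' * u'⁻¹ := by rw [e1]
        _ = x₁ * (t'⁻¹ * x₂ * t') := by group
    rw [hc]
    calc x₁⁻¹ * (u' * x₁ * u'⁻¹) = x₁⁻¹ * (u' * x₁ * u'⁻¹ * x₂) * x₂⁻¹ := by group
      _ = x₁⁻¹ * (x₁ * (t'⁻¹ * x₂ * t')) * x₂⁻¹ := by rw [e2]
      _ = t'⁻¹ * x₂ * t' * x₂⁻¹ := by group
  have ccx₂ : Commute c x₂ := by
    rw [hc]
    exact (hcx₁x₂.inv_left).mul_left ((c2.mul_left hcx₁x₂).mul_left c2.inv_left)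
  have cct' : Commute c t' := by
    rw [hc]
    exact (c1.symm.inv_left).mul_left ((c3.symm.mul_left c1.symm).mul_left c3.symm.inv_left)
  have ccx₁ : Commute c x₁ := by
    rw [hc']
    exact (((c1.inv_left).mul_left hcx₁x₂.symm).mul_left c1).mul_left
      hcx₁x₂.symm.inv_left
  have ccu' : Commute c u' := by
    rw [hc']
    exact (((c3.inv_left).mul_left c2.symm).mul_left c3).mul_left c2.symm.inv_left
  -- c ≠ 1
  have hc1 : c ≠ 1 := by
    intro e
    have hux₁ : Commute u' x₁ := by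
      have : x₁⁻¹ * (u' * x₁ * u'⁻¹) = 1 := by rw [← hc, e]
      have e2 : u' * x₁ * u'⁻¹ = x₁ := by
        have := eq_inv_of_mul_eq_one_right this
        rwa [inv_inv] at this
      calc u' * x₁ = (u' * x₁ * u'⁻¹) * u' := by group
        _ = x₁ * u' := by rw [e2]
    have htx₂ : Commute t' x₂ := by
      have : t'⁻¹ * x₂ * t' * x₂⁻¹ = 1 := by rw [← hc', e]
      have e2 : t'⁻¹ * x₂ * t' = x₂ := by
        have := eq_inv_of_mul_eq_one_left this
        rwa [inv_inv] at this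
      calc t' * x₂ = t' * (t'⁻¹ * x₂ * t') := by rw [e2]
        _ = x₂ * t' := by group
    by_cases hu'1 : u' = 1
    · rw [hu'1, mul_one] at hgtu
      have ht'1 : t' ≠ 1 := by rw [← hgtu]; exact hg1'
      have := h.zpowers_eq hT ht' ht'1
      have htt' : t ∈ zpowers t' := by rw [this]; exact mem_zpowers t
      obtain ⟨m, hm⟩ := Subgroup.mem_zpowers_iff.mp htt'
      apply hntx₂
      rw [← hm]
      exact htx₂.zpow_left m
    · exact hx₁U' (h.mem_centralizer_of_comm_gen hU hu' hu'1 hux₁.symm)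
  have hu'1 : u' ≠ 1 := by
    rintro rfl
    apply hc1
    rw [hc]; group
  have ht'1 : t' ≠ 1 := by
    rintro rfl
    apply hc1
    rw [hc']; group
  -- C = ⟨c⟩ ∈ K
  have hX₁ : zpowers x₁ ∈ K := by
    apply hA.1.mem x₁ hx₁A
    rintro rfl
    exact hx₁U' (one_mem _)
  have hX₁' : zpowers (u' * x₁ * u'⁻¹) ∈ K := by
    have := h.hKc _ hX₁ u'
    rw [MonoidHom.map_zpowers] at this
    exact this
  have hx₁'eq : u' * x₁ * u'⁻¹ = x₁ * c := by rw [hc]; group
  have hcp : c ^ p = 1 := by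
    have h1 : (u' * x₁ * u'⁻¹) ^ p = 1 := h.pow_eq_one hX₁' (mem_zpowers _)
    rw [hx₁'eq, ccx₁.symm.mul_pow, hA.1.exp x₁ hx₁A, one_mul] at h1
    exact h1
  have hcord : orderOf c = p := by
    have h1 : orderOf c ∣ p := orderOf_dvd_of_pow_eq_one hcp
    rcases (Nat.dvd_prime h.hp).mp h1 with h2 | h2
    · exact absurd (orderOf_eq_one_iff.mp h2) hc1
    · exact h2
  have hC : zpowers c ∈ K := by
    by_cases hXX : zpowers x₁ = zpowers (u' * x₁ * u'⁻¹)
    · have h1 : c ∈ zpowers x₁ := by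
        rw [hc]
        refine (zpowers x₁).mul_mem ((zpowers x₁).inv_mem (mem_zpowers _)) ?_
        rw [hXX]; exact mem_zpowers _
      rw [h.zpowers_eq hX₁ h1 hc1]; exact hX₁
    · apply h.ha _ hX₁ _ hX₁' hXX
      · intro y hy z hz
        obtain ⟨m, rfl⟩ := Subgroup.mem_zpowers_iff.mp hy
        obtain ⟨n, rfl⟩ := Subgroup.mem_zpowers_iff.mp hz
        have : Commute x₁ (u' * x₁ * u'⁻¹) := by
          rw [hx₁'eq]
          exact (Commute.refl x₁).mul_right ccx₁.symm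
        exact ((this.zpow_left m).zpow_right n).eq
      · rw [Subgroup.zpowers_le, hc]
        exact Subgroup.mul_mem_sup ((zpowers x₁).inv_mem (mem_zpowers _)) (mem_zpowers _)
      · rw [Nat.card_zpowers, hcord]
  -- c commutes with A
  have hcA : ∀ a ∈ A, Commute c a := by
    intro a ha
    obtain ⟨j, hj⟩ := h.exists_zpow_mem_centralizer hA.1 hU hx₁A hx₁U' ha
    have hh'A : a * x₁ ^ j ∈ A := A.mul_mem ha (A.zpow_mem hx₁A j)
    have h1 : Commute (a * x₁ ^ j) x₁ := hA.1.comm _ hh'A _ hx₁A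
    have h2 : Commute (a * x₁ ^ j) u' := ((Subgroup.mem_centralizer_iff.mp hj) u' hu').symm
    have h3 : Commute c (a * x₁ ^ j) := by
      rw [hc]
      exact ((h1.symm.inv_left).mul_left ((h2.symm.mul_left h1.symm).mul_left h2.symm.inv_left))
    have h4 : a = (a * x₁ ^ j) * (x₁ ^ j)⁻¹ := by group
    rw [h4]
    exact h3.mul_right ((ccx₁.zpow_right j).inv_right)
  have hCA : zpowers c ≤ A := by
    apply h.le_of_comm hA hC
    intro a ha y hy
    obtain ⟨m, rfl⟩ := Subgroup.mem_zpowers_iff.mp hy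
    exact (((hcA a ha).zpow_left m).eq).symm
  have hcAmem : c ∈ A := hCA (mem_zpowers c)
  have hcU : c ∈ centralizer (U : Set G) := h.mem_centralizer_of_comm_gen hU hu' hu'1 ccu'
  have hcW : c ∈ centralizer (W : Set G) := by
    apply h.mem_centralizer_of_comm_gen hW hw hw1
    have htt' : t ∈ zpowers t' := by
      rw [h.zpowers_eq hT ht' ht'1]; exact mem_zpowers t
    obtain ⟨m, hm⟩ := Subgroup.mem_zpowers_iff.mp htt'
    have hct : Commute c t := by rw [← hm]; exact cct'.zpow_right m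
    have : w = t * (x₁ ^ k)⁻¹ := by rw [ht]; group
    rw [this]
    exact hct.mul_right ((ccx₁.zpow_right k).inv_right)
  have hCle : zpowers c ≤ A ⊓ centralizer (U : Set G) ⊓ centralizer (W : Set G) := by
    rw [Subgroup.zpowers_le]
    exact ⟨⟨hcAmem, hcU⟩, hcW⟩
  -- powers of u'
  have hpow : ∀ n : ℕ, u' ^ n * x₁ * (u' ^ n)⁻¹ = x₁ * c ^ n := by
    intro n
    induction n with
    | zero => simp
    | succ n ih =>
      have e : u' ^ (n + 1) * x₁ * (u' ^ (n + 1))⁻¹ = u' * (u' ^ n * x₁ * (u' ^ n)⁻¹) * u'⁻¹ := by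
        rw [pow_succ']; group
      rw [e, ih]
      have e2 : u' * (x₁ * c ^ n) * u'⁻¹ = (u' * x₁ * u'⁻¹) * (u' * c ^ n * u'⁻¹) := by group
      rw [e2, hx₁'eq]
      have e3 : u' * c ^ n * u'⁻¹ = c ^ n := by
        have := (ccu'.pow_left n).eq
        calc u' * c ^ n * u'⁻¹ = (c ^ n * u') * u'⁻¹ := by rw [this]
          _ = c ^ n := by group
      rw [e3, pow_succ', mul_assoc]
  -- the general statement
  intro x hx u hu
  apply hCle
  have huu' : u ∈ zpowers u' := by rw [h.zpowers_eq hU hu' hu'1]; exact hu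
  have huu'' : u ∈ Submonoid.powers u' := (mem_powers_iff_mem_zpowers).mpr huu'
  obtain ⟨n, rfl⟩ := huu''
  obtain ⟨j, hj⟩ := h.exists_zpow_mem_centralizer hA.1 hU hx₁A hx₁U' hx
  have hh'u : Commute (u' ^ n) (x * x₁ ^ j) :=
    ((Subgroup.mem_centralizer_iff.mp hj) (u' ^ n) (U.pow_mem hu' n))
  have e1 : x = (x * x₁ ^ j) * (x₁ ^ j)⁻¹ := by group
  have e2 : u' ^ n * x * (u' ^ n)⁻¹ =
      (u' ^ n * (x * x₁ ^ j) * (u' ^ n)⁻¹) * (u' ^ n * (x₁ ^ j)⁻¹ * (u' ^ n)⁻¹) := by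
    conv_lhs => rw [e1]
    group
  have e3 : u' ^ n * (x * x₁ ^ j) * (u' ^ n)⁻¹ = x * x₁ ^ j := by
    rw [hh'u.eq]; group
  have e4 : u' ^ n * (x₁ ^ j)⁻¹ * (u' ^ n)⁻¹ = ((x₁ * c ^ n) ^ j)⁻¹ := by
    have := map_zpow (MulAut.conj (u' ^ n)) x₁ j
    simp only [MulAut.conj_apply] at this
    rw [hpow n] at this
    rw [← this]; group
  have ccn : Commute x₁ (c ^ n) := (ccx₁.symm).pow_right n
  have ccn' : Commute (x₁ ^ j) ((c ^ n) ^ j) := (ccn.zpow_left j).zpow_right j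
  rw [e2, e3, e4, ccn.mul_zpow, ccn'.eq]
  have e5 : x⁻¹ * (x * x₁ ^ j * ((c ^ n) ^ j * x₁ ^ j)⁻¹) = ((c ^ n) ^ j)⁻¹ := by group
  rw [e5]
  exact (zpowers c).inv_mem ((zpowers c).zpow_mem ((zpowers c).pow_mem (mem_zpowers c) n) j)

theorem exists_isMaxFull (hne : ∃ X, X ∈ K) : ∃ A, IsMaxFull p K A := by
  obtain ⟨X, hX⟩ := hne
  have : Nonempty {A : Subgroup G // Full p K A} := ⟨⟨X, h.full_of_mem hX⟩⟩
  obtain ⟨⟨A, hA⟩, hmax⟩ :=
    Finite.exists_max (fun A : {A : Subgroup G // Full p K A} => Nat.card A.1)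
  exact ⟨A, hA, fun B hB => hmax ⟨B, hB⟩⟩

/-- some member of `K` commutes with all members of `K` -/
theorem exists_universal
    (hex : ∃ X ∈ K, ∃ Y ∈ K, X ≠ Y ∧ ∀ x ∈ X, ∀ y ∈ Y, x * y = y * x) :
    ∃ V ∈ K, ∀ W ∈ K, ∀ v ∈ V, ∀ w ∈ W, v * w = w * v := by
  obtain ⟨X₀, hX₀, Y₀, hY₀, hXY₀, hc₀⟩ := hex
  obtain ⟨A, hA⟩ := h.exists_isMaxFull ⟨X₀, hX₀⟩
  have key : ∀ e ∈ A, e ≠ 1 → (∀ W ∈ K, ¬ W ≤ A → e ∈ centralizer (W : Set G)) →
      ∃ V ∈ K, ∀ W ∈ K, ∀ v ∈ V, ∀ w ∈ W, v * w = w * v := by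
    intro e heA he1 hcent
    refine ⟨zpowers e, hA.1.mem e heA he1, ?_⟩
    intro W hW v hv w hw
    obtain ⟨m, rfl⟩ := Subgroup.mem_zpowers_iff.mp hv
    have hew : Commute e w := by
      by_cases hWA : W ≤ A
      · exact hA.1.comm e heA w (hWA hw)
      · exact ((Subgroup.mem_centralizer_iff.mp (hcent W hW hWA)) w hw).symm
    exact (hew.zpow_left m).eq
  by_cases hall : ∀ W ∈ K, W ≤ A
  · obtain ⟨e, he, he1⟩ := h.ne_bot hX₀
    exact key e (hall X₀ hX₀ he) he1 (fun W hW hWA => absurd (hall W hW) hWA)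
  push Not at hall
  obtain ⟨U, hU, hUA⟩ := hall
  by_cases hsame : ∀ W ∈ K, ¬ W ≤ A →
      A ⊓ centralizer (W : Set G) = A ⊓ centralizer (U : Set G)
  · have hfull₀ : Full p K (X₀ ⊔ Y₀) := h.full_sup (h.full_of_mem hX₀) hY₀ hc₀
    have hcard : p < Nat.card A := by
      have h1 := hA.2 _ hfull₀
      have h2 : Nat.card X₀ < Nat.card (X₀ ⊔ Y₀ : Subgroup G) := by
        rcases lt_or_ge (Nat.card X₀) (Nat.card (X₀ ⊔ Y₀ : Subgroup G)) with h3 | h3
        · exact h3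
        · exfalso
          have h4 : X₀ = X₀ ⊔ Y₀ := Subgroup.eq_of_le_of_card_ge le_sup_left h3
          have h5 : Y₀ ≤ X₀ := by rw [h4]; exact le_sup_right
          have h6 : Y₀ = X₀ :=
            Subgroup.eq_of_le_of_card_ge h5 (by rw [h.hK _ hX₀, h.hK _ hY₀])
          exact hXY₀ h6.symm
      rw [h.hK _ hX₀] at h2
      omega
    obtain ⟨a, haA, ha1⟩ : ∃ a ∈ A, a ≠ 1 := by
      by_contra hno
      push Not at hno
      have : A = ⊥ := (Subgroup.eq_bot_iff_forall A).mpr hno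
      rw [this, Subgroup.card_bot] at hcard
      have := h.hp.one_lt
      omega
    have hza : Nat.card (zpowers a) = p := by
      rw [Nat.card_zpowers]; exact h.orderOf_eq hA.1 haA ha1
    obtain ⟨b, hbA, hbza⟩ : ∃ b ∈ A, b ∉ zpowers a := by
      by_contra hno
      push Not at hno
      have hle : A ≤ zpowers a := hno
      have := Subgroup.card_le_of_le hle
      omega
    have hb1 : b ≠ 1 := by
      rintro rfl
      exact hbza (one_mem _)
    have hXa := hA.1.mem a haA ha1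
    have hYb := hA.1.mem b hbA hb1
    have hXY : zpowers a ≠ zpowers b := fun e => hbza (e ▸ mem_zpowers b)
    have hc : ∀ x ∈ zpowers a, ∀ y ∈ zpowers b, x * y = y * x := fun x hx y hy =>
      hA.1.comm x ((Subgroup.zpowers_le).mpr haA hx) y ((Subgroup.zpowers_le).mpr hbA hy)
    have hne := h.hb _ hXa _ hYb hXY hc U hU
    obtain ⟨g, hg1⟩ := (Subgroup.ne_bot_iff_exists_ne_one).mp hne
    obtain ⟨hgs, hgc⟩ := Subgroup.mem_inf.mp g.2
    have hgA : (g : G) ∈ A :=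
      (sup_le ((Subgroup.zpowers_le).mpr haA) ((Subgroup.zpowers_le).mpr hbA)) hgs
    apply key (g : G) hgA (fun e => hg1 (Subtype.ext e))
    intro W hW hWA
    have hmem : (g : G) ∈ A ⊓ centralizer (U : Set G) := ⟨hgA, hgc⟩
    rw [← hsame W hW hWA] at hmem
    exact hmem.2
  · push Not at hsame
    obtain ⟨W₀, hW₀, hW₀A, hne₀⟩ := hsame
    obtain ⟨x₀, hx₀A, hx₀U⟩ := h.exists_not_mem_centralizer hA hU hUA
    obtain ⟨u₀, hu₀, hu₀1⟩ := h.ne_bot hU
    have he := h.quadrangle hA hU hW₀ hUA hW₀A (Ne.symm hne₀) x₀ hx₀A u₀ hu₀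
    have he1 : x₀⁻¹ * (u₀ * x₀ * u₀⁻¹) ≠ 1 := by
      intro e1
      apply hx₀U
      apply h.mem_centralizer_of_comm_gen hU hu₀ hu₀1
      have e2 : u₀ * x₀ * u₀⁻¹ = x₀ := by
        have := eq_inv_of_mul_eq_one_right e1
        rwa [inv_inv] at this
      show x₀ * u₀ = u₀ * x₀
      calc x₀ * u₀ = (u₀ * x₀ * u₀⁻¹) * u₀ := by rw [e2]
        _ = u₀ * x₀ := by group
    apply key _ he.1.1 he1
    intro W hW hWA
    by_cases hWU : A ⊓ centralizer (W : Set G) = A ⊓ centralizer (U : Set G)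
    · have hmem : x₀⁻¹ * (u₀ * x₀ * u₀⁻¹) ∈ A ⊓ centralizer (U : Set G) := he.1
      rw [← hWU] at hmem
      exact hmem.2
    · exact (h.quadrangle hA hU hW hUA hWA (Ne.symm hWU) x₀ hx₀A u₀ hu₀).2

end Hyp

end Cfsg.Agent.Helper29.CommGraph
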