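import Mathlib
import Cfsg.Agent.Lib.Helper52.FCDefs
import Cfsg.Agent.Lib.Helper52.Coprime
import Cfsg.Agent.Lib.Helper52.CoprimeSylow
import Cfsg.Agent.Lib.Helper55.FrobFree2

/-! # FC (R2-ID), for helper52's FC server (S3816) -/

set_option autoImplicit false

namespace Cfsg.Agent.Helper29.FC

open Subgroup Cfsg.Agent.Helper52.FC
open scoped commutatorElement

universe u

variable {G : Type u} [Group G]

/-- invariance under powers -/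
theorem h29_inv_pow {a : G} {X : Subgroup G} (hX : Inv a X) (i : ℕ) :
    ∀ x ∈ X, a ^ i * x * (a ^ i)⁻¹ ∈ X := by
  induction i with
  | zero => intro x hx; simpa using hx
  | succ i ih =>
    intro x hx
    have h1 := hX _ (ih x hx)
    have h2 : a ^ (i + 1) * x * (a ^ (i + 1))⁻¹ = a * (a ^ i * x * (a ^ i)⁻¹) * a⁻¹ := by
      rw [pow_succ']; group
    rw [h2]; exact h1

/-- an invariant subgroup is normalised by `zpowers a` when `a` has finite order -/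
theorem h29_zpowers_le_normalizer {a : G} {p : ℕ} (hp : 0 < p) (hpow : a ^ p = 1)
    {X : Subgroup G} (hX : Inv a X) : zpowers a ≤ normalizer (X : Set G) := by
  rw [zpowers_le]
  rw [mem_normalizer_iff]
  intro x
  constructor
  · exact fun hx => hX x hx
  · intro hx
    have h1 := h29_inv_pow hX (p - 1) _ hx
    have h2 : a ^ (p - 1) * a = 1 := by rw [← pow_succ, Nat.sub_add_cancel hp, hpow]
    have h3 : a ^ (p - 1) = a⁻¹ := eq_inv_of_mul_eq_one_left h2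
    rw [h3] at h1
    have h4 : a⁻¹ * (a * x * a⁻¹) * a⁻¹⁻¹ = x := by group
    rwa [h4] at h1

/-- elements of `A ⊔ C` when `A` and `C` commute elementwise -/
theorem h29_mem_sup_of_commute {A C : Subgroup G} (hAC : ∀ x ∈ A, ∀ c ∈ C, x * c = c * x) {g : G}
    (hg : g ∈ A ⊔ C) : ∃ x ∈ A, ∃ c ∈ C, g = x * c := by
  rw [sup_eq_closure_mul] at hg
  induction hg using closure_induction with
  | mem g hg =>
    obtain ⟨x, hx, c, hc, rfl⟩ := Set.mem_mul.1 hg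
    exact ⟨x, hx, c, hc, rfl⟩
  | one => exact ⟨1, A.one_mem, 1, C.one_mem, by simp⟩
  | mul g g' _ _ ih ih' =>
    obtain ⟨x, hx, c, hc, rfl⟩ := ih
    obtain ⟨x', hx', c', hc', rfl⟩ := ih'
    refine ⟨x * x', A.mul_mem hx hx', c * c', C.mul_mem hc hc', ?_⟩
    calc x * c * (x' * c') = x * (c * x') * c' := by group
      _ = x * (x' * c) * c' := by rw [hAC x' hx' c hc]
      _ = x * x' * (c * c') := by group
  | inv g _ ih =>
    obtain ⟨x, hx, c, hc, rfl⟩ := ih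
    refine ⟨x⁻¹, A.inv_mem hx, c⁻¹, C.inv_mem hc, ?_⟩
    rw [mul_inv_rev, ← hAC x⁻¹ (A.inv_mem hx) c⁻¹ (C.inv_mem hc)]

/-- elements of `N ⊔ L` when `L` normalises `N` -/
theorem h29_mem_sup_of_normalizes {N L : Subgroup G} (hLN : ∀ y ∈ L, ∀ n ∈ N, y * n * y⁻¹ ∈ N)
    {g : G} (hg : g ∈ N ⊔ L) : ∃ y ∈ L, ∃ u ∈ N, g = y * u := by
  rw [sup_comm, sup_eq_closure_mul] at hg
  induction hg using closure_induction with
  | mem g hg =>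
    obtain ⟨y, hy, u, hu, rfl⟩ := Set.mem_mul.1 hg
    exact ⟨y, hy, u, hu, rfl⟩
  | one => exact ⟨1, L.one_mem, 1, N.one_mem, by simp⟩
  | mul g g' _ _ ih ih' =>
    obtain ⟨y, hy, u, hu, rfl⟩ := ih
    obtain ⟨y', hy', u', hu', rfl⟩ := ih'
    refine ⟨y * y', L.mul_mem hy hy', (y'⁻¹ * u * y'⁻¹⁻¹) * u',
      N.mul_mem (hLN _ (L.inv_mem hy') u hu) hu', by group⟩
  | inv g _ ih =>
    obtain ⟨y, hy, u, hu, rfl⟩ := ih
    exact ⟨y⁻¹, L.inv_mem hy, y * u⁻¹ * y⁻¹, hLN y hy _ (N.inv_mem hu), by group⟩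

/-- commutator of two products `y u`, `y' u'` when the mixed commutators are central -/
theorem h29_comm_prod (y u y' u' c1 c2 : G) (h1 : u * y' = c1 * y' * u)
    (h2 : u' * y = c2 * y * u') (h3 : u * u' = u' * u) (hc1y : c1 * y = y * c1)
    (hc2y : c2 * y = y * c2) (hc2y' : c2 * y' = y' * c2) :
    ⁅y * u, y' * u'⁆ = c1 * c2⁻¹ * ⁅y, y'⁆ := by
  have e1 : y⁻¹ * u' = c2 * u' * y⁻¹ := by
    calc y⁻¹ * u' = y⁻¹ * (u' * y) * y⁻¹ := by group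
      _ = y⁻¹ * (c2 * y * u') * y⁻¹ := by rw [h2]
      _ = y⁻¹ * (c2 * y) * u' * y⁻¹ := by group
      _ = y⁻¹ * (y * c2) * u' * y⁻¹ := by rw [hc2y]
      _ = c2 * u' * y⁻¹ := by group
  have e2 : u' * y⁻¹ = c2⁻¹ * y⁻¹ * u' := by
    calc u' * y⁻¹ = c2⁻¹ * (c2 * u' * y⁻¹) := by group
      _ = c2⁻¹ * (y⁻¹ * u') := by rw [e1]
      _ = c2⁻¹ * y⁻¹ * u' := by group
  have e3 : y * y' * c2⁻¹ = c2⁻¹ * (y * y') := by
    have h4 : c2 * (y * y') = (y * y') * c2 := by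
      rw [← mul_assoc, hc2y, mul_assoc, hc2y', ← mul_assoc]
    calc y * y' * c2⁻¹ = c2⁻¹ * (c2 * (y * y')) * c2⁻¹ := by group
      _ = c2⁻¹ * ((y * y') * c2) * c2⁻¹ := by rw [h4]
      _ = c2⁻¹ * (y * y') := by group
  rw [commutatorElement_def, commutatorElement_def]
  calc y * u * (y' * u') * (y * u)⁻¹ * (y' * u')⁻¹
      = y * (u * y') * u' * u⁻¹ * y⁻¹ * u'⁻¹ * y'⁻¹ := by group
    _ = y * (c1 * y' * u) * u' * u⁻¹ * y⁻¹ * u'⁻¹ * y'⁻¹ := by rw [h1]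
    _ = (y * c1) * y' * (u * u') * u⁻¹ * y⁻¹ * u'⁻¹ * y'⁻¹ := by group
    _ = (c1 * y) * y' * (u' * u) * u⁻¹ * y⁻¹ * u'⁻¹ * y'⁻¹ := by rw [← hc1y, h3]
    _ = c1 * y * y' * (u' * y⁻¹) * u'⁻¹ * y'⁻¹ := by group
    _ = c1 * y * y' * (c2⁻¹ * y⁻¹ * u') * u'⁻¹ * y'⁻¹ := by rw [e2]
    _ = c1 * (y * y' * c2⁻¹) * y⁻¹ * y'⁻¹ := by group
    _ = c1 * (c2⁻¹ * (y * y')) * y⁻¹ * y'⁻¹ := by rw [e3]
    _ = c1 * c2⁻¹ * (y * y' * y⁻¹ * y'⁻¹) := by group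

/-- a central factor drops out of a commutator -/
theorem h29_comm_central (ζ u y : G) (hζ : ζ * (u * y * u⁻¹) = (u * y * u⁻¹) * ζ) :
    ⁅ζ * u, y⁆ = ⁅u, y⁆ := by
  rw [commutatorElement_def, commutatorElement_def]
  calc ζ * u * y * (ζ * u)⁻¹ * y⁻¹ = ζ * (u * y * u⁻¹) * ζ⁻¹ * y⁻¹ := by group
    _ = (u * y * u⁻¹) * ζ * ζ⁻¹ * y⁻¹ := by rw [hζ]
    _ = u * y * u⁻¹ * y⁻¹ := by group

/-- (R2-ID) [L] see (5)(R2-ID).  `cj i g := a^i g a^-i`. -/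
theorem r2_identity [Finite G] {p : ℕ} {a : G} {H : Subgroup G} (mx : MCX p G a H) (hZs : ZZ a H ⊓ star a H = ⊥)
    (N : Subgroup G) (hNH : N ≤ H) (hNn : NormBy H N) (hNa : Inv a N) (hNab : Ab N)
    (L : Subgroup G) (hLH : L ≤ H) (hLa : Inv a L) (hLne : L ≠ H) (hLc : comm a L = L) (hNL' : N ⊓ L = ⊥)
    (hc : ∀ n ∈ N, ∀ y ∈ L, n * y * n⁻¹ * y⁻¹ ∈ ZZ a H)
    (n : G) (hn : n ∈ N) (l : G) (hl : l ∈ L) (i j : ℕ) :
    ⁅n⁻¹ * (a ^ i * n * (a ^ i)⁻¹), l⁻¹ * (a ^ j * l * (a ^ j)⁻¹)⁆ = ⁅n⁻¹ * (a ^ j * n * (a ^ j)⁻¹), l⁻¹ * (a ^ i * l * (a ^ i)⁻¹)⁆ := by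
  classical
  have hyp : Hyp p a H := mx.mc.hyp
  have hp : p.Prime := mx.mc.hp
  have hpow : a ^ p = 1 := hyp.pow
  -- facts about `Z = ZZ a H`
  have hZH : ∀ z ∈ ZZ a H, z ∈ H := fun z hz => hz.1.1
  have hZfix : ∀ z ∈ ZZ a H, z * a = a * z := fun z hz => mem_centralizer_singleton_iff.1 hz.1.2
  have hZcen : ∀ z ∈ ZZ a H, ∀ h ∈ H, z * h = h * z := by
    intro z hz h hh
    exact ((mem_centralizer_iff.1 hz.2) h hh).symm
  -- `L ⊓ Fix a ≤ star a H`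
  have hLfix : L ⊓ Fix a ≤ star a H := by
    have := mx.proper L hLH hLne hLa
    rwa [hLc] at this
  have hLZ : ∀ x ∈ L, x ∈ ZZ a H → x = 1 := by
    intro x hxL hxZ
    have h1 : x ∈ star a H := hLfix ⟨hxL, hxZ.1.2⟩
    have h2 : x ∈ ZZ a H ⊓ star a H := ⟨hxZ, h1⟩
    rw [hZs] at h2
    exact mem_bot.1 h2
  -- the subgroup `K = Lh a (l * n)`
  have hLN : ∀ y ∈ L, ∀ u ∈ N, y * u * y⁻¹ ∈ N := fun y hy u hu => hNn y (hLH hy) u hu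
  have hhH : l * n ∈ H := H.mul_mem (hLH hl) (hNH hn)
  have hNLinv : Inv a (N ⊔ L) := by
    intro x hx
    obtain ⟨y, hy, u, hu, rfl⟩ := h29_mem_sup_of_normalizes hLN hx
    have : a * (y * u) * a⁻¹ = (a * y * a⁻¹) * (a * u * a⁻¹) := by group
    rw [this]
    exact (N ⊔ L).mul_mem (mem_sup_right (hLa y hy)) (mem_sup_left (hNa u hu))
  have hKle : Lh a (l * n) ≤ N ⊔ L :=
    mx.Lh_le (N ⊔ L) hNLinv (l * n) ((N ⊔ L).mul_mem (mem_sup_right hl) (mem_sup_left hn))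
  have hKH : Lh a (l * n) ≤ H := hKle.trans (sup_le hNH hLH)
  have hKinv : Inv a (Lh a (l * n)) := mx.Lh_inv (l * n)
  have hKfix : Lh a (l * n) ⊓ Fix a ≤ star a H := mx.Lh_fix (l * n) hhH
  -- commutators of elements of `N ⊔ L` lie in `L ⊔ Z`, in split form
  have hcomm_split : ∀ g ∈ N ⊔ L, ∀ g' ∈ N ⊔ L, ∃ ρ ∈ L, ∃ ν ∈ ZZ a H, ⁅g, g'⁆ = ρ * ν := by
    intro g hg g' hg'
    obtain ⟨y, hy, u, hu, rfl⟩ := h29_mem_sup_of_normalizes hLN hg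
    obtain ⟨y', hy', u', hu', rfl⟩ := h29_mem_sup_of_normalizes hLN hg'
    have hc1 : u * y' * u⁻¹ * y'⁻¹ ∈ ZZ a H := hc u hu y' hy'
    have hc2 : u' * y * u'⁻¹ * y⁻¹ ∈ ZZ a H := hc u' hu' y hy
    have key := h29_comm_prod y u y' u' (u * y' * u⁻¹ * y'⁻¹) (u' * y * u'⁻¹ * y⁻¹)
      (by group) (by group) (hNab u hu u' hu') (hZcen _ hc1 y (hLH hy)) (hZcen _ hc2 y (hLH hy))
      (hZcen _ hc2 y' (hLH hy'))
    refine ⟨⁅y, y'⁆, commutator_mem_commutator hy hy' |> fun h => (commutator_le_self L) h, 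
      (u * y' * u⁻¹ * y'⁻¹) * (u' * y * u'⁻¹ * y⁻¹)⁻¹,
      (ZZ a H).mul_mem hc1 ((ZZ a H).inv_mem hc2), ?_⟩
    rw [key]
    have hz : (u * y' * u⁻¹ * y'⁻¹) * (u' * y * u'⁻¹ * y⁻¹)⁻¹ ∈ ZZ a H :=
      (ZZ a H).mul_mem hc1 ((ZZ a H).inv_mem hc2)
    have hyy : ⁅y, y'⁆ ∈ H := hLH ((commutator_le_self L) (commutator_mem_commutator hy hy'))
    exact hZcen _ hz _ hyy
  -- `M = ⁅K, K⁆`
  set K : Subgroup G := Lh a (l * n) with hK
  have hMsplit : ∀ m ∈ ⁅K, K⁆, ∃ ρ ∈ L, ∃ ν ∈ ZZ a H, m = ρ * ν := by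
    intro m hm
    have hLZcomm : ∀ x ∈ L, ∀ c ∈ ZZ a H, x * c = c * x :=
      fun x hx c hc' => (hZcen c hc' x (hLH hx)).symm
    have hsub : ⁅K, K⁆ ≤ L ⊔ ZZ a H := by
      rw [commutator_le]
      intro g hg g' hg'
      obtain ⟨ρ, hρ, ν, hν, h⟩ := hcomm_split g (hKle hg) g' (hKle hg')
      rw [h]
      exact (L ⊔ ZZ a H).mul_mem (mem_sup_left hρ) (mem_sup_right hν)
    exact h29_mem_sup_of_commute hLZcomm (hsub hm)
  have hMK : ⁅K, K⁆ ≤ K := commutator_le_self K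
  have hMinv : Inv a ⁅K, K⁆ := by
    intro x hx
    have hconj : ⁅K, K⁆.map (MulAut.conj a).toMonoidHom ≤ ⁅K, K⁆ := by
      rw [map_commutator]
      have hKm : K.map (MulAut.conj a).toMonoidHom ≤ K := by
        rintro _ ⟨k, hk, rfl⟩
        exact hKinv k hk
      exact commutator_mono hKm hKm
    exact hconj ⟨x, hx, rfl⟩
  have hpp : 0 < p := hp.pos
  have hPM : zpowers a ≤ normalizer ((⁅K, K⁆ : Subgroup G) : Set G) :=
    h29_zpowers_le_normalizer hpp hpow hMinv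
  have hPL : zpowers a ≤ normalizer (L : Set G) := h29_zpowers_le_normalizer hpp hpow hLa
  have hcardP : Nat.card (zpowers a) ∣ p := by
    rw [Nat.card_zpowers]
    exact orderOf_dvd_of_pow_eq_one hpow
  have hcop : (Nat.card (zpowers a)).Coprime (Nat.card (⁅K, K⁆ : Subgroup G)) := by
    have h1 : Nat.card (⁅K, K⁆ : Subgroup G) ∣ Nat.card H := card_dvd_of_le (hMK.trans hKH)
    have h2 : (Nat.card (⁅K, K⁆ : Subgroup G)).Coprime p := Nat.Coprime.coprime_dvd_left h1 hyp.cop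
    exact (Nat.Coprime.coprime_dvd_right hcardP h2).symm
  -- `M ≤ L`
  have hML : ⁅K, K⁆ ≤ L := by
    intro m hm
    obtain ⟨n', hn', c, hcM, rfl⟩ := Cfsg.Agent.Helper52.exists_commutator_mul_centralizer
      ⁅K, K⁆ (zpowers a) hPM hcop (Or.inl inferInstance) m hm
    apply L.mul_mem
    · -- `⁅M, P⁆ ≤ L`
      have hle : ⁅⁅K, K⁆, zpowers a⁆ ≤ L := by
        rw [commutator_le]
        intro m' hm' b hb
        obtain ⟨ρ, hρ, ν, hν, rfl⟩ := hMsplit m' hm'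
        have hνb : ν * b = b * ν := by
          obtain ⟨k, rfl⟩ := mem_zpowers_iff.1 hb
          exact (Commute.zpow_right (hZfix ν hν) k)
        have hbρ : b * ρ⁻¹ * b⁻¹ ∈ L := by
          have := (mem_normalizer_iff.1 (hPL hb) ρ⁻¹).1 (L.inv_mem hρ)
          exact this
        have e : ⁅ρ * ν, b⁆ = ρ * (b * ρ⁻¹ * b⁻¹) := by
          rw [commutatorElement_def]
          calc ρ * ν * b * (ρ * ν)⁻¹ * b⁻¹ = ρ * (ν * b) * ν⁻¹ * ρ⁻¹ * b⁻¹ := by group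
            _ = ρ * (b * ν) * ν⁻¹ * ρ⁻¹ * b⁻¹ := by rw [hνb]
            _ = ρ * (b * ρ⁻¹ * b⁻¹) := by group
        rw [e]
        exact L.mul_mem hρ hbρ
      exact hle hn'
    · -- fixed points of `M` lie in `L`
      obtain ⟨hcM1, hcM2⟩ := hcM
      obtain ⟨ρ, hρ, ν, hν, rfl⟩ := hMsplit c hcM1
      have hca : a * (ρ * ν) = (ρ * ν) * a :=
        (mem_centralizer_iff.1 hcM2) a (mem_zpowers a)
      have hρa : a * ρ = ρ * a := by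
        have h1 : a * ρ * ν = ρ * a * ν := by
          calc a * ρ * ν = a * (ρ * ν) := by group
            _ = (ρ * ν) * a := hca
            _ = ρ * (ν * a) := by group
            _ = ρ * (a * ν) := by rw [hZfix ν hν]
            _ = ρ * a * ν := by group
        exact mul_right_cancel h1
      have hρstar : ρ ∈ star a H := hLfix ⟨hρ, mem_centralizer_singleton_iff.2 hρa.symm⟩
      have hcstar : ρ * ν ∈ star a H :=
        hKfix ⟨hMK hcM1, mem_centralizer_singleton_iff.2 hca.symm⟩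
      have hνstar : ν ∈ star a H := by
        have : ν = ρ⁻¹ * (ρ * ν) := by group
        rw [this]
        exact (star a H).mul_mem ((star a H).inv_mem hρstar) hcstar
      have hν1 : ν = 1 := by
        have h2 : ν ∈ ZZ a H ⊓ star a H := ⟨hν, hνstar⟩
        rw [hZs] at h2
        exact mem_bot.1 h2
      rw [hν1, mul_one]
      exact hρ
  -- the generators
  have hni : ∀ k : ℕ, a ^ k * n * (a ^ k)⁻¹ ∈ N := fun k => h29_inv_pow hNa k n hn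
  have hli : ∀ k : ℕ, a ^ k * l * (a ^ k)⁻¹ ∈ L := fun k => h29_inv_pow hLa k l hl
  have hyL : ∀ k : ℕ, l⁻¹ * (a ^ k * l * (a ^ k)⁻¹) ∈ L := fun k => L.mul_mem (L.inv_mem hl) (hli k)
  have hgK : ∀ k : ℕ, (l * n)⁻¹ * (a ^ k * (l * n) * (a ^ k)⁻¹) ∈ K :=
    fun k => subset_closure ⟨k, rfl⟩
  -- abbreviations
  set yi := l⁻¹ * (a ^ i * l * (a ^ i)⁻¹) with hyi
  set yj := l⁻¹ * (a ^ j * l * (a ^ j)⁻¹) with hyj
  set ni := a ^ i * n * (a ^ i)⁻¹ with hnidef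
  set nj := a ^ j * n * (a ^ j)⁻¹ with hnjdef
  have hyiL : yi ∈ L := hyL i
  have hyjL : yj ∈ L := hyL j
  have hniN : ni ∈ N := hni i
  have hnjN : nj ∈ N := hni j
  -- `ũ`
  have huiN : yi⁻¹ * n⁻¹ * yi * ni ∈ N := by
    have h1 : yi⁻¹ * n⁻¹ * yi⁻¹⁻¹ ∈ N := hLN _ (L.inv_mem hyiL) _ (N.inv_mem hn)
    rw [inv_inv] at h1
    exact N.mul_mem h1 hniN
  have hujN : yj⁻¹ * n⁻¹ * yj * nj ∈ N := by
    have h1 : yj⁻¹ * n⁻¹ * yj⁻¹⁻¹ ∈ N := hLN _ (L.inv_mem hyjL) _ (N.inv_mem hn)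
    rw [inv_inv] at h1
    exact N.mul_mem h1 hnjN
  have hgi : (l * n)⁻¹ * (a ^ i * (l * n) * (a ^ i)⁻¹) = yi * (yi⁻¹ * n⁻¹ * yi * ni) := by
    rw [hyi, hnidef]; group
  have hgj : (l * n)⁻¹ * (a ^ j * (l * n) * (a ^ j)⁻¹) = yj * (yj⁻¹ * n⁻¹ * yj * nj) := by
    rw [hyj, hnjdef]; group
  -- the commutator of the generators
  set ui := yi⁻¹ * n⁻¹ * yi * ni with hui
  set uj := yj⁻¹ * n⁻¹ * yj * nj with huj
  have hc1 : ui * yj * ui⁻¹ * yj⁻¹ ∈ ZZ a H := hc ui huiN yj hyjL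
  have hc2 : uj * yi * uj⁻¹ * yi⁻¹ ∈ ZZ a H := hc uj hujN yi hyiL
  have key := h29_comm_prod yi ui yj uj (ui * yj * ui⁻¹ * yj⁻¹) (uj * yi * uj⁻¹ * yi⁻¹)
    (by group) (by group) (hNab ui huiN uj hujN) (hZcen _ hc1 yi (hLH hyiL))
    (hZcen _ hc2 yi (hLH hyiL)) (hZcen _ hc2 yj (hLH hyjL))
  have hcommM : ⁅yi * ui, yj * uj⁆ ∈ L := by
    apply hML
    rw [← hgi, ← hgj]
    exact commutator_mem_commutator (hgK i) (hgK j)
  have hyyL : ⁅yi, yj⁆ ∈ L := (commutator_le_self L) (commutator_mem_commutator hyiL hyjL)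
  have hzL : (ui * yj * ui⁻¹ * yj⁻¹) * (uj * yi * uj⁻¹ * yi⁻¹)⁻¹ ∈ L := by
    have h1 : (ui * yj * ui⁻¹ * yj⁻¹) * (uj * yi * uj⁻¹ * yi⁻¹)⁻¹ =
        ⁅yi * ui, yj * uj⁆ * ⁅yi, yj⁆⁻¹ := by
      rw [key]; group
    rw [h1]
    exact L.mul_mem hcommM (L.inv_mem hyyL)
  have hz1 : (ui * yj * ui⁻¹ * yj⁻¹) * (uj * yi * uj⁻¹ * yi⁻¹)⁻¹ = 1 :=
    hLZ _ hzL ((ZZ a H).mul_mem hc1 ((ZZ a H).inv_mem hc2))
  have hceq : ui * yj * ui⁻¹ * yj⁻¹ = uj * yi * uj⁻¹ * yi⁻¹ := mul_inv_eq_one.1 hz1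
  -- remove the central factors
  have hζi : yi⁻¹ * n⁻¹ * yi * n ∈ ZZ a H := by
    have h1 := hc n⁻¹ (N.inv_mem hn) yi⁻¹ (L.inv_mem hyiL)
    have h2 : yi⁻¹ * n⁻¹ * yi * n = (n⁻¹ * yi⁻¹ * n⁻¹⁻¹ * yi⁻¹⁻¹)⁻¹ := by group
    rw [h2]
    exact (ZZ a H).inv_mem h1
  have hζj : yj⁻¹ * n⁻¹ * yj * n ∈ ZZ a H := by
    have h1 := hc n⁻¹ (N.inv_mem hn) yj⁻¹ (L.inv_mem hyjL)
    have h2 : yj⁻¹ * n⁻¹ * yj * n = (n⁻¹ * yj⁻¹ * n⁻¹⁻¹ * yj⁻¹⁻¹)⁻¹ := by group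
    rw [h2]
    exact (ZZ a H).inv_mem h1
  have hui' : ui = (yi⁻¹ * n⁻¹ * yi * n) * (n⁻¹ * ni) := by rw [hui]; group
  have huj' : uj = (yj⁻¹ * n⁻¹ * yj * n) * (n⁻¹ * nj) := by rw [huj]; group
  have hnniH : n⁻¹ * ni ∈ H := hNH (N.mul_mem (N.inv_mem hn) hniN)
  have hnnjH : n⁻¹ * nj ∈ H := hNH (N.mul_mem (N.inv_mem hn) hnjN)
  have e1 : ⁅ui, yj⁆ = ⁅n⁻¹ * ni, yj⁆ := by
    rw [hui']
    apply h29_comm_central
    exact hZcen _ hζi _ (H.mul_mem (H.mul_mem hnniH (hLH hyjL)) (H.inv_mem hnniH))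
  have e2 : ⁅uj, yi⁆ = ⁅n⁻¹ * nj, yi⁆ := by
    rw [huj']
    apply h29_comm_central
    exact hZcen _ hζj _ (H.mul_mem (H.mul_mem hnnjH (hLH hyiL)) (H.inv_mem hnnjH))
  rw [← e1, ← e2, commutatorElement_def, commutatorElement_def]
  exact hceq

end Cfsg.Agent.Helper29.FC
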