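import Mathlib
import Cfsg.Agent.Lib.Helper14.GLIDefs
import Cfsg.Agent.Lib.Helper12.GLIGCOARSE

set_option autoImplicit false

/-! # GLI (ORBCOUNT), for helper14's GLI server (S5958) -/

namespace Cfsg.Agent.Helper29.GLI

open Module Polynomial Cfsg.Agent.Helper14.GLI

section orbits

variable {t : ℕ} (σ : Equiv.Perm (Fin t)) (r : ℕ)

/-- the `σ`-orbit of `j` (when `σ ^ r = 1`) -/
def h29_orb (j : Fin t) : Finset (Fin t) := (Finset.range r).image (fun m => (σ ^ m) j)

theorem h29_mem_orb_self (hr : 0 < r) (j : Fin t) : j ∈ h29_orb σ r j :=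
  Finset.mem_image.2 ⟨0, Finset.mem_range.2 hr, by simp⟩

theorem h29_pow_succ_apply (m : ℕ) (j : Fin t) : (σ ^ m) (σ j) = (σ ^ (m + 1)) j := by
  rw [pow_succ, Equiv.Perm.mul_apply]

theorem h29_orb_apply (hσr : σ ^ r = 1) (hr : 0 < r) (j : Fin t) :
    h29_orb σ r (σ j) = h29_orb σ r j := by
  ext k
  simp only [h29_orb, Finset.mem_image, Finset.mem_range]
  constructor
  · rintro ⟨m, hm, rfl⟩
    by_cases h : m + 1 < r
    · exact ⟨m + 1, h, (h29_pow_succ_apply σ m j).symm⟩
    · have h1 : m + 1 = r := by omega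
      refine ⟨0, hr, ?_⟩
      rw [h29_pow_succ_apply, h1, hσr]
      simp
  · rintro ⟨m, hm, rfl⟩
    rcases Nat.eq_zero_or_pos m with rfl | hpos
    · refine ⟨r - 1, by omega, ?_⟩
      rw [h29_pow_succ_apply, Nat.sub_add_cancel hr, hσr]
      simp
    · refine ⟨m - 1, by omega, ?_⟩
      rw [h29_pow_succ_apply, Nat.sub_add_cancel hpos]

theorem h29_orb_pow (hσr : σ ^ r = 1) (hr : 0 < r) (m : ℕ) (j : Fin t) :
    h29_orb σ r ((σ ^ m) j) = h29_orb σ r j := by
  induction m with
  | zero => simp
  | succ m ih => rw [pow_succ', Equiv.Perm.mul_apply, h29_orb_apply σ r hσr hr, ih]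

theorem h29_orb_eq_of_mem (hσr : σ ^ r = 1) (hr : 0 < r) {j k : Fin t}
    (h : k ∈ h29_orb σ r j) : h29_orb σ r k = h29_orb σ r j := by
  obtain ⟨m, _, rfl⟩ := Finset.mem_image.1 h
  exact h29_orb_pow σ r hσr hr m j

/-- the minimum of the orbit -/
def h29_rep (hr : 0 < r) (j : Fin t) : Fin t :=
  (h29_orb σ r j).min' ⟨j, h29_mem_orb_self σ r hr j⟩

theorem h29_rep_mem (hr : 0 < r) (j : Fin t) : h29_rep σ r hr j ∈ h29_orb σ r j :=
  Finset.min'_mem _ _

theorem h29_rep_eq_of_orb_eq (hr : 0 < r) {j k : Fin t} (h : h29_orb σ r j = h29_orb σ r k) :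
    h29_rep σ r hr j = h29_rep σ r hr k := by
  apply le_antisymm
  · apply Finset.min'_le
    rw [h]
    exact h29_rep_mem σ r hr k
  · apply Finset.min'_le
    rw [← h]
    exact h29_rep_mem σ r hr j

theorem h29_rep_rep (hσr : σ ^ r = 1) (hr : 0 < r) (j : Fin t) :
    h29_rep σ r hr (h29_rep σ r hr j) = h29_rep σ r hr j :=
  h29_rep_eq_of_orb_eq σ r hr (h29_orb_eq_of_mem σ r hσr hr (h29_rep_mem σ r hr j))

theorem h29_rep_pow (hσr : σ ^ r = 1) (hr : 0 < r) (m : ℕ) (j : Fin t) :
    h29_rep σ r hr ((σ ^ m) j) = h29_rep σ r hr j :=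
  h29_rep_eq_of_orb_eq σ r hr (h29_orb_pow σ r hσr hr m j)

/-- the fibre of `rep` over a representative is its orbit -/
theorem h29_fibre (hσr : σ ^ r = 1) (hr : 0 < r) {i : Fin t} (hi : h29_rep σ r hr i = i)
    (k : Fin t) : h29_rep σ r hr k = i ↔ k ∈ h29_orb σ r i := by
  constructor
  · intro h
    have h1 : i ∈ h29_orb σ r k := h ▸ h29_rep_mem σ r hr k
    rw [h29_orb_eq_of_mem σ r hσr hr h1]
    exact h29_mem_orb_self σ r hr k
  · intro h
    rw [h29_rep_eq_of_orb_eq σ r hr (h29_orb_eq_of_mem σ r hσr hr h), hi]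

/-- a point fixed by a proper power is fixed -/
theorem h29_fixed_of_pow_fixed (hrp : r.Prime) (hσr : σ ^ r = 1) {m : ℕ} (hm0 : 0 < m)
    (hmr : m < r) {j : Fin t} (h : (σ ^ m) j = j) : σ j = j := by
  have hcop : Nat.Coprime m r :=
    Nat.Coprime.symm ((Nat.Prime.coprime_iff_not_dvd hrp).2 (Nat.not_dvd_of_pos_of_lt hm0 hmr))
  obtain ⟨u, -, hu⟩ := Nat.exists_mul_mod_eq_one_of_coprime hcop hrp.one_lt
  have h1 : ((σ ^ m) ^ u) j = j := Equiv.Perm.pow_apply_eq_self_of_apply_eq_self h u
  have h2 : (σ ^ m) ^ u = σ := by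
    rw [← pow_mul, ← Nat.div_add_mod (m * u) r, hu, pow_add, pow_mul, hσr, one_pow, one_mul,
      pow_one]
  rwa [h2] at h1

end orbits

/-- (ORBCOUNT) `N = ∑_{m<r} x^m` is injective on `⨁_{j ∈ J₀} D j`, `J₀` a set of representatives of
the `σ`-orbits (all nontrivial orbits have size `r`, since `σ ^ r = 1`), with image in the fixed space. -/
theorem orbit_count {F V : Type*} [Field F] [AddCommGroup V] [Module F V]
    [FiniteDimensional F V] (x : V →ₗ[F] V) (r : ℕ) [Fact r.Prime] (hr0 : (r : F) ≠ 0)
    (hxr : x ^ r = 1)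
    {t : ℕ} (a : ℕ) (ha : 0 < a) (D : Fin t → Submodule F V) (hDa : ∀ j, finrank F (D j) = a)
    (hind : iSupIndep D) (σ : Equiv.Perm (Fin t)) (hσ : ∀ j, (D j).map x = D (σ j))
    (htriv : ∀ j, σ j = j → ∀ v ∈ D j, x v = v) :
    ∃ s : ℕ, (Finset.univ.filter (fun j => σ j ≠ j)).card = s * r ∧
      a * (s + (Finset.univ.filter (fun j => σ j = j)).card) ≤
        finrank F (LinearMap.ker (x - 1)) := by
  classical
  have hrp : r.Prime := Fact.out
  have hr : 0 < r := hrp.pos
  have hDne : ∀ j, D j ≠ ⊥ := by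
    intro j h
    have := hDa j
    rw [h, finrank_bot] at this
    omega
  have hinj : Function.Injective D := hind.injective hDne
  -- powers of `x` permute the `D j` by powers of `σ`
  have hpow : ∀ m j, (D j).map (x ^ m) = D ((σ ^ m) j) := by
    intro m
    induction m with
    | zero =>
      intro j
      rw [pow_zero, pow_zero, Module.End.one_eq_id, Submodule.map_id]
      rfl
    | succ m ih =>
      intro j
      rw [pow_succ', Module.End.mul_eq_comp, Submodule.map_comp, ih, hσ, pow_succ',
        Equiv.Perm.mul_apply]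
  have hpowmem : ∀ m j, ∀ v ∈ D j, (x ^ m) v ∈ D ((σ ^ m) j) := by
    intro m j v hv
    rw [← hpow]
    exact Submodule.mem_map_of_mem hv
  have hσr : σ ^ r = 1 := by
    refine Equiv.ext fun j => hinj ?_
    rw [← hpow, hxr, Module.End.one_eq_id, Submodule.map_id]
    rfl
  -- the norm map
  set N : V →ₗ[F] V := ∑ m ∈ Finset.range r, x ^ m with hN
  have hNker : ∀ v, N v ∈ LinearMap.ker (x - 1) := by
    intro v
    rw [LinearMap.mem_ker]
    have h1 : (x - 1) * N = 0 := by
      rw [hN, mul_geom_sum, hxr, sub_self]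
    have h2 := congrArg (fun f : V →ₗ[F] V => f v) h1
    simpa using h2
  have hNapply : ∀ v, N v = ∑ m ∈ Finset.range r, (x ^ m) v := by
    intro v
    rw [hN, LinearMap.sum_apply]
  -- injectivity of `N` on a moved part
  have hNinj : ∀ j, σ j ≠ j → ∀ v ∈ D j, N v = 0 → v = 0 := by
    intro j hj v hv h0
    obtain ⟨r', rfl⟩ : ∃ r', r = r' + 1 := ⟨r - 1, by omega⟩
    rw [hNapply, Finset.sum_range_succ', pow_zero, Module.End.one_apply] at h0
    have hrest : (∑ m ∈ Finset.range r', (x ^ (m + 1)) v) ∈ ⨆ (k : Fin t) (_ : k ≠ j), D k := by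
      apply Submodule.sum_mem
      intro m hm
      have hm' : m + 1 < r' + 1 := by
        have := Finset.mem_range.1 hm
        omega
      have hne : (σ ^ (m + 1)) j ≠ j := fun h =>
        hj (h29_fixed_of_pow_fixed σ (r' + 1) hrp hσr (Nat.succ_pos m) hm' h)
      exact Submodule.mem_iSup_of_mem _ (Submodule.mem_iSup_of_mem hne (hpowmem (m + 1) j v hv))
    have hv' : v ∈ ⨆ (k : Fin t) (_ : k ≠ j), D k := by
      have : v = -(∑ m ∈ Finset.range r', (x ^ (m + 1)) v) := by
        rw [eq_neg_iff_add_eq_zero, add_comm]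
        exact h0
      rw [this]
      exact Submodule.neg_mem _ hrest
    exact (Submodule.disjoint_def.1 (hind j)) v hv hv'
  -- the coarsened family
  set rep : Fin t → Fin t := h29_rep σ r hr with hrep
  have hcoarse := (Cfsg.Agent.Helper12.GLI.gl_coarsen (iSup D) D ⟨hind, rfl⟩ rep).1
  -- the pieces of the fixed space
  set E : Fin t → Submodule F V := fun i =>
    if rep i = i then (if σ i = i then D i else (D i).map N) else ⊥ with hE
  have hEle : ∀ i, E i ≤ ⨆ (k : Fin t) (_ : rep k = i), D k := by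
    intro i
    simp only [hE]
    split_ifs with h1 h2
    · exact le_iSup₂ (f := fun k (_ : rep k = i) => D k) i h1
    · rintro _ ⟨v, hv, rfl⟩
      rw [hNapply]
      apply Submodule.sum_mem
      intro m _
      have h3 : rep ((σ ^ m) i) = i := by
        rw [hrep, h29_rep_pow σ r hσr hr m i]
        exact h1
      exact Submodule.mem_iSup_of_mem _ (Submodule.mem_iSup_of_mem h3 (hpowmem m i v hv))
    · exact bot_le
  have hEker : ∀ i, E i ≤ LinearMap.ker (x - 1) := by
    intro i
    simp only [hE]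
    split_ifs with h1 h2
    · intro v hv
      rw [LinearMap.mem_ker, LinearMap.sub_apply, htriv i h2 v hv, Module.End.one_apply, sub_self]
    · rintro _ ⟨v, _, rfl⟩
      exact hNker v
    · exact bot_le
  have hEdim : ∀ i, rep i = i → a ≤ finrank F (E i) := by
    intro i h1
    show a ≤ finrank F ↥(if rep i = i then (if σ i = i then D i else (D i).map N) else ⊥)
    rw [if_pos h1]
    by_cases h2 : σ i = i
    · rw [if_pos h2]
      exact (hDa i).ge
    · rw [if_neg h2]
      have hinj' : Function.Injective (N ∘ₗ (D i).subtype) := by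
        rw [← LinearMap.ker_eq_bot, LinearMap.ker_eq_bot']
        intro v hv
        exact Subtype.ext (hNinj i h2 v.1 v.2 hv)
      have h3 := LinearMap.finrank_range_of_inj hinj'
      rw [LinearMap.range_comp, Submodule.range_subtype] at h3
      rw [h3, hDa i]
  have hEind : iSupIndep E := hcoarse.indep.mono hEle
  have hsum : finrank F ↥(⨆ k ∈ (Finset.univ : Finset (Fin t)), E k) =
      ∑ k ∈ (Finset.univ : Finset (Fin t)), finrank F (E k) :=
    Cfsg.Agent.Helper12.SPI.h12_finrank_biSup E hEind Finset.univ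
  have hle : (⨆ k ∈ (Finset.univ : Finset (Fin t)), E k) ≤ LinearMap.ker (x - 1) :=
    iSup₂_le fun k _ => hEker k
  have hfin := Submodule.finrank_mono hle
  rw [hsum] at hfin
  -- counting
  set J₀ : Finset (Fin t) := Finset.univ.filter (fun i => rep i = i) with hJ₀
  have hcount1 : a * J₀.card ≤ ∑ k ∈ (Finset.univ : Finset (Fin t)), finrank F (E k) := by
    calc a * J₀.card = ∑ _k ∈ J₀, a := by rw [Finset.sum_const, smul_eq_mul, mul_comm]
      _ ≤ ∑ k ∈ J₀, finrank F (E k) :=
        Finset.sum_le_sum fun k hk => hEdim k (Finset.mem_filter.1 hk).2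
      _ ≤ ∑ k ∈ (Finset.univ : Finset (Fin t)), finrank F (E k) :=
        Finset.sum_le_sum_of_subset (Finset.filter_subset _ _)
  -- fixed points are representatives
  have hfixrep : ∀ i, σ i = i → rep i = i := by
    intro i hi
    have h1 : rep i ∈ h29_orb σ r i := h29_rep_mem σ r hr i
    obtain ⟨m, _, hm⟩ := Finset.mem_image.1 h1
    rw [← hm]
    exact Equiv.Perm.pow_apply_eq_self_of_apply_eq_self hi m
  set J₁ : Finset (Fin t) := J₀.filter (fun i => σ i ≠ i) with hJ₁
  have hJ₀card : J₀.card = J₁.card + (Finset.univ.filter (fun j => σ j = j)).card := by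
    have h1 := Finset.card_filter_add_card_filter_not (s := J₀) (fun i => σ i ≠ i)
    have h2 : J₀.filter (fun i => ¬ σ i ≠ i) = Finset.univ.filter (fun j => σ j = j) := by
      ext i
      simp only [hJ₀, Finset.mem_filter, Finset.mem_univ, true_and, not_not]
      constructor
      · exact fun h => h.2
      · exact fun h => ⟨hfixrep i h, h⟩
    rw [h2] at h1
    exact h1.symm
  refine ⟨J₁.card, ?_, ?_⟩
  · -- the moved points are the union of the orbits of the moved representatives
    have hmaps : ∀ k ∈ Finset.univ.filter (fun j => σ j ≠ j), rep k ∈ J₁ := by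
      intro k hk
      have hk' : σ k ≠ k := (Finset.mem_filter.1 hk).2
      simp only [hJ₁, hJ₀, Finset.mem_filter, Finset.mem_univ, true_and]
      refine ⟨h29_rep_rep σ r hσr hr k, fun hfix => hk' ?_⟩
      -- `k` is in the orbit of the fixed point `rep k`
      have h1 : k ∈ h29_orb σ r (rep k) := by
        rw [h29_orb_eq_of_mem σ r hσr hr (h29_rep_mem σ r hr k)]
        exact h29_mem_orb_self σ r hr k
      obtain ⟨m, _, hm⟩ := Finset.mem_image.1 h1
      have h2 : (σ ^ m) (rep k) = rep k := Equiv.Perm.pow_apply_eq_self_of_apply_eq_self hfix m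
      rw [← hm, h2]
      exact hfix
    rw [Finset.card_eq_sum_card_fiberwise hmaps]
    have hfib : ∀ i ∈ J₁, ((Finset.univ.filter (fun j => σ j ≠ j)).filter
        (fun k => rep k = i)).card = r := by
      intro i hi
      simp only [hJ₁, hJ₀, Finset.mem_filter, Finset.mem_univ, true_and] at hi
      obtain ⟨hi1, hi2⟩ := hi
      have h1 : (Finset.univ.filter (fun j => σ j ≠ j)).filter (fun k => rep k = i) =
          h29_orb σ r i := by
        ext k
        simp only [Finset.mem_filter, Finset.mem_univ, true_and]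
        rw [h29_fibre σ r hσr hr hi1 k]
        constructor
        · exact fun h => h.2
        · intro h
          refine ⟨fun hfix => hi2 ?_, h⟩
          -- `i` is in the orbit of the fixed point `k`
          have h3 : i ∈ h29_orb σ r k := by
            rw [h29_orb_eq_of_mem σ r hσr hr h]
            exact h29_mem_orb_self σ r hr i
          obtain ⟨m, _, hm⟩ := Finset.mem_image.1 h3
          have h4 : (σ ^ m) k = k := Equiv.Perm.pow_apply_eq_self_of_apply_eq_self hfix m
          rw [← hm, h4]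
          exact hfix
      rw [h1, h29_orb, Finset.card_image_of_injOn, Finset.card_range]
      intro m hm m' hm' hmm
      simp only [Finset.coe_range, Set.mem_Iio] at hm hm'
      by_contra hne
      -- wlog m < m'
      have key : ∀ p q : ℕ, p < q → q < r → (σ ^ p) i = (σ ^ q) i → False := by
        intro p q hpq hq h
        have h5 : (σ ^ (q - p)) i = i := by
          have h6 : (σ ^ q) i = (σ ^ p) ((σ ^ (q - p)) i) := by
            rw [← Equiv.Perm.mul_apply, ← pow_add, Nat.add_sub_cancel' hpq.le]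
          rw [h6] at h
          exact ((σ ^ p).injective h).symm
        exact hi2 (h29_fixed_of_pow_fixed σ r hrp hσr (by omega) (by omega) h5)
      rcases lt_or_gt_of_ne hne with h | h
      · exact key m m' h hm' hmm
      · exact key m' m h hm hmm.symm
    rw [Finset.sum_congr rfl hfib, Finset.sum_const, smul_eq_mul]
  · rw [← hJ₀card]
    exact hcount1.trans hfin

end Cfsg.Agent.Helper29.GLI
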