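import Mathlib
import Cfsg.Agent.Lib.Helper96.Frobenius

set_option autoImplicit false

/-!
# A global fixed point from unique fixed points

If a finite group `X` acts on a (nonempty) set so that every non-identity element has exactly one
fixed point, then `X` has a global fixed point.  (Counting argument: two non-conjugate Frobenius
complements cannot coexist in a group of order `|X|`.)
-/

namespace Cfsg.Agent.Helper29

open scoped Pointwise

section GlobalFix

variable {X : Type*} [Group X] {Ω : Type*} [MulAction X Ω]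

/-- stabilizers are Frobenius complements when nonidentity elements have a unique fixed point -/
theorem isFrobeniusComplement_stabilizer
    (huniq : ∀ x : X, x ≠ 1 → ∀ a b : Ω, x • a = a → x • b = b → a = b)
    (ω : Ω) (hbot : MulAction.stabilizer X ω ≠ ⊥) (htop : MulAction.stabilizer X ω ≠ ⊤) :
    Cfsg.IsFrobeniusComplement (MulAction.stabilizer X ω) := by
  refine ⟨hbot, htop, ?_⟩
  intro g hg
  rw [Subgroup.eq_bot_iff_forall]
  rintro x ⟨hx1, hx2⟩
  by_contra hx
  apply hg
  have hx1' : x • ω = ω := hx1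
  have hx2' : g⁻¹ * x * g ∈ MulAction.stabilizer X ω :=
    (Cfsg.Agent.Helper96.mem_conj_smul_iff _ g x).mp hx2
  have hx3 : x • (g • ω) = g • ω := by
    have h3 : (g⁻¹ * x * g) • ω = ω := hx2'
    have : x • (g • ω) = g • ((g⁻¹ * x * g) • ω) := by
      simp only [← mul_smul]
      congr 1
      group
    rw [this, h3]
  have := huniq x hx _ _ hx3 hx1'
  exact this

theorem exists_global_fixed_point [Finite X] [Nonempty Ω]
    (hex : ∀ x : X, x ≠ 1 → ∃ ω : Ω, x • ω = ω)
    (huniq : ∀ x : X, x ≠ 1 → ∀ a b : Ω, x • a = a → x • b = b → a = b) :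
    ∃ ω : Ω, ∀ x : X, x • ω = ω := by
  classical
  by_cases htriv : ∀ x : X, x = 1
  · obtain ⟨ω⟩ := ‹Nonempty Ω›
    exact ⟨ω, fun x => by rw [htriv x, one_smul]⟩
  push Not at htriv
  obtain ⟨x₀, hx₀⟩ := htriv
  obtain ⟨ω₀, hω₀⟩ := hex x₀ hx₀
  by_contra hcon
  push Not at hcon
  -- S₀
  have hS₀bot : MulAction.stabilizer X ω₀ ≠ ⊥ := by
    intro h
    have : x₀ ∈ MulAction.stabilizer X ω₀ := hω₀
    rw [h, Subgroup.mem_bot] at this
    exact hx₀ this
  have hS₀top : MulAction.stabilizer X ω₀ ≠ ⊤ := by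
    intro h
    obtain ⟨y, hy⟩ := hcon ω₀
    apply hy
    have : y ∈ MulAction.stabilizer X ω₀ := by rw [h]; trivial
    exact this
  have hF₀ := isFrobeniusComplement_stabilizer huniq ω₀ hS₀bot hS₀top
  have hker₀ := Cfsg.Agent.Helper96.card_frobeniusKernel hF₀
  have hidx₀ := Subgroup.index_mul_card (MulAction.stabilizer X ω₀)
  have hcard₀ : 2 ≤ Nat.card (MulAction.stabilizer X ω₀) := by
    rw [Nat.succ_le_iff, Finite.one_lt_card_iff_nontrivial]
    exact (Subgroup.nontrivial_iff_ne_bot _).mpr hS₀bot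
  have hidx₀2 : 2 ≤ (MulAction.stabilizer X ω₀).index := by
    have h1 : (MulAction.stabilizer X ω₀).index ≠ 1 := by
      rw [Ne, Subgroup.index_eq_one]; exact hS₀top
    have h0 : (MulAction.stabilizer X ω₀).index ≠ 0 := Subgroup.index_ne_zero_of_finite
    omega
  -- a nonidentity element of the kernel of S₀
  obtain ⟨x', hx'ker, hx'1⟩ : ∃ x' : X, x' ∈ Cfsg.frobeniusKernel (MulAction.stabilizer X ω₀) ∧
      x' ≠ 1 := by
    by_contra hno
    push Not at hno
    have hsub : Cfsg.frobeniusKernel (MulAction.stabilizer X ω₀) ⊆ {1} := by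
      intro y hy
      exact hno y hy
    have : Nat.card (Cfsg.frobeniusKernel (MulAction.stabilizer X ω₀)) ≤ 1 := by
      have h1 := Set.ncard_le_ncard hsub (Set.finite_singleton 1)
      rw [Set.ncard_singleton] at h1
      rwa [Nat.card_coe_set_eq]
    omega
  obtain ⟨ω', hω'⟩ := hex x' hx'1
  have hx'notconj : ∀ g : X, g⁻¹ * x' * g ∉ MulAction.stabilizer X ω₀ := by
    rcases (Cfsg.Agent.Helper96.mem_frobeniusKernel_iff _ x').mp hx'ker with h | h
    · exact absurd h hx'1
    · exact h
  have hS'bot : MulAction.stabilizer X ω' ≠ ⊥ := by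
    intro h
    have : x' ∈ MulAction.stabilizer X ω' := hω'
    rw [h, Subgroup.mem_bot] at this
    exact hx'1 this
  have hS'top : MulAction.stabilizer X ω' ≠ ⊤ := by
    intro h
    obtain ⟨y, hy⟩ := hcon ω'
    apply hy
    have : y ∈ MulAction.stabilizer X ω' := by rw [h]; trivial
    exact this
  have hF' := isFrobeniusComplement_stabilizer huniq ω' hS'bot hS'top
  have hcomp' := Cfsg.Agent.Helper96.card_compl_frobeniusKernel hF'
  have hidx' := Subgroup.index_mul_card (MulAction.stabilizer X ω')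
  have hcard' : 2 ≤ Nat.card (MulAction.stabilizer X ω') := by
    rw [Nat.succ_le_iff, Finite.one_lt_card_iff_nontrivial]
    exact (Subgroup.nontrivial_iff_ne_bot _).mpr hS'bot
  -- the complement of the kernel of S' lies in the kernel of S₀ minus 1
  have hsub : (Cfsg.frobeniusKernel (MulAction.stabilizer X ω'))ᶜ ⊆
      Cfsg.frobeniusKernel (MulAction.stabilizer X ω₀) \ {1} := by
    intro y hy
    have hy' := (Cfsg.Agent.Helper96.not_mem_frobeniusKernel_iff _ y).mp hy
    obtain ⟨hy1, g', hg'⟩ := hy'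
    refine ⟨?_, hy1⟩
    rw [Cfsg.Agent.Helper96.mem_frobeniusKernel_iff]
    right
    intro g hg
    -- y fixes g • ω₀ and g' • ω'
    have h1 : y • (g • ω₀) = g • ω₀ := by
      have h3 : (g⁻¹ * y * g) • ω₀ = ω₀ := hg
      have : y • (g • ω₀) = g • ((g⁻¹ * y * g) • ω₀) := by
        simp only [← mul_smul]
        congr 1
        group
      rw [this, h3]
    have h2 : y • (g' • ω') = g' • ω' := by
      have h3 : (g'⁻¹ * y * g') • ω' = ω' := hg'
      have : y • (g' • ω') = g' • ((g'⁻¹ * y * g') • ω') := by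
        simp only [← mul_smul]
        congr 1
        group
      rw [this, h3]
    have h3 : g • ω₀ = g' • ω' := huniq y hy1 _ _ h1 h2
    have h4 : ω' = (g'⁻¹ * g) • ω₀ := by
      rw [mul_smul, h3, inv_smul_smul]
    apply hx'notconj (g'⁻¹ * g)
    show ((g'⁻¹ * g)⁻¹ * x' * (g'⁻¹ * g)) • ω₀ = ω₀
    have h5 : x' • ((g'⁻¹ * g) • ω₀) = (g'⁻¹ * g) • ω₀ := by rw [← h4]; exact hω'
    calc ((g'⁻¹ * g)⁻¹ * x' * (g'⁻¹ * g)) • ω₀
        = (g'⁻¹ * g)⁻¹ • (x' • ((g'⁻¹ * g) • ω₀)) := by simp only [mul_smul]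
      _ = ω₀ := by rw [h5, inv_smul_smul]
  have hle : Nat.card {x : X // x ∉ Cfsg.frobeniusKernel (MulAction.stabilizer X ω')} ≤
      (MulAction.stabilizer X ω₀).index - 1 := by
    have h1 := Set.ncard_le_ncard hsub (Set.toFinite _)
    have h2 : (Cfsg.frobeniusKernel (MulAction.stabilizer X ω₀) \ {1}).ncard =
        (Cfsg.frobeniusKernel (MulAction.stabilizer X ω₀)).ncard - 1 := by
      apply Set.ncard_sdiff_singleton_of_mem
      rw [Cfsg.Agent.Helper96.mem_frobeniusKernel_iff]
      left; rfl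
    rw [h2, ← Nat.card_coe_set_eq (Cfsg.frobeniusKernel (MulAction.stabilizer X ω₀)), hker₀]
      at h1
    have h3 : Nat.card {x : X // x ∉ Cfsg.frobeniusKernel (MulAction.stabilizer X ω')} =
        ((Cfsg.frobeniusKernel (MulAction.stabilizer X ω'))ᶜ).ncard := by
      rw [← Nat.card_coe_set_eq]
      rfl
    rw [h3]
    exact h1
  rw [hcomp'] at hle
  -- arithmetic
  have hXpos : 0 < Nat.card X := Nat.card_pos
  have hi'pos : 0 < (MulAction.stabilizer X ω').index :=
    Nat.pos_of_ne_zero Subgroup.index_ne_zero_of_finite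
  have e1 : (MulAction.stabilizer X ω').index * (Nat.card (MulAction.stabilizer X ω') - 1) =
      Nat.card X - (MulAction.stabilizer X ω').index := by
    rw [Nat.mul_sub, mul_one, hidx']
  rw [e1] at hle
  have e2 : 2 * (MulAction.stabilizer X ω').index ≤ Nat.card X := by
    rw [← hidx']
    nlinarith
  have e3 : 2 * (MulAction.stabilizer X ω₀).index ≤ Nat.card X := by
    rw [← hidx₀]
    nlinarith
  omega

end GlobalFix

end Cfsg.Agent.Helper29
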