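import Mathlib
import Cfsg.Agent.Lib.Helper54.O5760BDefs

/-! # N96 (L2), for helper54's N96 server (S0980, case n_5 = 96) -/

set_option autoImplicit false

namespace Cfsg.Agent.Helper29.N96

open Cfsg MulAction Cfsg.Agent.Helper54.O5760B

universe u

section Lines

variable {G : Type u} [Group G] [Finite G] {x r : G} {M : Subgroup G}

/-- one inclusion of (L2) -/
theorem h29_ln_congr_sub (c : Cfg x r M) (a a' b b' : G)
    (ha : ((a : G) : G ⧸ M) = ((a' : G) : G ⧸ M))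
    (hb : ((b : G) : G ⧸ M) = ((b' : G) : G ⧸ M)) : ln x M a b ⊆ ln x M a' b' := by
  intro p hp
  rcases hp with rfl | ⟨i, rfl⟩
  · exact Or.inl ha
  · have hm : a⁻¹ * a' ∈ M := QuotientGroup.eq.1 ha
    have hm' : b⁻¹ * b' ∈ M := QuotientGroup.eq.1 hb
    have h1 : (a⁻¹ * a')⁻¹ * x * (a⁻¹ * a')⁻¹⁻¹ ∈ Subgroup.zpowers x :=
      c.hnorm _ (M.inv_mem hm)
    rw [← mem_powers_iff_mem_zpowers, Submonoid.mem_powers_iff] at h1
    obtain ⟨k, hk⟩ := h1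
    refine Or.inr ⟨k * i, ?_⟩
    rw [QuotientGroup.eq]
    have h2 : x ^ (k * i) = (a⁻¹ * a')⁻¹ * x ^ i * (a⁻¹ * a')⁻¹⁻¹ := by
      rw [pow_mul, hk, conj_pow]
    have h3 : (a * x ^ i * a⁻¹ * b)⁻¹ * (a' * x ^ (k * i) * a'⁻¹ * b') = b⁻¹ * b' := by
      rw [h2]; group
    rw [h3]
    exact hm'

/-- (L2) -/
theorem ln_congr (c : Cfg x r M) (a a' b b' : G) (ha : ((a : G) : G ⧸ M) = ((a' : G) : G ⧸ M))
    (hb : ((b : G) : G ⧸ M) = ((b' : G) : G ⧸ M)) : ln x M a b = ln x M a' b' :=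
  Set.Subset.antisymm (h29_ln_congr_sub c a a' b b' ha hb) (h29_ln_congr_sub c a' a b' b ha.symm hb.symm)

end Lines

end Cfsg.Agent.Helper29.N96
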