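import Mathlib
import Cfsg.Agent.Lib.Helper54.O5760BDefs

/-! # N96 (L4), for helper54's N96 server (S0980, case n_5 = 96) -/

set_option autoImplicit false

namespace Cfsg.Agent.Helper29.N96

open Cfsg MulAction Cfsg.Agent.Helper54.O5760B

universe u

section Lines

variable {G : Type u} [Group G] [Finite G] {x r : G} {M : Subgroup G}

/-- an element `v` fixes the point `aM` when `a⁻¹ v a ∈ M` -/
theorem h29_fix_point (M : Subgroup G) (v a : G) (h : a⁻¹ * v * a ∈ M) :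
    v • ((a : G) : G ⧸ M) = ((a : G) : G ⧸ M) := by
  rw [MulAction.Quotient.smul_mk, QuotientGroup.eq]
  have h1 : (v • a)⁻¹ * a = (a⁻¹ * v * a)⁻¹ := by
    rw [smul_eq_mul]; group
  rw [h1]
  exact M.inv_mem h

/-- (L4) -/
theorem ln_eq_fixedBy (c : Cfg x r M) (a b : G) (h4 : (ln x M a b).ncard = 4)
    (v : G) (hv : orderOf v = 2) (hva : Commute v (a * x * a⁻¹)) (hvb : Commute v (b * x * b⁻¹)) :
    ln x M a b = fixedBy (G ⧸ M) v := by
  classical
  -- conjugates of `v` commuting with `x`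
  have hwx : ∀ d : G, Commute v (d * x * d⁻¹) → Commute (d⁻¹ * v * d) x := by
    intro d hd
    have h1 : v * (d * x * d⁻¹) = (d * x * d⁻¹) * v := hd
    show d⁻¹ * v * d * x = x * (d⁻¹ * v * d)
    calc d⁻¹ * v * d * x = d⁻¹ * (v * (d * x * d⁻¹)) * d := by group
      _ = d⁻¹ * ((d * x * d⁻¹) * v) * d := by rw [h1]
      _ = x * (d⁻¹ * v * d) := by group
  have hwM : ∀ d : G, Commute v (d * x * d⁻¹) → d⁻¹ * v * d ∈ M :=
    fun d hd => c.hcent _ (hwx d hd)
  have hfa : v • ((a : G) : G ⧸ M) = ((a : G) : G ⧸ M) := h29_fix_point M v a (hwM a hva)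
  have hfb : v • ((b : G) : G ⧸ M) = ((b : G) : G ⧸ M) := h29_fix_point M v b (hwM b hvb)
  -- `v` commutes with `a x^i a⁻¹`
  have hvi : ∀ i : ℕ, v * (a * x ^ i * a⁻¹) = (a * x ^ i * a⁻¹) * v := by
    intro i
    have h1 : a * x ^ i * a⁻¹ = (a * x * a⁻¹) ^ i := by
      rw [conj_pow]
    rw [h1]
    exact (hva.pow_right i)
  -- the line lies in the fixed set
  have hsub : ln x M a b ⊆ fixedBy (G ⧸ M) v := by
    intro q hq
    rw [mem_fixedBy]
    rcases hq with rfl | ⟨i, rfl⟩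
    · exact hfa
    · have h1 : ((a * x ^ i * a⁻¹ * b : G) : G ⧸ M) = (a * x ^ i * a⁻¹) • ((b : G) : G ⧸ M) := by
        rw [MulAction.Quotient.smul_mk, smul_eq_mul]
      rw [h1, smul_smul, hvi i, ← smul_smul, hfb]
  -- the fixed set has four points
  have hw2 : orderOf (a⁻¹ * v * a) = 2 := by
    have h1 : a⁻¹ * v * a = MulAut.conj a⁻¹ v := by
      rw [MulAut.conj_apply, inv_inv]
    rw [h1, MulEquiv.orderOf_eq]
    exact hv
  have hcardw : Nat.card (fixedBy (G ⧸ M) (a⁻¹ * v * a)) = 4 := c.hfour _ hw2 (hwx a hva)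
  have hcardv : Nat.card (fixedBy (G ⧸ M) v) = 4 := by
    rw [← hcardw]
    refine Nat.card_congr ⟨fun q => ⟨a⁻¹ • q.1, ?_⟩, fun q => ⟨a • q.1, ?_⟩, ?_, ?_⟩
    · rw [mem_fixedBy, smul_smul]
      have h1 : a⁻¹ * v * a * a⁻¹ = a⁻¹ * v := by group
      rw [h1, ← smul_smul, mem_fixedBy.1 q.2]
    · rw [mem_fixedBy, smul_smul]
      have h1 : v * a = a * (a⁻¹ * v * a) := by group
      rw [h1, ← smul_smul, mem_fixedBy.1 q.2]
    · intro q
      apply Subtype.ext
      simp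
    · intro q
      apply Subtype.ext
      simp
  have hfin : (fixedBy (G ⧸ M) v).Finite := Set.toFinite _
  apply Set.eq_of_subset_of_ncard_le hsub _ hfin
  rw [h4, ← _root_.Nat.card_coe_set_eq, hcardv]

end Lines

end Cfsg.Agent.Helper29.N96
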