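import Mathlib
import Cfsg.Agent.Lib.Helper54.O5760BDefs

/-! # N96 (L5), for helper54's N96 server (S0980, case n_5 = 96) -/

set_option autoImplicit false

namespace Cfsg.Agent.Helper29.N96

open Cfsg MulAction Cfsg.Agent.Helper54.O5760B

universe u

section Lines

variable {G : Type u} [Group G] [Finite G] {x r : G} {M : Subgroup G}

/-- (L5) -/
theorem ln_symm (c : Cfg x r M) (a b : G) (hab : ((a : G) : G ⧸ M) ≠ ((b : G) : G ⧸ M))
    (hfix : ∀ a b : G, ((a : G) : G ⧸ M) ≠ ((b : G) : G ⧸ M) → ∀ v : G, orderOf v = 2 →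
      Commute v (a * x * a⁻¹) → Commute v (b * x * b⁻¹) → ln x M a b = fixedBy (G ⧸ M) v) :
    ln x M a b = ln x M b a := by
  have hg : a⁻¹ * b ∉ M := fun h => hab (QuotientGroup.eq.2 h)
  obtain ⟨v₀, hv₀, hvx, hvg⟩ := c.hinv _ hg
  have hv : orderOf (a * v₀ * a⁻¹) = 2 := by
    have h1 : a * v₀ * a⁻¹ = MulAut.conj a v₀ := by rw [MulAut.conj_apply]
    rw [h1, MulEquiv.orderOf_eq]
    exact hv₀
  have hva : Commute (a * v₀ * a⁻¹) (a * x * a⁻¹) := (Commute.conj_iff a).2 hvx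
  have hvb : Commute (a * v₀ * a⁻¹) (b * x * b⁻¹) := by
    have h1 : b * x * b⁻¹ = a * ((a⁻¹ * b) * x * (a⁻¹ * b)⁻¹) * a⁻¹ := by group
    rw [h1]
    exact (Commute.conj_iff a).2 hvg
  rw [hfix a b hab _ hv hva hvb, hfix b a hab.symm _ hv hvb hva]

end Lines

end Cfsg.Agent.Helper29.N96
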