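import Mathlib
import Cfsg.Agent.Lib.Helper54.O5760BDefs

/-! # N96 (L9), for helper54's N96 server (S0980, case n_5 = 96) -/

set_option autoImplicit false

namespace Cfsg.Agent.Helper29.N96

open Cfsg MulAction Cfsg.Agent.Helper54.O5760B

universe u

section Lines

variable {G : Type u} [Group G] [Finite G] {x r : G} {M : Subgroup G}

/-- (L9) -/
theorem lines_smul (x : G) (M : Subgroup G)
    (hsmul : ∀ g a b : G, (fun p : G ⧸ M => g • p) '' ln x M a b = ln x M (g * a) (g * b))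
    (g : G) (ℓ : Set (G ⧸ M)) (hℓ : ℓ ∈ lines x M) :
    (fun p : G ⧸ M => g • p) '' ℓ ∈ lines x M := by
  obtain ⟨a, b, hab, rfl⟩ := hℓ
  refine ⟨g * a, g * b, ?_, hsmul g a b⟩
  intro h
  apply hab
  rw [QuotientGroup.eq] at h ⊢
  have h1 : (g * a)⁻¹ * (g * b) = a⁻¹ * b := by group
  rwa [h1] at h

end Lines

end Cfsg.Agent.Helper29.N96
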