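import Mathlib
import Cfsg.Agent.Lib.Helper17.PrimeTIOrders
import Cfsg.Agent.Lib.Helper17.PrimeTIApp
import Cfsg.Agent.Lib.Helper79.Orthogonality
import Cfsg.Agent.Lib.Helper81.O5760A0
import Cfsg.Agent.Lib.Helper17.RationalTI

/-!
# O2520 (S0984): the degrees forced by a self-centralizing Sylow 7-subgroup with `|N(P)| = 21`

`prime_degree_equation` (`p = 7`, `e = 3`, `t = 2`): `2 ∑ a² + w² = 7`, so exactly two non-exceptional
nontrivial characters `χ₁, χ₂` have `a = ±1`, `w = ±1`, and `1 + a₁ x₁ + a₂ x₂ + d w = 0` with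
`xᵢ ∣ 2520`, `xᵢ ≡ aᵢ (mod 7)`, `xᵢ ≠ 1`, `d ∣ 2520`, `x₁² + x₂² + d² ≤ 2520`. The solutions are
`(x₁, x₂, d) = (8,6,3), (15,6,10), (8,15,24), (15,20,4)` up to order.
-/

set_option autoImplicit false
set_option linter.style.haveILetI false

namespace Cfsg.Agent.Helper29.O2520

open Cfsg MulAction

universe u

set_option maxHeartbeats 4000000 in
theorem h29_div2520 : ∀ x ∈ Nat.divisors 2520, x ≤ 50 →
    (x % 7 = 1 → x = 1 ∨ x = 8 ∨ x = 15 ∨ x = 36) ∧ (x % 7 = 6 → x = 6 ∨ x = 20) := by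
  decide +kernel

set_option maxHeartbeats 4000000 in
theorem h29_sol2520 : ∀ x1 ∈ ([8, 15, 36, 6, 20] : List ℕ), ∀ x2 ∈ ([8, 15, 36, 6, 20] : List ℕ),
    ∀ d ∈ Nat.divisors 2520, ∀ w ∈ ([1, -1] : List ℤ),
    (1 : ℤ) + (if x1 % 7 = 1 then (x1 : ℤ) else -(x1 : ℤ)) + (if x2 % 7 = 1 then (x2 : ℤ) else -(x2 : ℤ))
      + (d : ℤ) * w = 0 →
    x1 ^ 2 + x2 ^ 2 + d ^ 2 ≤ 2520 →
    (x1 = 6 ∨ x2 = 6) ∨ d = 4 ∨ ((x1 = 8 ∨ x2 = 8) ∧ d = 24) := by
  decide +kernel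

/-- The data of a non-exceptional nontrivial character with `a = ±1`. -/
theorem h29_char_data {G : Type u} [Group G] [Fintype G] (hG : Nat.card G = 2520)
    (hperf : commutator G = ⊤) (ψ1 : IrrCharacter G) (hψ1 : (ψ1 : G → ℂ) = fun _ => 1)
    (E : Finset (IrrCharacter G)) (a : IrrCharacter G → ℤ)
    (haE : ∀ ψ ∈ E, a ψ = 0)
    (hcong : ∀ ψ, ψ ∉ E → ((7 : ℕ) : ℤ) ∣ (charDegree (ψ : G → ℂ) : ℤ) - a ψ)
    (χ : IrrCharacter G) (hne : χ ≠ ψ1) (ha : a χ = 1 ∨ a χ = -1) :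
    (charDegree (χ : G → ℂ) = 8 ∨ charDegree (χ : G → ℂ) = 15 ∨ charDegree (χ : G → ℂ) = 36 ∨
      charDegree (χ : G → ℂ) = 6 ∨ charDegree (χ : G → ℂ) = 20) ∧
    a χ * (charDegree (χ : G → ℂ) : ℤ) =
      (if charDegree (χ : G → ℂ) % 7 = 1 then ((charDegree (χ : G → ℂ) : ℕ) : ℤ)
        else -((charDegree (χ : G → ℂ) : ℕ) : ℤ)) := by
  have hE : χ ∉ E := by
    intro h
    have := haE χ h
    rcases ha with h' | h' <;> rw [h'] at this <;> norm_num at this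
  have hx : charDegree (χ : G → ℂ) ∣ 2520 := by
    rw [← hG]; exact Cfsg.Agent.Helper79.irr_degree_dvd_card χ
  have hsq : (charDegree (χ : G → ℂ)) ^ 2 ≤ 2520 := by
    rw [← hG, ← Cfsg.Agent.Helper79.sum_sq_degree_nat (G := G)]
    exact Finset.single_le_sum (f := fun ψ : IrrCharacter G => (charDegree (ψ : G → ℂ)) ^ 2)
      (fun _ _ => Nat.zero_le _) (Finset.mem_univ χ)
  have hle : charDegree (χ : G → ℂ) ≤ 50 := by nlinarith
  have hnontriv : (χ : G → ℂ) ≠ fun _ => 1 := by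
    intro h
    apply hne
    apply Subtype.ext
    rw [h, hψ1]
  have hne1 : charDegree (χ : G → ℂ) ≠ 1 := fun h1 =>
    hnontriv (Cfsg.Agent.Helper17.PrimeTI.linear_trivial_of_perfect hperf χ h1)
  obtain ⟨hA, hB⟩ := h29_div2520 _ (Nat.mem_divisors.2 ⟨hx, by norm_num⟩) hle
  have h7 := hcong χ hE
  push_cast at h7
  rcases ha with h | h
  · rw [h] at h7
    have hmod : charDegree (χ : G → ℂ) % 7 = 1 := by omega
    rcases hA hmod with h1 | h8 | h15 | h36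
    · exact absurd h1 hne1
    · refine ⟨Or.inl h8, ?_⟩
      rw [h, if_pos hmod]; ring
    · refine ⟨Or.inr (Or.inl h15), ?_⟩
      rw [h, if_pos hmod]; ring
    · refine ⟨Or.inr (Or.inr (Or.inl h36)), ?_⟩
      rw [h, if_pos hmod]; ring
  · rw [h] at h7
    have hmod : charDegree (χ : G → ℂ) % 7 = 6 := by omega
    have hmod' : ¬ charDegree (χ : G → ℂ) % 7 = 1 := by omega
    rcases hB hmod with h6 | h20
    · refine ⟨Or.inr (Or.inr (Or.inr (Or.inl h6))), ?_⟩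
      rw [h, if_neg hmod']; ring
    · refine ⟨Or.inr (Or.inr (Or.inr (Or.inr h20))), ?_⟩
      rw [h, if_neg hmod']; ring

/-- (DEG) the degrees forced by the Sylow 7-subgroup. -/
theorem degrees_of_sylow7 {G : Type u} [Group G] [Finite G] [IsSimpleGroup G]
    (hG : Nat.card G = 2520) (P : Subgroup G) (hP : Nat.card P = 7)
    (hC : Subgroup.centralizer (P : Set G) = P)
    (hN : Nat.card (Subgroup.normalizer (P : Set G)) = 7 * 3) :
    (∃ ψ : IrrCharacter G, charDegree (ψ : G → ℂ) = 6) ∨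
    (∃ ψ : IrrCharacter G, charDegree (ψ : G → ℂ) = 4) ∨
    ((∃ ψ : IrrCharacter G, charDegree (ψ : G → ℂ) = 8) ∧
      (∃ ψ : IrrCharacter G, charDegree (ψ : G → ℂ) = 24)) := by
  have : Fact (Nat.Prime 7) := ⟨by norm_num⟩
  have := Fintype.ofFinite G
  have hperf : commutator G = ⊤ :=
    Cfsg.Agent.Helper17.PrimeTI.perfect_of_simple (by rw [hG]; norm_num)
  classical
  obtain ⟨w, d, E, a, hEcard, hEdeg, hEne, haE, haK, hcong, hnorm, hdegeq⟩ :=
    Cfsg.Agent.Helper17.PrimeTI.prime_degree_equation P 7 3 2 hP hC hN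
      (by norm_num) (by norm_num) (by norm_num)
  set ψ1 : IrrCharacter G := ⟨fun _ => 1, Cfsg.Agent.Helper81.isIrrCharacter_one⟩ with hψ1
  have hψ1E : ψ1 ∉ E := fun h => hEne ψ1 h rfl
  obtain ⟨k, hk, hk1⟩ := Cfsg.Agent.Helper17.PrimeTI.exists_ne_one_of_prime_card P hP
  have ha1 : a ψ1 = 1 := by
    have h := haK ψ1 hψ1E k hk hk1
    have h' : ((1 : ℤ) : ℂ) = ((a ψ1 : ℤ) : ℂ) := by
      rw [← h]; simp [hψ1]
    exact_mod_cast h'.symm
  have hdeg1 : charDegree (ψ1 : G → ℂ) = 1 := Cfsg.Agent.Helper17.PrimeTI.charDegree_one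
  obtain ⟨ψe, hψe⟩ := Finset.card_pos.1 (by omega : 0 < E.card)
  have hd : d ∣ 2520 := by
    rw [← hG, ← hEdeg ψe hψe]
    exact Cfsg.Agent.Helper79.irr_degree_dvd_card ψe
  have hsplit1 := Finset.add_sum_erase Finset.univ (fun ψ => (a ψ) ^ 2) (Finset.mem_univ ψ1)
  have hsplit2 := Finset.add_sum_erase Finset.univ
    (fun ψ => a ψ * (charDegree (ψ : G → ℂ) : ℤ)) (Finset.mem_univ ψ1)
  simp only [ha1, hdeg1] at hsplit1 hsplit2
  rw [← hsplit1] at hnorm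
  rw [← hsplit2] at hdegeq
  push_cast at hnorm hdegeq
  -- `2 (1 + S) + w² = 7`: `S = 2`, `w = ±1`
  have hSnn : 0 ≤ ∑ ψ ∈ Finset.univ.erase ψ1, (a ψ) ^ 2 :=
    Finset.sum_nonneg (fun i _ => sq_nonneg _)
  have hSw : ∑ ψ ∈ Finset.univ.erase ψ1, (a ψ) ^ 2 = 2 ∧ (w = 1 ∨ w = -1) := by
    have hSle : ∑ ψ ∈ Finset.univ.erase ψ1, (a ψ) ^ 2 ≤ 2 := by nlinarith [sq_nonneg w]
    have hwle : w ≤ 2 := by nlinarith
    have hwge : -2 ≤ w := by nlinarith
    generalize (∑ ψ ∈ Finset.univ.erase ψ1, (a ψ) ^ 2) = S at *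
    interval_cases S <;> interval_cases w <;>
      first | (exfalso; norm_num at hnorm; done) | norm_num
  obtain ⟨hS, hw⟩ := hSw
  -- the two characters with `a = ±1`
  obtain ⟨χ1, hχ1, ha1', hS1⟩ := Cfsg.Agent.Helper17.PrimeTI.peel (Finset.univ.erase ψ1) a 1
    (by norm_num) (by rw [hS]; norm_num)
  obtain ⟨χ2, hχ2, ha2', hS2⟩ := Cfsg.Agent.Helper17.PrimeTI.peel
    ((Finset.univ.erase ψ1).erase χ1) a 0 (by norm_num) (by rw [hS1]; norm_num)
  have hrest := Cfsg.Agent.Helper17.PrimeTI.all_zero _ a hS2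
  have hχ1ne : χ1 ≠ ψ1 := (Finset.mem_erase.1 hχ1).1
  have hχ2ne : χ2 ≠ ψ1 := (Finset.mem_erase.1 (Finset.mem_erase.1 hχ2).2).1
  have hχ21 : χ2 ≠ χ1 := (Finset.mem_erase.1 hχ2).1
  -- the degree sum
  have hsum : ∑ ψ ∈ Finset.univ.erase ψ1, a ψ * (charDegree (ψ : G → ℂ) : ℤ) =
      a χ1 * (charDegree (χ1 : G → ℂ) : ℤ) + a χ2 * (charDegree (χ2 : G → ℂ) : ℤ) := by
    rw [← Finset.add_sum_erase _ _ hχ1, ← Finset.add_sum_erase _ _ hχ2]
    rw [Finset.sum_eq_zero (fun ψ hψ => by rw [hrest ψ hψ]; ring), add_zero]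
  rw [hsum] at hdegeq
  obtain ⟨hx1, he1⟩ := h29_char_data hG hperf ψ1 rfl E a haE hcong χ1 hχ1ne ha1'
  obtain ⟨hx2, he2⟩ := h29_char_data hG hperf ψ1 rfl E a haE hcong χ2 hχ2ne ha2'
  rw [he1, he2] at hdegeq
  -- the square bound
  have hψe1 : ψe ≠ χ1 := by
    intro h
    have := haE ψe hψe
    rw [h] at this
    rcases ha1' with h' | h' <;> rw [h'] at this <;> norm_num at this
  have hψe2 : ψe ≠ χ2 := by
    intro h
    have := haE ψe hψe
    rw [h] at this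
    rcases ha2' with h' | h' <;> rw [h'] at this <;> norm_num at this
  have hbound : (charDegree (χ1 : G → ℂ)) ^ 2 + (charDegree (χ2 : G → ℂ)) ^ 2 + d ^ 2 ≤ 2520 := by
    rw [← hG, ← Cfsg.Agent.Helper79.sum_sq_degree_nat (G := G), ← hEdeg ψe hψe]
    have hsub : ({χ1, χ2, ψe} : Finset (IrrCharacter G)) ⊆ Finset.univ := Finset.subset_univ _
    have h3 := Finset.sum_le_sum_of_subset (f := fun ψ : IrrCharacter G =>
      (charDegree (ψ : G → ℂ)) ^ 2) hsub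
    rw [Finset.sum_insert (by
        rw [Finset.mem_insert, Finset.mem_singleton]
        rintro (h | h)
        · exact hχ21 h.symm
        · exact hψe1 h.symm),
      Finset.sum_insert (by
        rw [Finset.mem_singleton]
        exact fun h => hψe2 h.symm), Finset.sum_singleton] at h3
    omega
  have hmem : ∀ x : ℕ, (x = 8 ∨ x = 15 ∨ x = 36 ∨ x = 6 ∨ x = 20) →
      x ∈ ([8, 15, 36, 6, 20] : List ℕ) := by
    intro x hx
    simp only [List.mem_cons, List.not_mem_nil, or_false]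
    tauto
  have hwmem : w ∈ ([1, -1] : List ℤ) := by
    simp only [List.mem_cons, List.not_mem_nil, or_false]
    exact hw
  have hfin := h29_sol2520 _ (hmem _ hx1) _ (hmem _ hx2) d
    (Nat.mem_divisors.2 ⟨hd, by norm_num⟩) w hwmem (by linarith) hbound
  rcases hfin with (h6 | h6) | h4 | ⟨h8, h24⟩
  · exact Or.inl ⟨χ1, h6⟩
  · exact Or.inl ⟨χ2, h6⟩
  · exact Or.inr (Or.inl ⟨ψe, by rw [hEdeg ψe hψe, h4]⟩)
  · refine Or.inr (Or.inr ⟨?_, ⟨ψe, by rw [hEdeg ψe hψe, h24]⟩⟩)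
    rcases h8 with h8 | h8
    · exact ⟨χ1, h8⟩
    · exact ⟨χ2, h8⟩

/-- With a self-centralizing Sylow 5-subgroup, `|N(P)| = 20`: degrees `8` and `24` cannot coexist. -/
theorem no_deg8_deg24 {G : Type u} [Group G] [Finite G] [IsSimpleGroup G]
    (hG : Nat.card G = 2520) (P : Sylow 5 G) (hP : Nat.card (P : Subgroup G) = 5)
    (hC : Subgroup.centralizer ((P : Subgroup G) : Set G) = (P : Subgroup G))
    (hN : Nat.card (Subgroup.normalizer ((P : Subgroup G) : Set G)) = 5 * (5 - 1)) :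
    ¬ ((∃ ψ : IrrCharacter G, charDegree (ψ : G → ℂ) = 8) ∧
      (∃ ψ : IrrCharacter G, charDegree (ψ : G → ℂ) = 24)) := by
  rintro ⟨⟨χ, hχ⟩, ⟨ξ, hξ⟩⟩
  have : Fact (Nat.Prime 5) := ⟨by norm_num⟩
  have := Fintype.ofFinite G
  have hperf : commutator G = ⊤ :=
    Cfsg.Agent.Helper17.PrimeTI.perfect_of_simple (by rw [hG]; norm_num)
  classical
  obtain ⟨a, haK, hcong, hnorm, -⟩ :=
    Cfsg.Agent.Helper17.RationalTI.rational_degree_equation hperf P hP hC hN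
  set ψ1 : IrrCharacter G := ⟨fun _ => 1, Cfsg.Agent.Helper81.isIrrCharacter_one⟩ with hψ1
  obtain ⟨k, hk, hk1⟩ :=
    Cfsg.Agent.Helper17.PrimeTI.exists_ne_one_of_prime_card (P : Subgroup G) hP
  have ha1 : a ψ1 = 1 := by
    have h := haK ψ1 k hk hk1
    have h' : ((1 : ℤ) : ℂ) = ((a ψ1 : ℤ) : ℂ) := by
      rw [← h]; simp [hψ1]
    exact_mod_cast h'.symm
  have hdeg1 : charDegree (ψ1 : G → ℂ) = 1 := Cfsg.Agent.Helper17.PrimeTI.charDegree_one
  have hχ1 : χ ≠ ψ1 := by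
    intro h; rw [h, hdeg1] at hχ; norm_num at hχ
  have hξ1 : ξ ≠ ψ1 := by
    intro h; rw [h, hdeg1] at hξ; norm_num at hξ
  have hξχ : ξ ≠ χ := by
    intro h; rw [h, hχ] at hξ; norm_num at hξ
  have hsub : ({ψ1, χ, ξ} : Finset (IrrCharacter G)) ⊆ Finset.univ := Finset.subset_univ _
  have h3 := Finset.sum_le_sum_of_subset_of_nonneg (f := fun ψ : IrrCharacter G => (a ψ) ^ 2) hsub
    (fun i _ _ => sq_nonneg _)
  rw [Finset.sum_insert (by
      rw [Finset.mem_insert, Finset.mem_singleton]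
      rintro (h | h)
      · exact hχ1 h.symm
      · exact hξ1 h.symm),
    Finset.sum_insert (by
      rw [Finset.mem_singleton]
      exact fun h => hξχ h.symm), Finset.sum_singleton, hnorm, ha1] at h3
  have hcχ := hcong χ
  have hcξ := hcong ξ
  rw [hχ] at hcχ
  rw [hξ] at hcξ
  push_cast at hcχ hcξ h3
  have hχle : a χ ≤ 2 := by nlinarith [sq_nonneg (a ξ)]
  have hχge : -2 ≤ a χ := by nlinarith [sq_nonneg (a ξ)]
  have haχ : a χ = -2 := by omega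
  rw [haχ] at h3
  have hξ0 : a ξ = 0 := by nlinarith [sq_nonneg (a ξ)]
  rw [hξ0] at hcξ
  omega

end Cfsg.Agent.Helper29.O2520
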