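import Mathlib

/-! # O459648 (B4b) `endgame_z`, for helper53's O459648 server (S1022) -/

set_option autoImplicit false

namespace Cfsg.Agent.Helper29.O459648

/-- (B4b) -/
theorem endgame_z {G : Type*} [Group G] [Finite G]
    (N V S0 : Subgroup G) (g : G) (hV : Nat.card V = 4)
    (hNV : Subgroup.normalizer (V : Set G) = N) (hS0 : Nat.card S0 = 8) (hVS : V ≤ S0)
    (hSN : S0 ≤ N) (hgN : g ∉ N) (hgS : g ∈ Subgroup.normalizer (S0 : Set G))
    (hgg : g * g ∈ S0) :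
    ∃ z : G, z ≠ 1 ∧ z ∈ V ∧ (∀ s ∈ S0, s * z = z * s) ∧ g * z = z * g := by
  classical
  -- `V` is normalised by `S0`
  have hVn : ∀ s ∈ S0, ∀ v, v ∈ V ↔ s * v * s⁻¹ ∈ V := by
    intro s hs
    have h1 : s ∈ Subgroup.normalizer (V : Set G) := by rw [hNV]; exact hSN hs
    exact fun v => Subgroup.mem_normalizer_iff.1 h1 v
  -- the conjugate `V' = g V g⁻¹`
  set V' : Subgroup G := V.map (MulAut.conj g).toMonoidHom with hV'
  have hmemV' : ∀ x, x ∈ V' ↔ ∃ v ∈ V, g * v * g⁻¹ = x := by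
    intro x
    rw [hV', Subgroup.mem_map]
    constructor
    · rintro ⟨v, hv, hvx⟩
      exact ⟨v, hv, by simpa [MulAut.conj_apply] using hvx⟩
    · rintro ⟨v, hv, hvx⟩
      exact ⟨v, hv, by simpa [MulAut.conj_apply] using hvx⟩
  have hV'card : Nat.card V' = 4 := by
    rw [hV', Subgroup.card_map_of_injective (MulAut.conj g).injective]
    exact hV
  have hV'S : V' ≤ S0 := by
    intro x hx
    obtain ⟨v, hv, rfl⟩ := (hmemV' x).1 hx
    exact (Subgroup.mem_normalizer_iff.1 hgS v).1 (hVS hv)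
  have hginv : ∀ s ∈ S0, g⁻¹ * s * g ∈ S0 := by
    intro s hs
    apply (Subgroup.mem_normalizer_iff.1 hgS (g⁻¹ * s * g)).2
    have h1 : g * (g⁻¹ * s * g) * g⁻¹ = s := by group
    rw [h1]; exact hs
  have hV'n : ∀ s ∈ S0, ∀ x ∈ V', s * x * s⁻¹ ∈ V' := by
    intro s hs x hx
    obtain ⟨v, hv, rfl⟩ := (hmemV' x).1 hx
    exact (hmemV' _).2 ⟨(g⁻¹ * s * g) * v * (g⁻¹ * s * g)⁻¹,
      (hVn _ (hginv s hs) v).1 hv, by group⟩
  have hne : V' ≠ V := by
    intro h
    apply hgN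
    rw [← hNV, Subgroup.mem_normalizer_iff]
    intro x
    constructor
    · intro hx
      rw [← h]
      exact (hmemV' _).2 ⟨x, hx, rfl⟩
    · intro hx
      rw [← h] at hx
      obtain ⟨v, hv, hvx⟩ := (hmemV' _).1 hx
      have h1 : v = x := mul_left_cancel (mul_right_cancel hvx)
      rw [← h1]; exact hv
  -- the intersection
  set Z : Subgroup G := V ⊓ V' with hZ
  have hZne : Z ≠ ⊥ := by
    intro hbot
    have hinj : Function.Injective (fun p : V × V' =>
        (⟨(p.1 : G) * (p.2 : G), S0.mul_mem (hVS p.1.2) (hV'S p.2.2)⟩ : S0)) := by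
      intro p q hpq
      have hpq' : (p.1 : G) * (p.2 : G) = (q.1 : G) * (q.2 : G) := by
        simpa using congrArg Subtype.val hpq
      have h1 : (q.1 : G)⁻¹ * (p.1 : G) = (q.2 : G) * (p.2 : G)⁻¹ := by
        have h2 : (q.1 : G)⁻¹ * ((p.1 : G) * (p.2 : G)) * (p.2 : G)⁻¹ =
            (q.1 : G)⁻¹ * ((q.1 : G) * (q.2 : G)) * (p.2 : G)⁻¹ := by rw [hpq']
        have h3 : (q.1 : G)⁻¹ * ((p.1 : G) * (p.2 : G)) * (p.2 : G)⁻¹ = (q.1 : G)⁻¹ * (p.1 : G) := by
          group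
        have h4 : (q.1 : G)⁻¹ * ((q.1 : G) * (q.2 : G)) * (p.2 : G)⁻¹ = (q.2 : G) * (p.2 : G)⁻¹ := by
          group
        rw [h3, h4] at h2
        exact h2
      have hmem : (q.1 : G)⁻¹ * (p.1 : G) ∈ Z := by
        refine ⟨V.mul_mem (V.inv_mem q.1.2) p.1.2, ?_⟩
        rw [h1]
        exact V'.mul_mem q.2.2 (V'.inv_mem p.2.2)
      rw [hbot, Subgroup.mem_bot] at hmem
      have e1 : (q.1 : G) = (p.1 : G) := inv_mul_eq_one.1 hmem
      have e2 : (p.2 : G) = (q.2 : G) := by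
        rw [e1] at hpq'
        exact mul_left_cancel hpq'
      exact Prod.ext (Subtype.ext e1.symm) (Subtype.ext e2)
    have hle := Nat.card_le_card_of_injective _ hinj
    rw [Nat.card_prod, hV, hV'card, hS0] at hle
    omega
  have hZcard : Nat.card Z = 2 := by
    have hdvd : Nat.card Z ∣ 4 := by
      rw [← hV]; exact Subgroup.card_dvd_of_le inf_le_left
    have h1 : Nat.card Z ≠ 1 := by
      intro h
      exact hZne (Subgroup.card_eq_one.1 h)
    have h4 : Nat.card Z ≠ 4 := by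
      intro h
      have hZV : Z = V := Subgroup.eq_of_le_of_card_ge inf_le_left (by rw [h, hV])
      have hVV' : V ≤ V' := by rw [← hZV]; exact inf_le_right
      exact hne (Subgroup.eq_of_le_of_card_ge hVV' (by rw [hV, hV'card])).symm
    have hle : Nat.card Z ≤ 4 := Nat.le_of_dvd (by norm_num) hdvd
    have hpos : 0 < Nat.card Z := Nat.card_pos
    interval_cases h : Nat.card Z <;> simp_all
  obtain ⟨z0, hz0, huniq⟩ := (Nat.card_eq_two_iff' (1 : Z)).1 hZcard
  have hz1 : (z0 : G) ≠ 1 := fun h => hz0 (Subtype.ext h)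
  have hkey : ∀ x : G, x ∈ Z → x ≠ 1 → x = (z0 : G) := by
    intro x hx hx1
    have h1 : (⟨x, hx⟩ : Z) = z0 := huniq ⟨x, hx⟩ (fun h => hx1 (by simpa using congrArg Subtype.val h))
    exact congrArg Subtype.val h1
  have hconj_ne : ∀ a : G, a * (z0 : G) * a⁻¹ ≠ 1 := by
    intro a h
    apply hz1
    have h1 : (z0 : G) = a⁻¹ * (a * (z0 : G) * a⁻¹) * a := by group
    rw [h1, h]; group
  refine ⟨(z0 : G), hz1, z0.2.1, ?_, ?_⟩
  · intro s hs
    have hmem : s * (z0 : G) * s⁻¹ ∈ Z :=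
      ⟨(hVn s hs _).1 z0.2.1, hV'n s hs _ z0.2.2⟩
    have h1 := hkey _ hmem (hconj_ne s)
    calc s * (z0 : G) = s * (z0 : G) * s⁻¹ * s := by group
      _ = (z0 : G) * s := by rw [h1]
  · have hmem : g * (z0 : G) * g⁻¹ ∈ Z := by
      refine ⟨?_, (hmemV' _).2 ⟨z0, z0.2.1, rfl⟩⟩
      obtain ⟨v, hv, hvz⟩ := (hmemV' _).1 z0.2.2
      have h1 : g * (z0 : G) * g⁻¹ = (g * g) * v * (g * g)⁻¹ := by
        rw [← hvz]; group
      rw [h1]
      exact (hVn _ hgg v).1 hv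
    have h1 := hkey _ hmem (hconj_ne g)
    calc g * (z0 : G) = g * (z0 : G) * g⁻¹ * g := by group
      _ = (z0 : G) * g := by rw [h1]

end Cfsg.Agent.Helper29.O459648
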