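import Mathlib
import Cfsg.Agent.Lib.Helper17.PrimeTIOrders
import Cfsg.Agent.Lib.Helper17.PrimeTIApp
import Cfsg.Agent.Lib.Helper81.O5760A0

/-!
# O6232 (N4960), for helper17's O6232 server (S0983): no simple group of order `4960 = 2^5 * 5 * 31`

`n_31 = 32` is forced, so a Sylow 31-subgroup `P` is self-centralizing with `|N(P)| = 31 * 5`
(`forced_sylow`). The degree equation (`prime_degree_equation`, `e = 5`, `t = 6`) reads
`6 * ∑ a² + w² = 31`, `∑ a * deg + d * w = 0`, `a(1) = 1`. A non-exceptional `ψ ≠ 1` has `|a| ≤ 2`,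
`deg ∣ 4960` and `31 ∣ deg - a`: `a = 1` forces `deg = 32` (degree `1` is impossible in a perfect group),
`a = -1, -2` have no divisor, `a = 2` forces `deg = 2 = ψ(k)` for `k ∈ P`, `k ≠ 1`, against faithfulness.
With `A` the number of `ψ ≠ 1` with `a = 1`: `6 (1 + A) + w² = 31` and `1 + 32 A + d w = 0`, impossible
(`A = 0`: `d w = -1`, `w² = 25`; `A = 4`: `w = ±1`, `d = 129 ∤ 4960`).
-/

set_option autoImplicit false
set_option linter.style.haveILetI false

namespace Cfsg.Agent.Helper29.O6232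

open Cfsg MulAction

universe u

theorem h29_count4960 : ∀ n ∈ Nat.divisors 160, n % 31 = 1 → n ≠ 1 → n * 5 = 160 := by
  decide +kernel

set_option maxHeartbeats 4000000 in
theorem h29_arith4960 : ∀ x ∈ Nat.divisors 4960,
    (x % 31 = 1 → x = 1 ∨ x = 32) ∧ x % 31 ≠ 30 ∧ (x % 31 = 2 → x = 2) ∧ x % 31 ≠ 29 := by
  decide +kernel

theorem h29_not_dvd4960 : ¬ (129 ∣ 4960) := by decide

theorem h29_arith (A w : ℤ) (hA : 0 ≤ A) (h : 6 * (1 + A) + w ^ 2 = 31) :
    (A = 0 ∧ (w = 5 ∨ w = -5)) ∨ (A = 4 ∧ (w = 1 ∨ w = -1)) := by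
  have hAle : A ≤ 4 := by nlinarith [sq_nonneg w]
  have hwle : w ≤ 5 := by nlinarith
  have hwge : -5 ≤ w := by nlinarith
  interval_cases A <;> interval_cases w <;>
    first | (exfalso; norm_num at h; done) | norm_num

/-- (N4960) -/
theorem no_4960 {G : Type u} [Group G] [Finite G] [IsSimpleGroup G] : Nat.card G ≠ 4960 := by
  intro hG
  have : Fact (Nat.Prime 31) := ⟨by norm_num⟩
  have := Fintype.ofFinite G
  obtain ⟨P⟩ : Nonempty (Sylow 31 G) := inferInstance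
  obtain ⟨hP, hN, hC⟩ := Cfsg.Agent.Helper17.PrimeTI.forced_sylow 31 160 5 Nat.prime_five
    (by rw [hG]) (by norm_num) (by norm_num)
    (fun n hn => h29_count4960 n (Nat.mem_divisors.2 ⟨hn, by norm_num⟩)) P
  have hperf : commutator G = ⊤ :=
    Cfsg.Agent.Helper17.PrimeTI.perfect_of_simple (by rw [hG]; norm_num)
  classical
  obtain ⟨w, d, E, a, hEcard, hEdeg, hEne, haE, haK, hcong, hnorm, hdegeq⟩ :=
    Cfsg.Agent.Helper17.PrimeTI.prime_degree_equation (P : Subgroup G) 31 5 6 hP hC hN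
      (by norm_num) (by norm_num) (by norm_num)
  set ψ1 : IrrCharacter G := ⟨fun _ => 1, Cfsg.Agent.Helper81.isIrrCharacter_one⟩ with hψ1
  have hψ1E : ψ1 ∉ E := fun h => hEne ψ1 h rfl
  obtain ⟨k, hk, hk1⟩ :=
    Cfsg.Agent.Helper17.PrimeTI.exists_ne_one_of_prime_card (P : Subgroup G) hP
  have ha1 : a ψ1 = 1 := by
    have h := haK ψ1 hψ1E k hk hk1
    have h' : ((1 : ℤ) : ℂ) = ((a ψ1 : ℤ) : ℂ) := by
      rw [← h]; simp [hψ1]
    exact_mod_cast h'.symm
  have hdeg1 : charDegree (ψ1 : G → ℂ) = 1 := Cfsg.Agent.Helper17.PrimeTI.charDegree_one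
  have hd : d ∣ Nat.card G := by
    obtain ⟨ψ, hψ⟩ := Finset.card_pos.1 (by omega : 0 < E.card)
    rw [← hEdeg ψ hψ]
    exact Cfsg.Agent.Helper79.irr_degree_dvd_card ψ
  have hsplit1 := Finset.add_sum_erase Finset.univ (fun ψ => (a ψ) ^ 2) (Finset.mem_univ ψ1)
  have hsplit2 := Finset.add_sum_erase Finset.univ
    (fun ψ => a ψ * (charDegree (ψ : G → ℂ) : ℤ)) (Finset.mem_univ ψ1)
  simp only [ha1, hdeg1] at hsplit1 hsplit2
  rw [← hsplit1] at hnorm
  rw [← hsplit2] at hdegeq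
  push_cast at hnorm hdegeq
  -- every other character has `a = 0`, or `a = 1` and degree `32`
  have hkey : ∀ ψ ∈ Finset.univ.erase ψ1,
      a ψ = 0 ∨ (a ψ = 1 ∧ charDegree (ψ : G → ℂ) = 32) := by
    intro ψ hψ
    have hne : ψ ≠ ψ1 := (Finset.mem_erase.1 hψ).1
    by_cases hE : ψ ∈ E
    · exact Or.inl (haE ψ hE)
    · have hsq : (a ψ) ^ 2 ≤ 4 := by
        have hsplit3 : (a ψ) ^ 2 + ∑ x ∈ (Finset.univ.erase ψ1).erase ψ, (a x) ^ 2 =
            ∑ x ∈ Finset.univ.erase ψ1, (a x) ^ 2 :=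
          Finset.add_sum_erase (Finset.univ.erase ψ1) (fun ψ => (a ψ) ^ 2) hψ
        have hnn : 0 ≤ ∑ x ∈ (Finset.univ.erase ψ1).erase ψ, (a x) ^ 2 :=
          Finset.sum_nonneg (fun i _ => sq_nonneg _)
        nlinarith [sq_nonneg w]
      have hlo : -2 ≤ a ψ := by nlinarith
      have hhi : a ψ ≤ 2 := by nlinarith
      have hx : charDegree (ψ : G → ℂ) ∣ 4960 := by
        rw [← hG]; exact Cfsg.Agent.Helper79.irr_degree_dvd_card ψ
      have hx31 := hcong ψ hE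
      push_cast at hx31
      obtain ⟨hA, hB, hC', hD⟩ :=
        h29_arith4960 _ (Nat.mem_divisors.2 ⟨hx, by norm_num⟩)
      have hnontriv : (ψ : G → ℂ) ≠ fun _ => 1 := by
        intro h
        apply hne
        apply Subtype.ext
        rw [h]
      have hcases : a ψ = -2 ∨ a ψ = -1 ∨ a ψ = 0 ∨ a ψ = 1 ∨ a ψ = 2 := by omega
      rcases hcases with h | h | h | h | h
      · exfalso; rw [h] at hx31; apply hD; omega
      · exfalso; rw [h] at hx31; apply hB; omega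
      · exact Or.inl h
      · right
        refine ⟨h, ?_⟩
        rw [h] at hx31
        rcases hA (by omega) with h1 | h32
        · exfalso
          exact hnontriv (Cfsg.Agent.Helper17.PrimeTI.linear_trivial_of_perfect hperf ψ h1)
        · exact h32
      · exfalso
        rw [h] at hx31
        have h2 : charDegree (ψ : G → ℂ) = 2 := hC' (by omega)
        have hval : (ψ : G → ℂ) k = (ψ : G → ℂ) 1 := by
          rw [haK ψ hE k hk hk1, (Cfsg.Agent.Helper79.irr_one_eq ψ).1, h, h2]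
          norm_num
        exact hk1 (Cfsg.Agent.Helper81.O5760.irr_faithful ψ hnontriv k hval)
  -- so both sums are governed by `A = ∑ a`
  have hsq_eq : ∑ ψ ∈ Finset.univ.erase ψ1, (a ψ) ^ 2 = ∑ ψ ∈ Finset.univ.erase ψ1, a ψ := by
    apply Finset.sum_congr rfl
    intro ψ hψ
    rcases hkey ψ hψ with h | ⟨h, _⟩ <;> rw [h] <;> norm_num
  have hdeg_eq : ∑ ψ ∈ Finset.univ.erase ψ1, a ψ * (charDegree (ψ : G → ℂ) : ℤ) =
      32 * ∑ ψ ∈ Finset.univ.erase ψ1, a ψ := by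
    rw [Finset.mul_sum]
    apply Finset.sum_congr rfl
    intro ψ hψ
    rcases hkey ψ hψ with h | ⟨h, h'⟩
    · rw [h]; ring
    · rw [h, h']; norm_num
  have hApos : 0 ≤ ∑ ψ ∈ Finset.univ.erase ψ1, a ψ := by
    apply Finset.sum_nonneg
    intro ψ hψ
    rcases hkey ψ hψ with h | ⟨h, _⟩ <;> rw [h] <;> norm_num
  rw [hsq_eq] at hnorm
  rw [hdeg_eq] at hdegeq
  set A : ℤ := ∑ ψ ∈ Finset.univ.erase ψ1, a ψ with hA
  -- `6 (1 + A) + w² = 31`, `1 + 32 A + d w = 0`
  have hA04 : (A = 0 ∧ (w = 5 ∨ w = -5)) ∨ (A = 4 ∧ (w = 1 ∨ w = -1)) :=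
    h29_arith A w hApos hnorm
  rcases hA04 with ⟨hA0, hw | hw⟩ | ⟨hA4, hw | hw⟩
  · rw [hA0, hw] at hdegeq
    have hd0 : (0 : ℤ) ≤ d := by positivity
    omega
  · rw [hA0, hw] at hdegeq
    omega
  · rw [hA4, hw] at hdegeq
    have hd0 : (0 : ℤ) ≤ d := by positivity
    omega
  · rw [hA4, hw] at hdegeq
    have hd129 : d = 129 := by omega
    rw [hd129, hG] at hd
    exact h29_not_dvd4960 hd

end Cfsg.Agent.Helper29.O6232
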