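import Mathlib
import Cfsg.Prelude.Def_OddOrderChar
import Cfsg.Prelude.Def_OddOrderLocal
import Cfsg.Agent.Lib.Helper25.Dade
import Cfsg.Agent.Lib.Helper3.FeitCohC
import Cfsg.Agent.Lib.Helper82.SibFrob
import Cfsg.Agent.Lib.Helper53.PGroupAb

/-!
# Pieces for S1542 (Peterfalvi: Type I Frobenius maximal subgroup, coherence)
-/

set_option autoImplicit false
set_option linter.unusedSectionVars false
set_option linter.unusedVariables false
set_option linter.style.haveILetI false

namespace Cfsg.Agent.Helper29.PF1542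

open Cfsg

/-- (A) The Frobenius hypothesis of S1542, read inside `L`. -/
theorem centralizer_le_fittingHall {G : Type*} [Group G] (L : Subgroup G)
    (hfrob : ∀ x ∈ Cfsg.fittingHallOf L, x ≠ 1 →
      L ⊓ Subgroup.centralizer ({x} : Set G) ≤ Cfsg.fittingHallOf L) :
    ∀ h ∈ Cfsg.fittingHall L, h ≠ 1 →
      Subgroup.centralizer ({h} : Set L) ≤ Cfsg.fittingHall L := by
  intro h hh h1 x hx
  have hhG : (h : G) ∈ Cfsg.fittingHallOf L := ⟨h, hh, rfl⟩
  have h1G : (h : G) ≠ 1 := fun e => h1 (Subtype.ext e)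
  have hxc : (x : G) ∈ L ⊓ Subgroup.centralizer ({(h : G)} : Set G) := by
    refine Subgroup.mem_inf.mpr ⟨x.2, ?_⟩
    rw [Subgroup.mem_centralizer_iff]
    intro y hy
    rw [Set.mem_singleton_iff] at hy
    subst hy
    have := (Subgroup.mem_centralizer_iff.mp hx) h rfl
    exact_mod_cast congrArg Subtype.val this
  obtain ⟨y, hy, hyx⟩ := hfrob _ hhG h1G hxc
  have : y = x := Subtype.ext hyx
  rwa [← this]

section dade
variable {G : Type*} [Group G] (A : Set G) (L : Subgroup G) (R : G → Subgroup G)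

/-- (C1) The Dade map is additive (on all functions). -/
theorem dade_add (α β : L → ℂ) :
    dadeIsometry A L R (α + β) = dadeIsometry A L R α + dadeIsometry A L R β := by
  funext g
  unfold dadeIsometry
  by_cases h : ∃ a : ↥L, (a : G) ∈ A ∧ ∃ x : G, ∃ u ∈ R (a : G), x * g * x⁻¹ = (a : G) * u
  · simp only [Pi.add_apply, dif_pos h]
  · simp only [Pi.add_apply, dif_neg h, add_zero]

/-- (C1) The Dade map commutes with integer scalars (on all functions). -/
theorem dade_zsmul (n : ℤ) (α : L → ℂ) :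
    dadeIsometry A L R (n • α) = n • dadeIsometry A L R α := by
  funext g
  unfold dadeIsometry
  by_cases h : ∃ a : ↥L, (a : G) ∈ A ∧ ∃ x : G, ∃ u ∈ R (a : G), x * g * x⁻¹ = (a : G) * u
  · simp only [Pi.smul_apply, dif_pos h]
  · simp only [Pi.smul_apply, dif_neg h, smul_zero]

/-- (C2) Under the Dade hypothesis the Dade image of any function vanishes at `1`. -/
theorem dade_one (hD : DadeHypothesis A L R) (α : L → ℂ) : dadeIsometry A L R α 1 = 0 := by
  unfold dadeIsometry
  rw [dif_neg]
  rintro ⟨a, ha, x, u, hu, hx⟩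
  have h1 : (a : G) * u = 1 := by rw [← hx]; group
  have hau : (a : G) = u⁻¹ := eq_inv_of_mul_eq_one_left h1
  have haR : (a : G) ∈ R (a : G) := by rw [hau]; exact inv_mem (hau ▸ hu)
  have hmem : (a : G) ∈ R (a : G) ⊓ (L ⊓ Subgroup.centralizer ({(a : G)} : Set G)) := by
    refine Subgroup.mem_inf.mpr ⟨haR, Subgroup.mem_inf.mpr ⟨a.2, ?_⟩⟩
    rw [Subgroup.mem_centralizer_iff]
    intro y hy
    rw [Set.mem_singleton_iff] at hy
    subst hy
    rfl
  rw [hD.inf_eq_bot _ ha, Subgroup.mem_bot] at hmem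
  exact hD.one_not_mem (hmem ▸ ha)

end dade

/-- (E1) A non-abelian finite `p`-group has abelianization of order at least `p ^ 2`. -/
theorem sq_le_index_commutator {N : Type*} [Group N] [Finite N] (H : Subgroup N) {p : ℕ}
    (hp : p.Prime) (hcard : ∃ m : ℕ, Nat.card H = p ^ m) (hnc : ¬ IsMulCommutative H) :
    p ^ 2 ≤ (⁅H, H⁆.subgroupOf H).index := by
  haveI : Fact p.Prime := ⟨hp⟩
  obtain ⟨m, hm⟩ := hcard
  have hPG : IsPGroup p H := IsPGroup.of_card hm
  have hLeq : (⁅H, H⁆.subgroupOf H).index = (commutator H).index := by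
    show (Subgroup.comap H.subtype ⁅H, H⁆).index = _
    rw [← Subgroup.map_subtype_commutator,
      Subgroup.comap_map_eq_self_of_injective H.subtype_injective]
  rw [hLeq]
  by_contra hlt
  push Not at hlt
  -- the index is a power of p, less than p^2, hence 1 or p
  have hdvd : (commutator H).index ∣ p ^ m := by
    rw [← hm]
    exact Subgroup.index_dvd_card _
  obtain ⟨k, hkm, hk⟩ := (Nat.dvd_prime_pow hp).mp hdvd
  have hk2 : k < 2 := by
    rw [hk] at hlt
    exact (Nat.pow_lt_pow_iff_right hp.one_lt).mp hlt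
  have hcardAb : Nat.card (Abelianization H) = p ^ k := by
    rw [← hk]
    exact (Subgroup.index_eq_card _).symm
  have hcyc : IsCyclic (Abelianization H) := by
    interval_cases k
    · rw [pow_zero] at hcardAb
      haveI : Subsingleton (Abelianization H) := (Nat.card_eq_one_iff_unique.mp hcardAb).1
      infer_instance
    · rw [pow_one] at hcardAb
      exact isCyclic_of_prime_card hcardAb
  have hH := Cfsg.Agent.Helper53.isCyclic_of_isCyclic_abelianization hPG hcyc
  apply hnc
  exact ⟨⟨fun a b => by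
    haveI := hH
    exact (IsCyclic.commGroup (α := H)).mul_comm a b⟩⟩

/-- (E3) arithmetic: `e` odd, `p` odd, `e ∣ p - 1`  ⟹  `4 e² + 1 < p²`. -/
theorem four_sq_lt {e p : ℕ} (he : Odd e) (hp : Odd p) (hp1 : 1 < p) (hd : e ∣ p - 1) :
    4 * e ^ 2 + 1 < p ^ 2 := by
  obtain ⟨k, hk⟩ := hd
  obtain ⟨t, ht⟩ := hp
  obtain ⟨s, hs⟩ := he
  have hev : Even (e * k) := by rw [← hk]; exact ⟨t, by omega⟩
  have hkev : Even k := by
    rcases Nat.even_mul.mp hev with h | h
    · exfalso
      obtain ⟨r, hr⟩ := h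
      omega
    · exact h
  obtain ⟨j, hj⟩ := hkev
  have hjpos : 0 < j := by
    rcases Nat.eq_zero_or_pos j with h | h
    · subst h
      simp at hj
      subst hj
      omega
    · exact h
  have h1 : 2 * e ≤ p - 1 := by
    rw [hk, hj]
    nlinarith
  have h2 : 2 * e + 1 ≤ p := by omega
  nlinarith

end Cfsg.Agent.Helper29.PF1542
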