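import Mathlib
import Cfsg.Prelude.Def_RootSubgroups
import Cfsg.Agent.Lib.Helper21.RankOneSpecial
import Cfsg.Agent.Lib.Helper83.R2Defs
import Cfsg.Agent.Lib.Helper83.R1Braid
import Cfsg.Agent.S5017
import Cfsg.Agent.S5021
import Cfsg.Agent.S5022

set_option autoImplicit false

/-!
# R2 (S) small_case for helper83's R2 server (S5020)
-/

namespace Cfsg.Agent.Helper29.R2

open Cfsg Cfsg.Agent.Helper83 Cfsg.Agent.Helper83.R2 Cfsg.Agent.Helper21.RankOneSpecial

variable {X : Type*} [Group X] {A B : Subgroup X}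

/-- a subgroup of prime order is generated by any non-identity element -/
theorem h29_le_closure_of_prime_card {C : Subgroup X} {p : ℕ} [Fact p.Prime] (hC : Nat.card C = p)
    {c : X} (hc : c ∈ C) (hc1 : c ≠ 1) (S : Set X) (hcS : c ∈ S) : C ≤ Subgroup.closure S := by
  have htop : Subgroup.zpowers (⟨c, hc⟩ : C) = ⊤ :=
    zpowers_eq_top_of_prime_card hC (fun e => hc1 (congrArg Subtype.val e))
  intro x hx
  have hx' : (⟨x, hx⟩ : C) ∈ Subgroup.zpowers (⟨c, hc⟩ : C) := by rw [htop]; trivial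
  obtain ⟨k, hk⟩ := Subgroup.mem_zpowers_iff.1 hx'
  have hk' : c ^ k = x := by simpa using congrArg Subtype.val hk
  rw [← hk']
  exact Subgroup.zpow_mem _ (Subgroup.subset_closure hcS) k

/-- the centre of `SL₂(ZMod 2)` is trivial -/
theorem h29_center_sl2_two :
    Subgroup.center (Matrix.SpecialLinearGroup (Fin 2) (ZMod 2)) = ⊥ := by
  rw [eq_bot_iff]
  intro g hg
  rw [Matrix.SpecialLinearGroup.mem_center_iff] at hg
  obtain ⟨r, hr, hrg⟩ := hg
  rw [Subgroup.mem_bot]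
  have hdec : ∀ r : ZMod 2, r ^ Fintype.card (Fin 2) = 1 → r = 1 := by decide
  have hr1 : r = 1 := hdec r hr
  subst hr1
  apply Subtype.ext
  rw [← hrg]
  simp

/-- `PSL₂(ZMod 2) ≃* SL₂(ZMod 2)` -/
noncomputable def h29_psl2_two :
    Matrix.ProjectiveSpecialLinearGroup (Fin 2) (ZMod 2) ≃* Matrix.SpecialLinearGroup (Fin 2) (ZMod 2) :=
  (QuotientGroup.quotientMulEquivOfEq h29_center_sl2_two).trans QuotientGroup.quotientBot

theorem h29_iso_of_card_prime (h : IsRankOneGroup X A B) (hs : IsSpecialRankOnePair A B)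
    (hab : HasAbelianUnipotents A B) {p : ℕ} [Fact p.Prime] (hp : Nat.card A = p) :
    Nonempty (X ≃* Matrix.SpecialLinearGroup (Fin 2) (ZMod p)) ∨
      Nonempty (X ≃* Matrix.ProjectiveSpecialLinearGroup (Fin 2) (ZMod p)) := by
  have hpr : p.Prime := Fact.out
  haveI : Finite A := Nat.finite_of_card_ne_zero (by rw [hp]; exact hpr.ne_zero)
  -- `A` is elementary abelian
  have hA : IsElementaryAbelian p A := by
    refine ⟨hab.1, ?_⟩
    intro a ha
    have := pow_card_eq_one' (G := A) (x := ⟨a, ha⟩)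
    rw [hp] at this
    simpa using congrArg Subtype.val this
  -- `B` has the same order
  have hB : Nat.card B = p := by
    obtain ⟨x, -, hx⟩ := right_mem_unipotentSubgroups h.2
    rw [hx, ← hp]
    exact (Nat.card_congr (conjByEquiv A x).toEquiv).symm
  obtain ⟨a, ha, ha1⟩ := exists_mem_ne_one_of_ne_bot (rankOne_ne_bot_left h.2)
  obtain ⟨b, hb, hb1, hab'⟩ := h.2.cond_left a ha ha1
  have hcl : Subgroup.closure ({a, b} : Set X) = ⊤ := by
    rw [eq_top_iff, ← h.1]
    exact sup_le (h29_le_closure_of_prime_card hp ha ha1 _ (by simp))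
      (h29_le_closure_of_prime_card hB hb hb1 _ (by simp))
  have e : X ≃* ↥(Subgroup.closure ({a, b} : Set X)) :=
    (Subgroup.topEquiv (G := X)).symm.trans (MulEquiv.subgroupCongr hcl.symm)
  rcases Cfsg.Agent.S5022.result h hs hab hA ha ha1 hb hb1 hab' with ⟨⟨f⟩⟩ | ⟨⟨f⟩⟩
  · exact Or.inl ⟨e.trans f⟩
  · exact Or.inr ⟨e.trans f⟩

/-- (S) the small case. -/
theorem small_case (h : IsRankOneGroup X A B) (hs : IsSpecialRankOnePair A B)
    (hab : HasAbelianUnipotents A B) (hcard : ENat.card A ≤ 3) :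
    Nonempty (X ≃* Matrix.SpecialLinearGroup (Fin 2) (ZMod 2)) ∨
      Nonempty (X ≃* Matrix.SpecialLinearGroup (Fin 2) (ZMod 3)) ∨
      Nonempty (X ≃* Matrix.ProjectiveSpecialLinearGroup (Fin 2) (ZMod 3)) := by
  have hfin : Finite A := by
    rw [← ENat.card_lt_top]
    exact lt_of_le_of_lt hcard (ENat.natCast_lt_top 3)
  have hle : Nat.card A ≤ 3 := by
    have : (Nat.card A : ℕ∞) ≤ 3 := by
      rw [← ENat.card_eq_coe_natCard]; exact hcard
    exact_mod_cast this
  have hgt : 1 < Nat.card A := by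
    rw [Subgroup.one_lt_card_iff_ne_bot]
    exact rankOne_ne_bot_left h.2
  have h23 : Nat.card A = 2 ∨ Nat.card A = 3 := by omega
  rcases h23 with h2 | h3
  · haveI : Fact (Nat.Prime 2) := ⟨Nat.prime_two⟩
    rcases h29_iso_of_card_prime h hs hab h2 with ⟨⟨f⟩⟩ | ⟨⟨f⟩⟩
    · exact Or.inl ⟨f⟩
    · exact Or.inl ⟨f.trans h29_psl2_two⟩
  · haveI : Fact (Nat.Prime 3) := ⟨Nat.prime_three⟩
    rcases h29_iso_of_card_prime h hs hab h3 with ⟨⟨f⟩⟩ | ⟨⟨f⟩⟩
    · exact Or.inr (Or.inl ⟨f⟩)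
    · exact Or.inr (Or.inr ⟨f⟩)

end Cfsg.Agent.Helper29.R2
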