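import Mathlib
import Cfsg.Prelude.Def_RootSubgroups
import Cfsg.Agent.Lib.Helper83.Conj
import Cfsg.Agent.Lib.Helper83.CommMod
import Cfsg.Agent.Lib.Helper83.RankOne
import Cfsg.Agent.Lib.Helper83.RankOneNormal
import Cfsg.Agent.Lib.Helper83.RootBasic
import Cfsg.Agent.Lib.Helper83.RootLemmas
import Cfsg.Agent.Lib.Helper83.Root30
import Cfsg.Agent.Lib.Helper83.R2N1
import Cfsg.Agent.Lib.Helper83.R2E
import Cfsg.Agent.Lib.Helper83.R2G
import Cfsg.Agent.Lib.Helper83.R3Defs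
import Cfsg.Agent.Lib.Helper94.RootComm
import Cfsg.Agent.Lib.Helper94.RootMap
import Cfsg.Agent.S5029

set_option autoImplicit false

namespace Cfsg.Agent.Helper29.R3

open Cfsg Cfsg.Agent.Helper83 Cfsg.Agent.Helper83.R2 Cfsg.Agent.Helper83.R3 Cfsg.Agent.Helper94
open scoped commutatorElement

variable {G : Type*} [Group G] {S : Set (Subgroup G)} {N : Subgroup G}

/-- (CS) `C_S(A) ⊆ C_S(n A n⁻¹)` for `n ∈ N`. -/
theorem centralizing_subset (c : NCtx S N) (hIA : InfCentral S N) :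
    ∀ A ∈ S, ∀ n ∈ N, centralizingMembers S A ⊆ centralizingMembers S (conjBy A n) := by
  intro A hA n hn E hE
  obtain ⟨hES, hEc⟩ := hE
  have hNn : N.Normal := c.normal
  have hAab : IsMulCommutative A := c.root.hS.commutative A hA
  have hE'S : conjBy E n⁻¹ ∈ S := c.root.hS.conj_mem E hES n⁻¹
  -- the commutator of `E' = n⁻¹ E n` with `A` lies in `N`
  have hcomN : ⁅conjBy E n⁻¹, A⁆ ≤ N := by
    rw [Subgroup.commutator_le]
    intro x hx a ha
    rw [mem_conjBy, inv_inv] at hx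
    obtain ⟨e, he, rfl⟩ : ∃ e ∈ E, x = n⁻¹ * e * n := ⟨n * x * n⁻¹, hx, by group⟩
    have hea : e * a = a * e := commute_of_le_centralizer hEc he ha
    have h1 : e⁻¹ * a * e = a := by
      rw [mul_assoc, ← hea, ← mul_assoc, inv_mul_cancel, one_mul]
    have hm : n⁻¹ * (e * n * e⁻¹) ∈ N := N.mul_mem (N.inv_mem hn) (hNn.conj_mem n hn e)
    have hm2 : a * (n⁻¹ * (e * n * e⁻¹))⁻¹ * a⁻¹ ∈ N := hNn.conj_mem _ (N.inv_mem hm) a
    have key : ⁅n⁻¹ * e * n, a⁆ =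
        (n⁻¹ * (e * n * e⁻¹)) * (a * (n⁻¹ * (e * n * e⁻¹))⁻¹ * a⁻¹) := by
      have h2 : (n⁻¹ * (e * n * e⁻¹)) * (a * (n⁻¹ * (e * n * e⁻¹))⁻¹ * a⁻¹) =
          n⁻¹ * e * n * (e⁻¹ * a * e) * n⁻¹ * e⁻¹ * n * a⁻¹ := by group
      rw [h2, h1, commutatorElement_def]
      group
    rw [key]
    exact N.mul_mem hm hm2
  have hE'c : conjBy E n⁻¹ ≤ Subgroup.centralizer (A : Set G) := by
    rcases c.root.hS.pair _ hE'S A hA with h | h | h
    · exact Subgroup.commutator_eq_bot_iff_le_centralizer.1 h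
    · exfalso
      have h1 : ⁅conjBy E n⁻¹, A⁆ ≤ N ⊓ (conjBy E n⁻¹ ⊔ A) :=
        le_inf hcomN (commutator_le_sup' _ _)
      have h2 := hIA _ hE'S A hA h
      have h3 : Subgroup.centralizer ((conjBy E n⁻¹ ⊔ A : Subgroup G) : Set G) ≤
          Subgroup.centralizer (A : Set G) :=
        Subgroup.centralizer_le (by exact_mod_cast (le_sup_right : A ≤ conjBy E n⁻¹ ⊔ A))
      exact rankOne_comm_not_central h hAab ((h1.trans h2).trans h3)
    · exfalso
      exact c.noMem _ h.1 hcomN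
  refine ⟨hES, ?_⟩
  have h1 := conjBy_mono hE'c n
  rw [conjBy_conjBy_inv, conjBy_centralizer] at h1
  exact h1

end Cfsg.Agent.Helper29.R3
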