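import Mathlib
import Cfsg.Prelude.Def_RootSubgroups
import Cfsg.Agent.Lib.Helper83.Conj
import Cfsg.Agent.Lib.Helper83.CommMod
import Cfsg.Agent.Lib.Helper83.RankOne
import Cfsg.Agent.Lib.Helper83.RankOneNormal
import Cfsg.Agent.Lib.Helper83.RootBasic
import Cfsg.Agent.Lib.Helper83.RootLemmas
import Cfsg.Agent.Lib.Helper83.Root30
import Cfsg.Agent.Lib.Helper83.R2N1
import Cfsg.Agent.Lib.Helper83.R2E
import Cfsg.Agent.Lib.Helper83.R2G
import Cfsg.Agent.Lib.Helper83.R3Defs
import Cfsg.Agent.Lib.Helper94.RootComm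
import Cfsg.Agent.Lib.Helper94.RootMap
import Cfsg.Agent.S5029

set_option autoImplicit false

namespace Cfsg.Agent.Helper29.R3

open Cfsg Cfsg.Agent.Helper83 Cfsg.Agent.Helper83.R2 Cfsg.Agent.Helper83.R3 Cfsg.Agent.Helper94
open scoped commutatorElement

variable {G : Type*} [Group G] {S : Set (Subgroup G)} {N : Subgroup G}

/-- (EX) The commutator case is invariant under conjugation, and occurs at every member if `S` is
not degenerate. -/
theorem exists_commutatorCase (c : RootCtx S) (hnd : ¬ IsDegenerateRootSet S) :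
    ∀ A ∈ S, ∃ C ∈ S, RootCommutatorCase S A C := by
  have himg : ∀ g : G,
      (fun A : Subgroup G => A.map (MulAut.conj g).toMonoidHom) '' S = S := by
    intro g
    ext B
    constructor
    · rintro ⟨A, hA, rfl⟩
      exact c.hS.conj_mem A hA g
    · intro hB
      exact ⟨conjBy B g⁻¹, c.hS.conj_mem B hB g⁻¹, conjBy_conjBy_inv B g⟩
  have hconj : ∀ (A B : Subgroup G) (g : G), RootCommutatorCase S A B →
      RootCommutatorCase S (conjBy A g) (conjBy B g) := by
    intro A B g h
    have h1 := map_commutatorCase (MulAut.conj g).toMonoidHom h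
    rw [himg g] at h1
    exact h1
  intro A hA
  unfold IsDegenerateRootSet at hnd
  push Not at hnd
  obtain ⟨A₀, hA₀, C₀, hC₀, h0⟩ := hnd
  obtain ⟨g, hg⟩ := c.conj A₀ hA₀ A hA
  refine ⟨conjBy C₀ g, c.hS.conj_mem C₀ hC₀ g, ?_⟩
  rw [hg]
  exact hconj A₀ C₀ g h0

end Cfsg.Agent.Helper29.R3
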