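import Mathlib
import Cfsg.Prelude.Def_RootSubgroups
import Cfsg.Agent.Lib.Helper83.Conj
import Cfsg.Agent.Lib.Helper83.CommMod
import Cfsg.Agent.Lib.Helper83.RankOne
import Cfsg.Agent.Lib.Helper83.RankOneNormal
import Cfsg.Agent.Lib.Helper83.RootBasic
import Cfsg.Agent.Lib.Helper83.RootLemmas
import Cfsg.Agent.Lib.Helper83.Root30
import Cfsg.Agent.Lib.Helper83.R2N1
import Cfsg.Agent.Lib.Helper83.R2E
import Cfsg.Agent.Lib.Helper83.R2G
import Cfsg.Agent.Lib.Helper83.R3Defs
import Cfsg.Agent.Lib.Helper94.RootComm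
import Cfsg.Agent.Lib.Helper94.RootMap
import Cfsg.Agent.S5029

set_option autoImplicit false

namespace Cfsg.Agent.Helper29.R3

open Cfsg Cfsg.Agent.Helper83 Cfsg.Agent.Helper83.R2 Cfsg.Agent.Helper83.R3 Cfsg.Agent.Helper94
open scoped commutatorElement

variable {G : Type*} [Group G] {S : Set (Subgroup G)} {N : Subgroup G}

/-- (LC) `N ≤ Z(G)`. -/
theorem le_center (c : NCtx S N) (hIA : InfCentral S N)
    (hnorm : ∀ A ∈ S, ∀ n ∈ N, conjBy A n = A) : N ≤ Subgroup.center G := by
  have hNn : N.Normal := c.normal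
  have hAc : ∀ A ∈ S, A ≤ Subgroup.centralizer (N : Set G) := by
    intro A hA
    obtain ⟨B, hB, hr⟩ := c.root.partner A hA
    have hinf : A ⊓ N = ⊥ := by
      rw [eq_bot_iff]
      have h1 : A ⊓ N ≤ N ⊓ (A ⊔ B) := le_inf inf_le_right (inf_le_left.trans le_sup_left)
      have h2 := hIA A hA B hB hr
      have h3 : Subgroup.centralizer ((A ⊔ B : Subgroup G) : Set G) ≤
          Subgroup.centralizer (B : Set G) :=
        Subgroup.centralizer_le (by exact_mod_cast (le_sup_right : B ≤ A ⊔ B))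
      have h4 : A ⊓ N ≤ Subgroup.normalizer (B : Set G) :=
        ((h1.trans h2).trans h3).trans (centralizer_le_normalizer' B)
      have h5 : A ⊓ N ≤ A ⊓ Subgroup.normalizer (B : Set G) := le_inf inf_le_left h4
      rwa [rankOne_inf_normalizer hr] at h5
    have hcom : ⁅A, N⁆ ≤ A ⊓ N := by
      rw [Subgroup.commutator_le]
      intro a ha n hn
      rw [commutatorElement_def]
      constructor
      · have h2 : n * a⁻¹ * n⁻¹ ∈ conjBy A n := conj_mem_conjBy (A.inv_mem ha)
        rw [hnorm A hA n hn] at h2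
        have h3 : a * n * a⁻¹ * n⁻¹ = a * (n * a⁻¹ * n⁻¹) := by group
        rw [h3]
        exact A.mul_mem ha h2
      · exact N.mul_mem (hNn.conj_mem n hn a) (N.inv_mem hn)
    rw [hinf, le_bot_iff] at hcom
    exact Subgroup.commutator_eq_bot_iff_le_centralizer.1 hcom
  have htop : (⊤ : Subgroup G) ≤ Subgroup.centralizer (N : Set G) := by
    rw [← c.root.hS.generates]
    exact iSup₂_le hAc
  intro n hn
  rw [Subgroup.mem_center_iff]
  intro g
  have hg : g ∈ Subgroup.centralizer (N : Set G) := htop (Subgroup.mem_top g)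
  rw [Subgroup.mem_centralizer_iff] at hg
  exact (hg n hn).symm

end Cfsg.Agent.Helper29.R3
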