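import Mathlib
import Cfsg.Prelude.Def_RootSubgroups
import Cfsg.Agent.Lib.Helper83.Conj
import Cfsg.Agent.Lib.Helper83.CommMod
import Cfsg.Agent.Lib.Helper83.RankOne
import Cfsg.Agent.Lib.Helper83.RankOneNormal
import Cfsg.Agent.Lib.Helper83.RootBasic
import Cfsg.Agent.Lib.Helper83.RootLemmas
import Cfsg.Agent.Lib.Helper83.Root30
import Cfsg.Agent.Lib.Helper83.R2N1
import Cfsg.Agent.Lib.Helper83.R2E
import Cfsg.Agent.Lib.Helper83.R2G
import Cfsg.Agent.Lib.Helper83.R3Defs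
import Cfsg.Agent.Lib.Helper94.RootComm
import Cfsg.Agent.Lib.Helper94.RootMap
import Cfsg.Agent.S5029

set_option autoImplicit false

namespace Cfsg.Agent.Helper29.R3

open Cfsg Cfsg.Agent.Helper83 Cfsg.Agent.Helper83.R2 Cfsg.Agent.Helper83.R3 Cfsg.Agent.Helper94
open scoped commutatorElement

variable {G : Type*} [Group G] {S : Set (Subgroup G)} {N : Subgroup G}

/-- (SF) Small case, final contradiction. -/
theorem sm_final (hS : IsRootSubgroupSet S) {A B C : Subgroup G} (hA : A ∈ S) (hB : B ∈ S)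
    (hr : IsRankOnePair A B) (hC : C ∈ S) (hcase : RootCommutatorCase S A C)
    (hcomm : ∀ E ∈ S, E ≤ A ⊔ ⁅A, C⁆ → E ≠ A → ⁅B, E⁆ = ⊥) : False := by
  have hD : ⁅A, C⁆ ∈ S := hcase.1
  have hDbot : ⁅A, C⁆ ≠ ⊥ := hS.ne_bot _ hD
  have hDA : ⁅A, C⁆ ≠ A := by
    intro h
    apply hDbot
    have h1 : A ≤ Subgroup.centralizer (C : Set G) := by
      have := commutatorCase_le_centralizer_right hcase
      rwa [h] at this
    exact Subgroup.commutator_eq_bot_iff_le_centralizer.2 h1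
  have hinf : A ⊓ ⁅A, C⁆ = ⊥ := by
    rcases root_inf_eq_bot_or_eq hS hA hB hr _ hD with h | h
    · exact h
    · exact absurd h.symm hDA
  obtain ⟨c, hc, hc1⟩ := exists_mem_ne_one_of_ne_bot (hS.ne_bot C hC)
  have hE1 : conjBy A c ∈ S := hS.conj_mem A hA c
  have hE1le : conjBy A c ≤ A ⊔ ⁅A, C⁆ := by
    have := conjBy_le_sup_commutator (E := C) (B := A) hc
    rwa [Subgroup.commutator_comm] at this
  have hE1ne : conjBy A c ≠ A := by
    intro h
    apply hDbot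
    rw [← hcase.2.2.2 c hc hc1, Subgroup.closure_eq_bot_iff]
    rintro _ ⟨a, ha, rfl⟩
    rw [Set.mem_singleton_iff]
    have h1 : a * c * a⁻¹ * c⁻¹ ∈ A := by
      have h2 : c * a⁻¹ * c⁻¹ ∈ conjBy A c := conj_mem_conjBy (A.inv_mem ha)
      rw [h] at h2
      have h3 : a * c * a⁻¹ * c⁻¹ = a * (c * a⁻¹ * c⁻¹) := by group
      rw [h3]
      exact A.mul_mem ha h2
    have h2 : a * c * a⁻¹ * c⁻¹ ∈ ⁅A, C⁆ := by
      have := Subgroup.commutator_mem_commutator ha hc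
      rwa [commutatorElement_def] at this
    have h3 : a * c * a⁻¹ * c⁻¹ ∈ A ⊓ ⁅A, C⁆ := ⟨h1, h2⟩
    rw [hinf, Subgroup.mem_bot] at h3
    exact h3
  have hB1 : ⁅B, conjBy A c⁆ = ⊥ := hcomm _ hE1 hE1le hE1ne
  have hB2 : ⁅B, ⁅A, C⁆⁆ = ⊥ := hcomm _ hD le_sup_right hDA
  have hc1' : conjBy A c ≤ Subgroup.centralizer (B : Set G) := by
    rw [Subgroup.commutator_comm] at hB1
    exact Subgroup.commutator_eq_bot_iff_le_centralizer.1 hB1
  have hc2' : ⁅A, C⁆ ≤ Subgroup.centralizer (B : Set G) := by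
    rw [Subgroup.commutator_comm] at hB2
    exact Subgroup.commutator_eq_bot_iff_le_centralizer.1 hB2
  have hAle : A ≤ Subgroup.centralizer (B : Set G) := by
    intro a ha
    have h1 : c * a * c⁻¹ ∈ Subgroup.centralizer (B : Set G) := hc1' (conj_mem_conjBy ha)
    have h2 : ⁅a⁻¹, c⁆ ∈ Subgroup.centralizer (B : Set G) :=
      hc2' (Subgroup.commutator_mem_commutator (A.inv_mem ha) hc)
    have h3 : a = (c * a * c⁻¹) * (⁅a⁻¹, c⁆)⁻¹ := by
      rw [commutatorElement_def]; group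
    rw [h3]
    exact Subgroup.mul_mem _ h1 (Subgroup.inv_mem _ h2)
  exact rankOne_not_le_centralizer hr hAle

end Cfsg.Agent.Helper29.R3
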