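import Mathlib
import Cfsg.Agent.Lib.Helper3.TU_LUC

/-!
# RJ project (S2279), piece (F5) `lam_mem_Mult` (server: helper35).

Pure algebra over a finite field.  `Mult` is a verbatim copy of the definition in helper35's signature file.
The pieces (F1), (F2), (F4) and (F3) are proved here too, verbatim, with this copy of `Mult`.
-/

set_option autoImplicit false

namespace Cfsg.Agent.Helper29.RJ

variable {F : Type*} [Field F] {m : ℕ}

/-- the multiplier set -/
def Mult (m : ℕ) (L : ℕ → AddSubgroup F) : Set F :=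
  {r | ∀ d, d ≤ m + 1 → ∀ x ∈ L d, r * x ∈ L d}

/-- (F1) -/
theorem pow_mem_L (lam : F) (L : ℕ → AddSubgroup F) (h1 : lam ^ 3 ∈ L 2)
    (h2 : ∀ d, d ≤ m → ∀ x ∈ L d, lam * x ∈ L (d + 1)) (d : ℕ) (hd2 : 2 ≤ d) (hd : d ≤ m + 1) :
    lam ^ (d + 1) ∈ L d := by
  induction d, hd2 using Nat.le_induction with
  | base => exact h1
  | succ d hd2 ih =>
    have := h2 d (by omega) _ (ih (by omega))
    rwa [← pow_succ'] at this

theorem h29_Mult_pow (L : ℕ → AddSubgroup F) (r : F) (hr : r ∈ Mult m L) (k : ℕ) :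
    r ^ k ∈ Mult m L := by
  induction k with
  | zero => intro d _ x hx; simpa using hx
  | succ k ih =>
    intro d hd x hx
    rw [pow_succ, mul_assoc]
    exact ih d hd _ (hr d hd x hx)

/-- (F2) -/
theorem Mult_closed [Fintype F] (L : ℕ → AddSubgroup F) :
    (1 : F) ∈ Mult m L ∧ (∀ r s, r ∈ Mult m L → s ∈ Mult m L → r + s ∈ Mult m L) ∧
    (∀ r s, r ∈ Mult m L → s ∈ Mult m L → r * s ∈ Mult m L) ∧
    (∀ r, r ∈ Mult m L → -r ∈ Mult m L) ∧ (∀ k : ℕ, (k : F) ∈ Mult m L) ∧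
    (∀ r, r ∈ Mult m L → r⁻¹ ∈ Mult m L) := by
  have h1 : (1 : F) ∈ Mult m L := fun d _ x hx => by simpa using hx
  have hadd : ∀ r s, r ∈ Mult m L → s ∈ Mult m L → r + s ∈ Mult m L :=
    fun r s hr hs d hd x hx => by
      rw [add_mul]; exact (L d).add_mem (hr d hd x hx) (hs d hd x hx)
  have hmul : ∀ r s, r ∈ Mult m L → s ∈ Mult m L → r * s ∈ Mult m L :=
    fun r s hr hs d hd x hx => by
      rw [mul_assoc]; exact hr d hd _ (hs d hd x hx)
  have hneg : ∀ r, r ∈ Mult m L → -r ∈ Mult m L := fun r hr d hd x hx => by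
    rw [neg_mul]; exact (L d).neg_mem (hr d hd x hx)
  have h0 : (0 : F) ∈ Mult m L := fun d _ x _ => by rw [zero_mul]; exact (L d).zero_mem
  have hnat : ∀ k : ℕ, (k : F) ∈ Mult m L := by
    intro k
    induction k with
    | zero => simpa using h0
    | succ k ih => rw [Nat.cast_succ]; exact hadd _ _ ih h1
  refine ⟨h1, hadd, hmul, hneg, hnat, ?_⟩
  intro r hr
  by_cases hr0 : r = 0
  · subst hr0; simpa using h0
  · have hq : r ^ (Fintype.card F - 1) = 1 := FiniteField.pow_card_sub_one_eq_one r hr0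
    have h2 : 1 < Fintype.card F := Fintype.one_lt_card
    have hinv : r⁻¹ = r ^ (Fintype.card F - 2) := by
      have h3 : r * r ^ (Fintype.card F - 2) = 1 := by
        rw [← pow_succ']
        have : Fintype.card F - 2 + 1 = Fintype.card F - 1 := by omega
        rw [this]; exact hq
      exact inv_eq_of_mul_eq_one_right h3
    rw [hinv]; exact h29_Mult_pow L r hr _

/-- (F4) Lucas -/
theorem luc (p : ℕ) (hp : p.Prime) (a n' : ℕ) (hn' : 2 ≤ n') (hpn : ¬ p ∣ n') :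
    ¬ p ∣ Nat.choose (p ^ a * n' - 1 + p ^ a) (p ^ a * n' - 1) := by
  have : Fact p.Prime := ⟨hp⟩
  have h := Cfsg.Agent.Helper3.TU.h3_not_dvd_choose p a n' hpn
  have hpos : 0 < p ^ a := pow_pos hp.pos a
  have h1 : 1 ≤ p ^ a * n' := Nat.one_le_iff_ne_zero.mpr (by positivity)
  have e1 : p ^ a * (n' + 1) - 1 = p ^ a * n' - 1 + p ^ a := by
    rw [mul_add, mul_one]; omega
  rw [e1] at h
  rw [Nat.choose_symm_add]
  exact h

/-- iterating `h2` -/
theorem h29_pow_step (lam : F) (L : ℕ → AddSubgroup F)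
    (h2 : ∀ d, d ≤ m → ∀ x ∈ L d, lam * x ∈ L (d + 1)) (k d : ℕ) (hk : d + k ≤ m + 1)
    (x : F) (hx : x ∈ L d) : lam ^ k * x ∈ L (d + k) := by
  induction k with
  | zero => simpa using hx
  | succ k ih =>
    have := h2 (d + k) (by omega) _ (ih (by omega))
    rw [← mul_assoc, ← pow_succ'] at this
    exact this

/-- (F3) -/
theorem mult_path (lam : F) (L : ℕ → AddSubgroup F)
    (h2 : ∀ d, d ≤ m → ∀ x ∈ L d, lam * x ∈ L (d + 1))
    (h3 : ∀ d d' r, d ≤ m + 1 → d' ≤ m + 1 → m + 2 ≤ r → r ≤ d + d' → ∀ x ∈ L d, ∀ y ∈ L d',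
      (Nat.choose r (m + 2) : F) * x * y ∈ L (d + d' - r))
    (t : ℕ) (ht : t ≤ m) (y₀ : F) (hy₀ : y₀ ∈ L (m + 1)) :
    (Nat.choose (m + 2 + t) (m + 2) : F) * lam ^ (t + 1) * y₀ ∈ Mult m L := by
  intro d hd x hx
  obtain ⟨j, hj⟩ : ∃ j, j = t + 1 - d := ⟨_, rfl⟩
  have hdj : d + j ≤ m + 1 := by omega
  have hx1 : lam ^ j * x ∈ L (d + j) := h29_pow_step lam L h2 j d hdj x hx
  have hx2 := h3 (d + j) (m + 1) (m + 2 + t) hdj le_rfl (by omega) (by omega) _ hx1 _ hy₀
  have hx3 := h29_pow_step lam L h2 (t + 1 - j) (d + j + (m + 1) - (m + 2 + t)) (by omega) _ hx2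
  have e : d + j + (m + 1) - (m + 2 + t) + (t + 1 - j) = d := by omega
  rw [e] at hx3
  have e2 : lam ^ (t + 1 - j) * ((Nat.choose (m + 2 + t) (m + 2) : F) * (lam ^ j * x) * y₀)
      = (Nat.choose (m + 2 + t) (m + 2) : F) * lam ^ (t + 1) * y₀ * x := by
    have : lam ^ (t + 1) = lam ^ (t + 1 - j) * lam ^ j := by
      rw [← pow_add]; congr 1; omega
    rw [this]; ring
  rw [e2] at hx3; exact hx3

/-- (F5), core: with (F3) as a hypothesis. -/
theorem lam_mem_Mult_of [Fintype F] (hm : 1 ≤ m) (lam : F) (hlam : lam ≠ 0) (L : ℕ → AddSubgroup F)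
    (h1 : lam ^ 3 ∈ L 2) (h2 : ∀ d, d ≤ m → ∀ x ∈ L d, lam * x ∈ L (d + 1))
    (hF3 : ∀ t, t ≤ m → ∀ y₀ ∈ L (m + 1),
      (Nat.choose (m + 2 + t) (m + 2) : F) * lam ^ (t + 1) * y₀ ∈ Mult m L) :
    lam ∈ Mult m L := by
  obtain ⟨hone, hadd, hmul, hneg, hnat, hinv⟩ := Mult_closed (m := m) L
  have hy0 : lam ^ (m + 2) ∈ L (m + 1) := pow_mem_L lam L h1 h2 (m + 1) (by omega) le_rfl
  have hn : lam ^ (m + 3) ∈ Mult m L := by
    have := hF3 0 (Nat.zero_le _) _ hy0
    simp only [add_zero, Nat.choose_self, Nat.cast_one, one_mul, zero_add, pow_one] at this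
    rwa [← pow_succ'] at this
  obtain ⟨p, hpdef⟩ : ∃ p, p = ringChar F := ⟨_, rfl⟩
  have hchar : CharP F p := by rw [hpdef]; exact ringChar.charP F
  have hp : p.Prime := CharP.char_is_prime F p
  obtain ⟨a, n', hpn, hn'⟩ := Nat.exists_eq_pow_mul_and_not_dvd (n := m + 3) (by omega) p hp.ne_one
  have hpa : lam ^ (p ^ a) ∈ Mult m L := by
    rcases Nat.lt_or_ge n' 2 with h | h
    · have h1' : n' = 1 := by
        rcases Nat.eq_zero_or_pos n' with h0 | h0
        · subst h0; simp at hn'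
        · omega
      subst h1'
      rw [mul_one] at hn'
      rw [← hn']; exact hn
    · have hpos : 0 < p ^ a := pow_pos hp.pos a
      have ht : p ^ a ≤ m := by
        rcases Nat.eq_zero_or_pos a with ha | ha
        · subst ha; simpa using hm
        · have hp2 : p ≤ p ^ a := by
            calc p = p ^ 1 := (pow_one p).symm
              _ ≤ p ^ a := Nat.pow_le_pow_right hp.pos ha
          have hp2' := hp.two_le
          rcases Nat.lt_or_ge n' 3 with h3 | h3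
          · have h2' : n' = 2 := by omega
            subst h2'
            have hp3 : p ≠ 2 := by rintro rfl; exact hpn (dvd_refl 2)
            omega
          · have : p ^ a * 3 ≤ p ^ a * n' := Nat.mul_le_mul_left _ h3
            omega
      have hC := luc p hp a n' h hpn
      have e : p ^ a * n' - 1 = m + 2 := by omega
      rw [e] at hC
      have hC' : ((Nat.choose (m + 2 + p ^ a) (m + 2) : ℕ) : F) ≠ 0 := by
        rw [Ne, CharP.cast_eq_zero_iff F p]; exact hC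
      have h3 := hF3 (p ^ a) ht _ hy0
      have h4 : lam ^ (p ^ a + 1) * lam ^ (m + 2) ∈ Mult m L := by
        have := hmul _ _ (hinv _ (hnat (Nat.choose (m + 2 + p ^ a) (m + 2)))) h3
        rwa [mul_assoc, inv_mul_cancel_left₀ hC'] at this
      have h5 : lam ^ (p ^ a) = (lam ^ (m + 3))⁻¹ * (lam ^ (p ^ a + 1) * lam ^ (m + 2)) := by
        have hne : lam ^ (m + 3) ≠ 0 := pow_ne_zero _ hlam
        rw [eq_inv_mul_iff_mul_eq₀ hne]
        ring
      rw [h5]; exact hmul _ _ (hinv _ hn) h4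
  obtain ⟨f, _, hq⟩ := FiniteField.card F p
  have hfrob : lam ^ (Fintype.card F ^ a) = lam := FiniteField.pow_card_pow a lam
  have hexp : Fintype.card F ^ a = p ^ a * p ^ ((f : ℕ) * a - a) := by
    rw [hq, ← pow_mul, ← pow_add]; congr 1
    have h1f : 1 ≤ (f : ℕ) := f.pos
    have : a ≤ (f : ℕ) * a := Nat.le_mul_of_pos_left a h1f
    omega
  rw [← hfrob, hexp, pow_mul]
  exact h29_Mult_pow L _ hpa _

/-- (F5) `lam_mem_Mult`, statement verbatim (with this file's copy of `Mult`). -/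
theorem lam_mem_Mult [Fintype F] (hm : 1 ≤ m) (lam : F) (hlam : lam ≠ 0) (L : ℕ → AddSubgroup F)
    (h1 : lam ^ 3 ∈ L 2) (h2 : ∀ d, d ≤ m → ∀ x ∈ L d, lam * x ∈ L (d + 1))
    (h3 : ∀ d d' r, d ≤ m + 1 → d' ≤ m + 1 → m + 2 ≤ r → r ≤ d + d' → ∀ x ∈ L d, ∀ y ∈ L d',
      (Nat.choose r (m + 2) : F) * x * y ∈ L (d + d' - r)) :
    lam ∈ Mult m L :=
  lam_mem_Mult_of hm lam hlam L h1 h2 (fun t ht y₀ hy₀ => mult_path lam L h2 h3 t ht y₀ hy₀)

end Cfsg.Agent.Helper29.RJ
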