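import Mathlib
import Cfsg.Agent.Lib.Helper93.RU0
import Cfsg.Agent.Lib.Helper35.RJ0
import Cfsg.Agent.Lib.Helper74.RJT
import Cfsg.Agent.Lib.Helper87.RJP
import Cfsg.Agent.Lib.Helper40.RJR1
import Cfsg.Agent.Lib.Helper90.RJR2

/-!
# RJ project (S2279), pieces (LS) `Lam_step` and (L1) `Lam_seed` (server: helper35).

The cores take (R2) `step_up` resp. (R1) `seed` as explicit hypotheses; the verbatim statements use
helper90's `step_up` and helper40's `seed`.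
-/

set_option autoImplicit false

namespace Cfsg.Agent.Helper29.RJ

open Matrix Cfsg.Agent.Helper93.RU Cfsg.Agent.Helper35.RJ

variable {F : Type*} [Field F] {m : ℕ}

/-- `π(d) = 0` for `d ≤ m + 1` -/
theorem h29_piZ_window (d : ℕ) (hd : d ≤ m + 1) : piZ m F (d : ℤ) = 0 := by
  rw [Cfsg.Agent.Helper87.RJ.pi_nat, Nat.choose_eq_zero_of_lt (by omega), Nat.cast_zero]

/-- conjugation by `J` keeps `H` -/
theorem h29_conj_mem (H : Subgroup (SLm m F)) (hu : uEl m F ∈ H) (i : ℤ) (T : SLm m F)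
    (hT : T ∈ H) : (uEl m F) ^ i * T * ((uEl m F) ^ i)⁻¹ ∈ H :=
  H.mul_mem (H.mul_mem (H.zpow_mem hu i) hT) (H.inv_mem (H.zpow_mem hu i))

/-- (LS), core: with (R2) for `j = 1` as a hypothesis. -/
theorem Lam_step_of (H : Subgroup (SLm m F)) (lam : F) (hu : uEl m F ∈ H)
    (hs : ∀ k : ℤ, sK lam k ∈ H)
    (hR2 : ∀ (x : F) (j : ℤ) (d : ℕ), d ≤ m → sK lam j ∈ H → Tjk (m := m) (j + d) j x ∈ H →
      Tjk (m := m) (j + d) (j - 1) (lam * x) ∈ H)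
    (d : ℕ) (hd : d ≤ m) (x : F) (hx : x ∈ Lam H d) : lam * x ∈ Lam H (d + 1) := by
  have hx' : Tjk (m := m) (d : ℤ) 0 x ∈ H := hx
  have hpi : piZ m F ((d : ℤ) - 0) = 0 := by
    rw [sub_zero]; exact h29_piZ_window d (by omega)
  have h1 := h29_conj_mem H hu 1 _ hx'
  rw [Cfsg.Agent.Helper74.RJ.Tjk_shift 1 (d : ℤ) 0 hpi x] at h1
  have e1 : ((d : ℤ) + 1) = (1 : ℤ) + (d : ℤ) := by ring
  have e2 : ((0 : ℤ) + 1) = 1 := by ring
  rw [e1, e2] at h1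
  have h2 := hR2 x 1 d hd (hs 1) h1
  show Tjk (m := m) ((d + 1 : ℕ) : ℤ) 0 (lam * x) ∈ H
  have e3 : ((d + 1 : ℕ) : ℤ) = (1 : ℤ) + (d : ℤ) := by push_cast; ring
  have e4 : ((1 : ℤ) - 1) = 0 := by ring
  rw [e3]; rw [e4] at h2; exact h2

/-- (L1), core: with (R1) as a hypothesis. -/
theorem Lam_seed_of (hm : 1 ≤ m) (H : Subgroup (SLm m F)) (lam : F) (hu : uEl m F ∈ H)
    (hs : ∀ k : ℤ, sK lam k ∈ H)
    (hR1 : sK (m := m) lam 1 * sK (m := m) lam 0 * (sK (m := m) lam 1)⁻¹ * (sK (m := m) lam 0)⁻¹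
        * sK (m := m) lam 0
        * (sK (m := m) lam 1 * sK (m := m) lam 0 * (sK (m := m) lam 1)⁻¹ * (sK (m := m) lam 0)⁻¹)⁻¹
        * (sK (m := m) lam 0)⁻¹ = Tjk 1 (-1) (lam ^ 3)) :
    lam ^ 3 ∈ Lam H 2 := by
  have h0 := hs 0
  have h1 := hs 1
  have hc : sK (m := m) lam 1 * sK (m := m) lam 0 * (sK (m := m) lam 1)⁻¹ * (sK (m := m) lam 0)⁻¹ ∈ H :=
    H.mul_mem (H.mul_mem (H.mul_mem h1 h0) (H.inv_mem h1)) (H.inv_mem h0)
  have hT : Tjk (m := m) 1 (-1) (lam ^ 3) ∈ H := by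
    rw [← hR1]
    exact H.mul_mem (H.mul_mem (H.mul_mem hc h0) (H.inv_mem hc)) (H.inv_mem h0)
  have hpi : piZ m F ((1 : ℤ) - (-1)) = 0 := by
    have : ((1 : ℤ) - (-1)) = ((2 : ℕ) : ℤ) := by norm_num
    rw [this]; exact h29_piZ_window 2 (by omega)
  have h2 := h29_conj_mem H hu 1 _ hT
  rw [Cfsg.Agent.Helper74.RJ.Tjk_shift 1 1 (-1) hpi (lam ^ 3)] at h2
  show Tjk (m := m) ((2 : ℕ) : ℤ) 0 (lam ^ 3) ∈ H
  have e1 : ((1 : ℤ) + 1) = ((2 : ℕ) : ℤ) := by norm_num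
  have e2 : ((-1 : ℤ) + 1) = 0 := by norm_num
  rw [e1, e2] at h2; exact h2

/-- (LS) `Lam_step`, statement verbatim. -/
theorem Lam_step (H : Subgroup (SLm m F)) (lam : F) (hu : uEl m F ∈ H) (hs : ∀ k : ℤ, sK lam k ∈ H)
    (d : ℕ) (hd : d ≤ m) (x : F) (hx : x ∈ Lam H d) : lam * x ∈ Lam H (d + 1) :=
  Lam_step_of H lam hu hs
    (fun x j d hd hsj hT => Cfsg.Agent.Helper90.RJ.step_up H lam x j d hd hsj hT) d hd x hx

/-- (L1) `Lam_seed`, statement verbatim. -/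
theorem Lam_seed (hm : 1 ≤ m) (H : Subgroup (SLm m F)) (lam : F) (hu : uEl m F ∈ H)
    (hs : ∀ k : ℤ, sK lam k ∈ H) : lam ^ 3 ∈ Lam H 2 :=
  Lam_seed_of hm H lam hu hs (Cfsg.Agent.Helper40.RJ.seed hm lam)

end Cfsg.Agent.Helper29.RJ
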