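import Mathlib
import Cfsg.Agent.Lib.Helper29.CMGroup

set_option autoImplicit false

/-!
# Normal subgroups all of whose non-central elements have maximal centralizers: basics
-/

namespace Cfsg.Agent.Helper29.RCM

open Subgroup
open Cfsg.Agent.Helper29.CM
open scoped Pointwise

variable {G : Type*} [Group G]

/-- The relative CM hypothesis for a subgroup `N`. -/
def Hyp (N : Subgroup G) : Prop :=
  ∀ x : G, x ∈ N → x ∉ centralizer (N : Set G) → IsCoatom (C x)

/-- `x` is a non-central element of `N`. -/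
def NC (N : Subgroup G) (x : G) : Prop := x ∈ N ∧ x ∉ centralizer (N : Set G)

theorem not_mem_centralizer_iff {N : Subgroup G} {x : G} :
    x ∉ centralizer (N : Set G) ↔ ∃ n ∈ N, n * x ≠ x * n := by
  rw [mem_centralizer_iff]
  push Not
  rfl

theorem NC.ne_one {N : Subgroup G} {x : G} (hx : NC N x) : x ≠ 1 := by
  rintro rfl
  exact hx.2 (one_mem _)

theorem dich {N : Subgroup G} (h : Hyp N) {x : G} (hx : NC N x) {E : Subgroup G}
    (hE : C x ≤ E) : E = C x ∨ E = ⊤ := by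
  rcases (h x hx.1 hx.2).le_iff.mp hE with h1 | h1
  · exact Or.inr h1
  · exact Or.inl h1

theorem C_ne_top {N : Subgroup G} (h : Hyp N) {x : G} (hx : NC N x) : C x ≠ ⊤ :=
  (h x hx.1 hx.2).1

theorem C_eq_of_le {N : Subgroup G} (h : Hyp N) {x y : G} (hx : NC N x) (hy : NC N y)
    (hle : C x ≤ C y) : C x = C y := by
  rcases dich h hx hle with h1 | h1
  · exact h1.symm
  · exact absurd h1 (C_ne_top h hy)

theorem not_le_C {N : Subgroup G} {x : G} (hx : NC N x) : ¬ N ≤ C x := by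
  intro hle
  apply hx.2
  rw [mem_centralizer_iff]
  intro n hn
  exact mem_C.mp (hle hn)

theorem sup_C_eq_top {N : Subgroup G} (h : Hyp N) {x : G} (hx : NC N x) : N ⊔ C x = ⊤ := by
  rcases dich h hx (le_sup_right : C x ≤ N ⊔ C x) with h1 | h1
  · exfalso
    apply not_le_C hx
    rw [← h1]
    exact le_sup_left
  · exact h1

/-- `G = N * C x`. -/
theorem exists_mul {N : Subgroup G} [hN : N.Normal] (h : Hyp N) {x : G} (hx : NC N x) (g : G) :
    ∃ n ∈ N, ∃ m ∈ C x, g = n * m := by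
  have h1 : g ∈ N ⊔ C x := by
    rw [sup_C_eq_top h hx]
    exact mem_top g
  have h2 : g ∈ ((N ⊔ C x : Subgroup G) : Set G) := h1
  rw [Subgroup.normal_mul] at h2
  obtain ⟨n, hn, m, hm, rfl⟩ := Set.mem_mul.mp h2
  exact ⟨n, hn, m, hm, rfl⟩

/-- conjugation by `G` on a non-central element of `N` is realised inside `N`. -/
theorem conj_eq {N : Subgroup G} [hN : N.Normal] (h : Hyp N) {x : G} (hx : NC N x) (g : G) :
    ∃ n ∈ N, g * x * g⁻¹ = n * x * n⁻¹ := by
  obtain ⟨n, hn, m, hm, rfl⟩ := exists_mul h hx g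
  refine ⟨n, hn, ?_⟩
  have hmx : m * x = x * m := mem_C.mp hm
  calc n * m * x * (n * m)⁻¹ = n * (m * x) * m⁻¹ * n⁻¹ := by group
    _ = n * (x * m) * m⁻¹ * n⁻¹ := by rw [hmx]
    _ = n * x * n⁻¹ := by group

theorem NC.conj {N : Subgroup G} [hN : N.Normal] {x : G} (hx : NC N x) (g : G) :
    NC N (g * x * g⁻¹) := by
  refine ⟨hN.conj_mem x hx.1 g, ?_⟩
  intro hc
  apply hx.2
  rw [mem_centralizer_iff] at hc ⊢
  intro n hn
  have h1 := hc (g * n * g⁻¹) (hN.conj_mem n hn g)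
  have h2 : g * (n * x) * g⁻¹ = g * (x * n) * g⁻¹ := by
    calc g * (n * x) * g⁻¹ = (g * n * g⁻¹) * (g * x * g⁻¹) := by group
      _ = (g * x * g⁻¹) * (g * n * g⁻¹) := h1
      _ = g * (x * n) * g⁻¹ := by group
  exact mul_left_cancel (mul_right_cancel h2)

/-- For a normal subgroup `L` of `G`: the elements that commute with `x` modulo `L`. -/
def EL (L : Subgroup G) [L.Normal] (x : G) : Subgroup G :=
  (C (QuotientGroup.mk' L x)).comap (QuotientGroup.mk' L)

theorem mem_EL {L : Subgroup G} [L.Normal] {x g : G} :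
    g ∈ EL L x ↔ x⁻¹ * g⁻¹ * x * g ∈ L := by
  unfold EL
  rw [Subgroup.mem_comap, mem_C, ← map_mul, ← map_mul, QuotientGroup.mk'_apply,
    QuotientGroup.mk'_apply, QuotientGroup.eq]
  have e : (g * x)⁻¹ * (x * g) = x⁻¹ * g⁻¹ * x * g := by group
  rw [e]

theorem C_le_EL (L : Subgroup G) [L.Normal] (x : G) : C x ≤ EL L x := by
  intro g hg
  rw [mem_EL]
  have hgx : g * x = x * g := mem_C.mp hg
  have : x⁻¹ * g⁻¹ * x * g = 1 := by
    calc x⁻¹ * g⁻¹ * x * g = x⁻¹ * g⁻¹ * (x * g) := by group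
      _ = x⁻¹ * g⁻¹ * (g * x) := by rw [hgx]
      _ = 1 := by group
  rw [this]
  exact one_mem _

theorem le_EL (L : Subgroup G) [hL : L.Normal] (x : G) : L ≤ EL L x := by
  intro g hg
  rw [mem_EL]
  have h1 : x⁻¹ * g⁻¹ * x⁻¹⁻¹ ∈ L := hL.conj_mem _ (inv_mem hg) _
  have : x⁻¹ * g⁻¹ * x * g = (x⁻¹ * g⁻¹ * x⁻¹⁻¹) * g := by group
  rw [this]
  exact mul_mem h1 hg

/-- The primitivity dichotomy for a normal subgroup `L` of `G`. -/
theorem EL_dich {N : Subgroup G} (h : Hyp N) {x : G} (hx : NC N x) (L : Subgroup G) [L.Normal] :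
    EL L x = C x ∨ EL L x = ⊤ := dich h hx (C_le_EL L x)

theorem le_C_of_EL_eq {L : Subgroup G} [L.Normal] {x : G} (he : EL L x = C x) : L ≤ C x := by
  rw [← he]
  exact le_EL L x

theorem comm_mem_of_EL_eq_top {L : Subgroup G} [L.Normal] {x : G} (he : EL L x = ⊤) (g : G) :
    x⁻¹ * g⁻¹ * x * g ∈ L := by
  rw [← mem_EL, he]
  exact mem_top g

/-- `C x` normalizes `N ⊓ C x`. -/
theorem C_le_normalizer (N : Subgroup G) [hN : N.Normal] (x : G) :
    C x ≤ normalizer ((N ⊓ C x : Subgroup G) : Set G) := by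
  intro m hm
  rw [mem_normalizer_iff]
  intro d
  constructor
  · intro hd
    exact mem_inf.mpr ⟨hN.conj_mem d (mem_inf.mp hd).1 m,
      mul_mem (mul_mem hm (mem_inf.mp hd).2) (inv_mem hm)⟩
  · intro hd
    have h1 : d = m⁻¹ * (m * d * m⁻¹) * m⁻¹⁻¹ := by group
    rw [h1]
    exact mem_inf.mpr ⟨hN.conj_mem _ (mem_inf.mp hd).1 m⁻¹,
      mul_mem (mul_mem (inv_mem hm) (mem_inf.mp hd).2) (inv_mem (inv_mem hm))⟩

theorem normalizer_dich {N : Subgroup G} [hN : N.Normal] (h : Hyp N) {x : G} (hx : NC N x) :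
    normalizer ((N ⊓ C x : Subgroup G) : Set G) = C x ∨
      normalizer ((N ⊓ C x : Subgroup G) : Set G) = ⊤ :=
  dich h hx (C_le_normalizer N x)

/-- Dichotomy for the join with a normal subgroup. -/
theorem sup_dich {N : Subgroup G} (h : Hyp N) {x : G} (hx : NC N x) (L : Subgroup G) :
    L ≤ C x ∨ L ⊔ C x = ⊤ := by
  rcases dich h hx (le_sup_right : C x ≤ L ⊔ C x) with h1 | h1
  · left
    rw [← h1]
    exact le_sup_left
  · exact Or.inr h1

/-- Dedekind: if `L ≤ N`, `L` normal and `L ⊔ C x = ⊤` then `N = L (N ∩ C x)`. -/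
theorem exists_mul_of_sup {N : Subgroup G} {x : G} (L : Subgroup G) [hL : L.Normal]
    (hLN : L ≤ N) (hsup : L ⊔ C x = ⊤) {n : G} (hn : n ∈ N) :
    ∃ l ∈ L, ∃ d ∈ N ⊓ C x, n = l * d := by
  have h1 : n ∈ ((L ⊔ C x : Subgroup G) : Set G) := by
    rw [hsup]
    exact mem_top n
  rw [Subgroup.normal_mul] at h1
  obtain ⟨l, hl, m, hm, rfl⟩ := Set.mem_mul.mp h1
  refine ⟨l, hl, m, mem_inf.mpr ⟨?_, hm⟩, rfl⟩
  have : m = l⁻¹ * (l * m) := by group
  rw [this]
  exact mul_mem (inv_mem (hLN hl)) hn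

/-- A normal subgroup `L ≤ N` of `G` containing `N ⊓ C x` properly is `N`. -/
theorem eq_of_inf_C_le {N : Subgroup G} (h : Hyp N) {x : G} (hx : NC N x) (L : Subgroup G)
    [hL : L.Normal] (hLN : L ≤ N) (hle : N ⊓ C x ≤ L) : L = N ⊓ C x ∨ L = N := by
  rcases sup_dich h hx L with h1 | h1
  · left
    exact le_antisymm (le_inf hLN h1) hle
  · right
    apply le_antisymm hLN
    intro n hn
    obtain ⟨l, hl, d, hd, rfl⟩ := exists_mul_of_sup L hLN h1 hn
    exact mul_mem hl (hle hd)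

end Cfsg.Agent.Helper29.RCM
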