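import Mathlib
import Cfsg.Agent.Lib.Helper29.RelCM1

set_option autoImplicit false

/-!
# Relative CM: the case where all `N ⊓ C x` are normal
-/

namespace Cfsg.Agent.Helper29.RCM

open Subgroup
open Cfsg.Agent.Helper29.CM
open scoped Pointwise

variable {G : Type*} [Group G]

theorem conj_mem_of_normalizer_top {D : Subgroup G} (hD : normalizer (D : Set G) = ⊤)
    {d : G} (hd : d ∈ D) (g : G) : g * d * g⁻¹ ∈ D := by
  have hg : g ∈ normalizer (D : Set G) := hD ▸ mem_top g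
  exact (mem_normalizer_iff.mp hg d).mp hd

/-- the centre of `N` (as a subgroup of `G`) is normalised by `G` -/
theorem conj_mem_centralizer {N : Subgroup G} [hN : N.Normal] {z : G}
    (hz : z ∈ centralizer (N : Set G)) (g : G) : g * z * g⁻¹ ∈ centralizer (N : Set G) := by
  rw [mem_centralizer_iff] at hz ⊢
  intro n hn
  have h1 := hz (g⁻¹ * n * g⁻¹⁻¹) (hN.conj_mem n hn g⁻¹)
  calc n * (g * z * g⁻¹) = g * ((g⁻¹ * n * g⁻¹⁻¹) * z) * g⁻¹ := by group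
    _ = g * (z * (g⁻¹ * n * g⁻¹⁻¹)) * g⁻¹ := by rw [h1]
    _ = g * z * g⁻¹ * n := by group

/-- Case 1: commutators of `N` are central in `N`. -/
theorem case1_comm {N : Subgroup G} [hN : N.Normal] (h : Hyp N)
    (hall : ∀ x, NC N x → normalizer ((N ⊓ C x : Subgroup G) : Set G) = ⊤)
    {x y : G} (hx : x ∈ N) (hy : y ∈ N) :
    x⁻¹ * y⁻¹ * x * y ∈ centralizer (N : Set G) := by
  by_cases hxc : x ∈ centralizer (N : Set G)
  · have h1 : y⁻¹ * x = x * y⁻¹ := (mem_centralizer_iff.mp hxc) y⁻¹ (inv_mem hy)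
    have : x⁻¹ * y⁻¹ * x * y = 1 := by
      calc x⁻¹ * y⁻¹ * x * y = x⁻¹ * (y⁻¹ * x) * y := by group
        _ = x⁻¹ * (x * y⁻¹) * y := by rw [h1]
        _ = 1 := by group
    rw [this]
    exact one_mem _
  by_cases hyc : y ∈ centralizer (N : Set G)
  · have h1 : x * y = y * x := (mem_centralizer_iff.mp hyc) x hx
    have : x⁻¹ * y⁻¹ * x * y = 1 := by
      calc x⁻¹ * y⁻¹ * x * y = x⁻¹ * y⁻¹ * (x * y) := by group
        _ = x⁻¹ * y⁻¹ * (y * x) := by rw [h1]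
        _ = 1 := by group
    rw [this]
    exact one_mem _
  have hxN : NC N x := ⟨hx, hxc⟩
  have hyN : NC N y := ⟨hy, hyc⟩
  by_cases hyx : y ∈ C x
  · have h1 : y * x = x * y := mem_C.mp hyx
    have : x⁻¹ * y⁻¹ * x * y = 1 := by
      calc x⁻¹ * y⁻¹ * x * y = x⁻¹ * y⁻¹ * (x * y) := by group
        _ = x⁻¹ * y⁻¹ * (y * x) := by rw [h1]
        _ = 1 := by group
    rw [this]
    exact one_mem _
  by_contra hv
  obtain ⟨v, hvdef⟩ : ∃ v, v = x⁻¹ * y⁻¹ * x * y := ⟨_, rfl⟩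
  rw [← hvdef] at hv
  have hvN : v ∈ N := by
    rw [hvdef]
    exact mul_mem (mul_mem (mul_mem (inv_mem hx) (inv_mem hy)) hx) hy
  have hvNC : NC N v := ⟨hvN, hv⟩
  -- step 1
  have hDx := hall x hxN
  have hDy := hall y hyN
  have hDv := hall v hvNC
  have h1 : N ⊓ C x ≤ N ⊓ C v := by
    intro d hd
    refine mem_inf.mpr ⟨(mem_inf.mp hd).1, ?_⟩
    have hdx : d * x = x * d := mem_C.mp (mem_inf.mp hd).2
    have h2 : y * d * y⁻¹ ∈ N ⊓ C x := conj_mem_of_normalizer_top hDx hd y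
    have h3 : (y * d * y⁻¹) * x = x * (y * d * y⁻¹) := mem_C.mp (mem_inf.mp h2).2
    have h4 : d * (y⁻¹ * x * y) = (y⁻¹ * x * y) * d := by
      calc d * (y⁻¹ * x * y) = y⁻¹ * ((y * d * y⁻¹) * x) * y := by group
        _ = y⁻¹ * (x * (y * d * y⁻¹)) * y := by rw [h3]
        _ = (y⁻¹ * x * y) * d := by group
    have hdx' : d * x⁻¹ = x⁻¹ * d := by
      have : Commute d x := hdx
      exact this.inv_right.eq
    rw [mem_C, hvdef]
    calc d * (x⁻¹ * y⁻¹ * x * y) = (d * x⁻¹) * (y⁻¹ * x * y) := by group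
      _ = x⁻¹ * (d * (y⁻¹ * x * y)) := by rw [hdx']; group
      _ = x⁻¹ * ((y⁻¹ * x * y) * d) := by rw [h4]
      _ = x⁻¹ * y⁻¹ * x * y * d := by group
  -- step 2
  haveI hLn : (N ⊓ C v).Normal := normalizer_eq_top_iff.mp hDv
  have h5 : N ⊓ C v = N ⊓ C x := by
    rcases eq_of_inf_C_le h hxN (N ⊓ C v) inf_le_left h1 with h6 | h6
    · exact h6
    · exfalso
      apply not_le_C hvNC
      rw [← h6]
      exact inf_le_right
  -- step 3
  have h7 : x⁻¹ * y⁻¹ * x⁻¹⁻¹ ∈ N ⊓ C y :=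
    conj_mem_of_normalizer_top hDy (mem_inf.mpr ⟨inv_mem hy, inv_mem (self_mem_C y)⟩) x⁻¹
  have h8 : v ∈ N ⊓ C y := by
    have : v = (x⁻¹ * y⁻¹ * x⁻¹⁻¹) * y := by rw [hvdef]; group
    rw [this]
    exact mul_mem h7 (mem_inf.mpr ⟨hy, self_mem_C y⟩)
  have h9 : y ∈ N ⊓ C v := by
    refine mem_inf.mpr ⟨hy, ?_⟩
    rw [mem_C]
    exact (mem_C.mp (mem_inf.mp h8).2).symm
  rw [h5] at h9
  exact hyx (mem_inf.mp h9).2

/-- conjugating by a power when the commutator commutes with the conjugator -/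
theorem conj_pow_comm {x n c : G} (e : n⁻¹ * x * n = x * c) (hcn : c * n = n * c) (k : ℕ) :
    (n ^ k)⁻¹ * x * n ^ k = x * c ^ k := by
  induction k with
  | zero => simp
  | succ k ih =>
    have hck : c ^ k * n = n * c ^ k := ((show Commute c n from hcn).pow_left k).eq
    calc (n ^ (k + 1))⁻¹ * x * n ^ (k + 1) = n⁻¹ * ((n ^ k)⁻¹ * x * n ^ k) * n := by
          rw [pow_succ]; group
      _ = n⁻¹ * (x * c ^ k) * n := by rw [ih]
      _ = (n⁻¹ * x * n) * (n⁻¹ * (c ^ k * n)) := by group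
      _ = (x * c) * (n⁻¹ * (n * c ^ k)) := by rw [e, hck]
      _ = x * c ^ (k + 1) := by rw [pow_succ']; group

/-- the `p`-torsion of the centre of `N` -/
def ZP (N : Subgroup G) (p : ℕ) : Subgroup G where
  carrier := {z | z ∈ N ∧ z ∈ centralizer (N : Set G) ∧ z ^ p = 1}
  one_mem' := ⟨one_mem _, one_mem _, one_pow _⟩
  mul_mem' := by
    rintro a b ⟨ha, hac, hap⟩ ⟨hb, hbc, hbp⟩
    refine ⟨mul_mem ha hb, mul_mem hac hbc, ?_⟩
    have hcomm : Commute a b := ((mem_centralizer_iff.mp hac) b hb).symm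
    rw [hcomm.mul_pow, hap, hbp, one_mul]
  inv_mem' := by
    rintro a ⟨ha, hac, hap⟩
    exact ⟨inv_mem ha, inv_mem hac, by rw [inv_pow, hap, inv_one]⟩

theorem mem_ZP {N : Subgroup G} {p : ℕ} {z : G} :
    z ∈ ZP N p ↔ z ∈ N ∧ z ∈ centralizer (N : Set G) ∧ z ^ p = 1 := Iff.rfl

instance ZP_normal (N : Subgroup G) [hN : N.Normal] (p : ℕ) : (ZP N p).Normal := by
  constructor
  rintro z ⟨hz, hzc, hzp⟩ g
  refine ⟨hN.conj_mem z hz g, conj_mem_centralizer hzc g, ?_⟩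
  rw [conj_pow, hzp]
  group

/-- Case 1: a non-central element of `N` has prime order modulo the centre of `N`. -/
theorem case1_pow {N : Subgroup G} [hN : N.Normal] [Finite G] (h : Hyp N)
    (hall : ∀ x, NC N x → normalizer ((N ⊓ C x : Subgroup G) : Set G) = ⊤)
    {x : G} (hx : NC N x) : ∃ p : ℕ, p.Prime ∧ x ^ p ∈ centralizer (N : Set G) := by
  obtain ⟨n₀, hn₀, hne⟩ := not_mem_centralizer_iff.mp hx.2
  obtain ⟨c₀, hc₀def⟩ : ∃ c₀, c₀ = x⁻¹ * n₀⁻¹ * x * n₀ := ⟨_, rfl⟩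
  have hc₀Z : c₀ ∈ centralizer (N : Set G) := by
    rw [hc₀def]
    exact case1_comm h hall hx.1 hn₀
  have hc₀N : c₀ ∈ N := by
    rw [hc₀def]
    exact mul_mem (mul_mem (mul_mem (inv_mem hx.1) (inv_mem hn₀)) hx.1) hn₀
  have hc₀1 : c₀ ≠ 1 := by
    intro h1
    apply hne
    have : n₀⁻¹ * x * n₀ = x := by
      calc n₀⁻¹ * x * n₀ = x * (x⁻¹ * n₀⁻¹ * x * n₀) := by group
        _ = x := by rw [← hc₀def, h1, mul_one]
    calc n₀ * x = n₀ * (n₀⁻¹ * x * n₀) := by rw [this]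
      _ = x * n₀ := by group
  have ho1 : orderOf c₀ ≠ 1 := by
    rw [Ne, orderOf_eq_one_iff]
    exact hc₀1
  obtain ⟨p, hp, hpo⟩ := Nat.exists_prime_and_dvd ho1
  obtain ⟨k, hk⟩ := hpo
  refine ⟨p, hp, ?_⟩
  -- the element n₀ ^ k
  have e0 : n₀⁻¹ * x * n₀ = x * c₀ := by rw [hc₀def]; group
  have hcn : c₀ * n₀ = n₀ * c₀ := ((mem_centralizer_iff.mp hc₀Z) n₀ hn₀).symm
  have e1 : (n₀ ^ k)⁻¹ * x * n₀ ^ k = x * c₀ ^ k := conj_pow_comm e0 hcn k
  have hckp : (c₀ ^ k) ^ p = 1 := by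
    rw [← pow_mul, mul_comm, ← hk, pow_orderOf_eq_one]
  have hck1 : c₀ ^ k ≠ 1 := by
    intro h1
    have hdvd : orderOf c₀ ∣ k := orderOf_dvd_of_pow_eq_one h1
    have hopos : 0 < orderOf c₀ := orderOf_pos c₀
    have hkpos : 0 < k := by
      rcases Nat.eq_zero_or_pos k with h0 | h0
      · rw [h0, mul_zero] at hk; omega
      · exact h0
    have hle := Nat.le_of_dvd hkpos hdvd
    have := hp.two_le
    nlinarith
  have hmemEL : n₀ ^ k ∈ EL (ZP N p) x := by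
    rw [mem_EL]
    have : x⁻¹ * (n₀ ^ k)⁻¹ * x * n₀ ^ k = c₀ ^ k := by
      calc x⁻¹ * (n₀ ^ k)⁻¹ * x * n₀ ^ k = x⁻¹ * ((n₀ ^ k)⁻¹ * x * n₀ ^ k) := by group
        _ = x⁻¹ * (x * c₀ ^ k) := by rw [e1]
        _ = c₀ ^ k := by group
    rw [this]
    exact ⟨pow_mem hc₀N k, pow_mem hc₀Z k, hckp⟩
  have hnotC : n₀ ^ k ∉ C x := by
    intro hmem
    apply hck1
    have h2 : n₀ ^ k * x = x * n₀ ^ k := mem_C.mp hmem
    have : x * c₀ ^ k = x := by
      rw [← e1]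
      calc (n₀ ^ k)⁻¹ * x * n₀ ^ k = (n₀ ^ k)⁻¹ * (x * n₀ ^ k) := by group
        _ = (n₀ ^ k)⁻¹ * (n₀ ^ k * x) := by rw [h2]
        _ = x := by group
    exact mul_left_cancel (this.trans (mul_one x).symm)
  have htop : EL (ZP N p) x = ⊤ := by
    rcases EL_dich h hx (ZP N p) with h1 | h1
    · exfalso
      exact hnotC (h1 ▸ hmemEL)
    · exact h1
  rw [mem_centralizer_iff]
  intro n hn
  have h3 := comm_mem_of_EL_eq_top htop n
  obtain ⟨hcN, hcZ, hcp⟩ := h3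
  obtain ⟨c, hcdef⟩ : ∃ c, c = x⁻¹ * n⁻¹ * x * n := ⟨_, rfl⟩
  rw [← hcdef] at hcN hcZ hcp
  have e2 : n⁻¹ * x * n = x * c := by rw [hcdef]; group
  have hcx : Commute x c := ((mem_centralizer_iff.mp hcZ) x hx.1)
  have e3 : n⁻¹ * x ^ p * n = x ^ p := by
    calc n⁻¹ * x ^ p * n = (n⁻¹ * x * n) ^ p := by
          rw [show n⁻¹ * x * n = n⁻¹ * x * n⁻¹⁻¹ by group, conj_pow]; group
      _ = (x * c) ^ p := by rw [e2]
      _ = x ^ p := by rw [hcx.mul_pow, hcp, mul_one]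
  calc n * x ^ p = n * (n⁻¹ * x ^ p * n) := by rw [e3]
    _ = x ^ p * n := by group

end Cfsg.Agent.Helper29.RCM
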