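import Mathlib
import Cfsg.Agent.Lib.Helper29.RelCM2

set_option autoImplicit false

/-!
# Relative CM: if some `N ⊓ C x₀` is not normal then `Z₂(N) = Z(N)`
-/

namespace Cfsg.Agent.Helper29.RCM

open Subgroup
open Cfsg.Agent.Helper29.CM
open scoped Pointwise

variable {G : Type*} [Group G]

/-- the centre of `N` as a subgroup of `G` -/
def ZN (N : Subgroup G) : Subgroup G := N ⊓ centralizer (N : Set G)

instance ZN_normal (N : Subgroup G) [hN : N.Normal] : (ZN N).Normal := by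
  constructor
  intro z hz g
  exact mem_inf.mpr ⟨hN.conj_mem z (mem_inf.mp hz).1 g, conj_mem_centralizer (mem_inf.mp hz).2 g⟩

theorem ZN_le (N : Subgroup G) : ZN N ≤ N := inf_le_left

theorem ZN_le_C {N : Subgroup G} {x : G} (hx : x ∈ N) : ZN N ≤ C x := by
  intro z hz
  rw [mem_C]
  exact ((mem_centralizer_iff.mp (mem_inf.mp hz).2) x hx).symm

theorem ZN_comm {N : Subgroup G} {z n : G} (hz : z ∈ ZN N) (hn : n ∈ N) : z * n = n * z :=
  ((mem_centralizer_iff.mp (mem_inf.mp hz).2) n hn).symm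

/-- the second centre of `N` as a subgroup of `G` -/
def Z2 (N : Subgroup G) [N.Normal] : Subgroup G :=
  N ⊓ (centralizer ((N.map (QuotientGroup.mk' (ZN N)) : Subgroup (G ⧸ ZN N)) : Set (G ⧸ ZN N))).comap
    (QuotientGroup.mk' (ZN N))

theorem mem_Z2 {N : Subgroup G} [hN : N.Normal] {w : G} :
    w ∈ Z2 N ↔ w ∈ N ∧ ∀ n ∈ N, w⁻¹ * n⁻¹ * w * n ∈ ZN N := by
  unfold Z2
  rw [mem_inf, mem_comap, mem_centralizer_iff]
  constructor
  · rintro ⟨hw, hc⟩
    refine ⟨hw, ?_⟩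
    intro n hn
    have h1 := hc (QuotientGroup.mk' (ZN N) n) (mem_map_of_mem _ hn)
    rw [← map_mul, ← map_mul, QuotientGroup.mk'_apply, QuotientGroup.mk'_apply,
      QuotientGroup.eq] at h1
    have e : (n * w)⁻¹ * (w * n) = w⁻¹ * n⁻¹ * w * n := by group
    rwa [e] at h1
  · rintro ⟨hw, hc⟩
    refine ⟨hw, ?_⟩
    rintro _ ⟨n, hn, rfl⟩
    rw [← map_mul, ← map_mul, QuotientGroup.mk'_apply, QuotientGroup.mk'_apply,
      QuotientGroup.eq]
    have e : (n * w)⁻¹ * (w * n) = w⁻¹ * n⁻¹ * w * n := by group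
    rw [e]
    exact hc n hn

theorem ZN_le_Z2 (N : Subgroup G) [hN : N.Normal] : ZN N ≤ Z2 N := by
  intro z hz
  rw [mem_Z2]
  refine ⟨(mem_inf.mp hz).1, ?_⟩
  intro n hn
  have h1 : n⁻¹ * z = z * n⁻¹ := (ZN_comm hz (inv_mem hn)).symm
  have : z⁻¹ * n⁻¹ * z * n = 1 := by
    calc z⁻¹ * n⁻¹ * z * n = z⁻¹ * (n⁻¹ * z) * n := by group
      _ = z⁻¹ * (z * n⁻¹) * n := by rw [h1]
      _ = 1 := by group
  rw [this]
  exact one_mem _

/-- conjugation criterion for `N ≤ normalizer D` -/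
theorem le_normalizer_of_conj {W D : Subgroup G} (hc : ∀ n ∈ W, ∀ d ∈ D, n * d * n⁻¹ ∈ D) :
    W ≤ normalizer (D : Set G) := by
  intro n hn
  rw [mem_normalizer_iff]
  intro d
  constructor
  · exact hc n hn d
  · intro hd
    have := hc n⁻¹ (inv_mem hn) _ hd
    have e : n⁻¹ * (n * d * n⁻¹) * n⁻¹⁻¹ = d := by group
    rwa [e] at this

/-- elements of the second centre normalise every `N ⊓ C x`, `x ∈ N` -/
theorem Z2_le_normalizer {N : Subgroup G} [hN : N.Normal] {x : G} (hx : x ∈ N) :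
    Z2 N ≤ normalizer ((N ⊓ C x : Subgroup G) : Set G) := by
  apply le_normalizer_of_conj
  intro w hw d hd
  obtain ⟨hwN, hw2⟩ := mem_Z2.mp hw
  have hdN := (mem_inf.mp hd).1
  have hc := hw2 d⁻¹ (inv_mem hdN)
  rw [inv_inv] at hc
  have hc' : w * (w⁻¹ * d * w * d⁻¹)⁻¹ * w⁻¹ ∈ ZN N := (ZN_normal N).conj_mem _ (inv_mem hc) w
  have e : w * d * w⁻¹ = (w * (w⁻¹ * d * w * d⁻¹)⁻¹ * w⁻¹) * d := by group
  rw [e]
  exact mul_mem (mem_inf.mpr ⟨ZN_le N hc', ZN_le_C hx hc'⟩) hd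

/-- if `x ∈ Z₂(N)` is non-central then `N ⊓ C x` is normal in `G` -/
theorem normalizer_top_of_mem_Z2 {N : Subgroup G} [hN : N.Normal] (h : Hyp N) {x : G}
    (hx : NC N x) (hx2 : x ∈ Z2 N) : normalizer ((N ⊓ C x : Subgroup G) : Set G) = ⊤ := by
  have h1 : N ≤ normalizer ((N ⊓ C x : Subgroup G) : Set G) := by
    apply le_normalizer_of_conj
    intro n hn d hd
    obtain ⟨hxN, hx2'⟩ := mem_Z2.mp hx2
    have hdN := (mem_inf.mp hd).1
    have hdx : d * x = x * d := mem_C.mp (mem_inf.mp hd).2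
    refine mem_inf.mpr ⟨hN.conj_mem d hdN n, ?_⟩
    have hc := hx2' n hn
    obtain ⟨c, hcdef⟩ : ∃ c, c = x⁻¹ * n⁻¹ * x * n := ⟨_, rfl⟩
    rw [← hcdef] at hc
    have e1 : n⁻¹ * x * n = x * c := by rw [hcdef]; group
    have hcd : c * d = d * c := ZN_comm hc hdN
    rw [mem_C]
    have e2 : d * (n⁻¹ * x * n) = (n⁻¹ * x * n) * d := by
      rw [e1]
      calc d * (x * c) = (d * x) * c := by group
        _ = (x * d) * c := by rw [hdx]
        _ = x * (d * c) := by group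
        _ = x * (c * d) := by rw [hcd]
        _ = x * c * d := by group
    calc n * d * n⁻¹ * x = n * (d * (n⁻¹ * x * n)) * n⁻¹ := by group
      _ = n * ((n⁻¹ * x * n) * d) * n⁻¹ := by rw [e2]
      _ = x * (n * d * n⁻¹) := by group
  rw [eq_top_iff, ← sup_C_eq_top h hx]
  exact sup_le h1 (C_le_normalizer N x)

/-- an element of the second centre commutes with commutators -/
theorem Z2_comm_commutator {N : Subgroup G} [hN : N.Normal] {w : G} (hw : w ∈ Z2 N)
    {a b : G} (ha : a ∈ N) (hb : b ∈ N) :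
    w * (a * b * a⁻¹ * b⁻¹) = (a * b * a⁻¹ * b⁻¹) * w := by
  obtain ⟨hwN, hw2⟩ := mem_Z2.mp hw
  have hza := hw2 a⁻¹ (inv_mem ha)
  have hzb := hw2 b⁻¹ (inv_mem hb)
  rw [inv_inv] at hza hzb
  obtain ⟨za, hzadef⟩ : ∃ za, za = w⁻¹ * a * w * a⁻¹ := ⟨_, rfl⟩
  obtain ⟨zb, hzbdef⟩ : ∃ zb, zb = w⁻¹ * b * w * b⁻¹ := ⟨_, rfl⟩
  rw [← hzadef] at hza
  rw [← hzbdef] at hzb
  have ea : w⁻¹ * a * w = za * a := by rw [hzadef]; group
  have eb : w⁻¹ * b * w = zb * b := by rw [hzbdef]; group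
  have c1 : Commute za a := ZN_comm hza ha
  have c2 : Commute za b := ZN_comm hza hb
  have c3 : Commute zb a := ZN_comm hzb ha
  have c4 : Commute zb b := ZN_comm hzb hb
  have c5 : Commute za zb := ZN_comm hza (ZN_le N hzb)
  have key : w⁻¹ * (a * b * a⁻¹ * b⁻¹) * w = a * b * a⁻¹ * b⁻¹ := by
    have e1 : w⁻¹ * (a * b * a⁻¹ * b⁻¹) * w
        = (w⁻¹ * a * w) * (w⁻¹ * b * w) * (w⁻¹ * a * w)⁻¹ * (w⁻¹ * b * w)⁻¹ := by group
    rw [e1, ea, eb]
    have e2 : za * a * (zb * b) = (za * zb) * (a * b) := by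
      calc za * a * (zb * b) = za * (a * zb) * b := by group
        _ = za * (zb * a) * b := by rw [c3.eq]
        _ = (za * zb) * (a * b) := by group
    have e3 : (zb * b) * (za * a) = (za * zb) * (b * a) := by
      calc (zb * b) * (za * a) = zb * (b * za) * a := by group
        _ = zb * (za * b) * a := by rw [c2.eq]
        _ = (zb * za) * (b * a) := by group
        _ = (za * zb) * (b * a) := by rw [c5.eq]
    have e4 : za * a * (zb * b) * (za * a)⁻¹ * (zb * b)⁻¹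
        = (za * a * (zb * b)) * ((zb * b) * (za * a))⁻¹ := by group
    rw [e4, e2, e3]
    have c6 : Commute (za * zb) (a * b) := (c1.mul_right c2).mul_left (c3.mul_right c4)
    have c7 : Commute (za * zb) (b * a) := (c2.mul_right c1).mul_left (c4.mul_right c3)
    calc za * zb * (a * b) * (za * zb * (b * a))⁻¹
        = (za * zb) * ((a * b) * (b * a)⁻¹) * (za * zb)⁻¹ := by group
      _ = ((a * b) * (b * a)⁻¹) * (za * zb) * (za * zb)⁻¹ := by
          rw [(c6.mul_right c7.inv_right).eq]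
      _ = a * b * a⁻¹ * b⁻¹ := by group
  calc w * (a * b * a⁻¹ * b⁻¹) = w * (w⁻¹ * (a * b * a⁻¹ * b⁻¹) * w) := by rw [key]
    _ = (a * b * a⁻¹ * b⁻¹) * w := by group

/-- Theorem C: if some `N ⊓ C x₀` is not normal, then the second centre of `N` is the centre. -/
theorem Z2_eq_ZN {N : Subgroup G} [hN : N.Normal] (h : Hyp N) {x₀ : G} (hx₀ : NC N x₀)
    (hnn : normalizer ((N ⊓ C x₀ : Subgroup G) : Set G) = C x₀) :
    Z2 N ≤ ZN N := by
  intro w hwW
  by_contra hwZ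
  have hwN : w ∈ N := (mem_Z2.mp hwW).1
  have hwNC : NC N w := ⟨hwN, fun hc => hwZ (mem_inf.mpr ⟨hwN, hc⟩)⟩
  have hCtop : C x₀ ≠ ⊤ := C_ne_top h hx₀
  -- C.1
  have hx₀W : x₀ ∉ Z2 N := by
    intro hmem
    have := normalizer_top_of_mem_Z2 h hx₀ hmem
    rw [hnn] at this
    exact hCtop this
  -- C.2
  have hEL : EL (ZN N) x₀ = C x₀ := by
    rcases EL_dich h hx₀ (ZN N) with h1 | h1
    · exact h1
    · exfalso
      apply hx₀W
      rw [mem_Z2]
      exact ⟨hx₀.1, fun n _ => comm_mem_of_EL_eq_top h1 n⟩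
  -- C.3
  have hWC : Z2 N ≤ C x₀ := by
    rcases sup_dich h hx₀ (Z2 N) with h1 | h1
    · exact h1
    · exfalso
      apply hCtop
      rw [← hnn, eq_top_iff, ← h1]
      exact sup_le (Z2_le_normalizer hx₀.1) (C_le_normalizer N x₀)
  have hwx₀ : w * x₀ = x₀ * w := mem_C.mp (hWC hwW)
  -- C.4
  have hxwNC : NC N (x₀ * w) := by
    refine ⟨mul_mem hx₀.1 hwN, ?_⟩
    intro hc
    apply hx₀W
    have h1 : x₀ * w ∈ Z2 N := ZN_le_Z2 N (mem_inf.mpr ⟨mul_mem hx₀.1 hwN, hc⟩)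
    have : x₀ = (x₀ * w) * w⁻¹ := by group
    rw [this]
    exact mul_mem h1 (inv_mem hwW)
  -- C.5
  have hD : N ⊓ C (x₀ * w) = N ⊓ C x₀ ⊓ C w := by
    apply le_antisymm
    · intro n hn
      have hnN := (mem_inf.mp hn).1
      have hnxw : n * (x₀ * w) = (x₀ * w) * n := mem_C.mp (mem_inf.mp hn).2
      have hc := (mem_Z2.mp hwW).2 n hnN
      obtain ⟨c, hcdef⟩ : ∃ c, c = w⁻¹ * n⁻¹ * w * n := ⟨_, rfl⟩
      rw [← hcdef] at hc
      have e1 : n⁻¹ * w * n = w * c := by rw [hcdef]; group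
      have hcw : c * w = w * c := ZN_comm hc hwN
      have e2 : n⁻¹ * (x₀ * w) * n = x₀ * w := by
        calc n⁻¹ * (x₀ * w) * n = n⁻¹ * ((x₀ * w) * n) := by group
          _ = n⁻¹ * (n * (x₀ * w)) := by rw [hnxw]
          _ = x₀ * w := by group
      have e3 : (n⁻¹ * x₀ * n) * (w * c) = x₀ * w := by
        rw [← e1, ← e2]; group
      have e4 : x₀⁻¹ * n⁻¹ * x₀ * n = c⁻¹ := by
        have : n⁻¹ * x₀ * n = x₀ * w * (w * c)⁻¹ := by
          rw [← e3]; group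
        have hcw' : w * c⁻¹ = c⁻¹ * w := by
          have hc1 : Commute w c := hcw.symm
          exact hc1.inv_right.eq
        calc x₀⁻¹ * n⁻¹ * x₀ * n = x₀⁻¹ * (n⁻¹ * x₀ * n) := by group
          _ = x₀⁻¹ * (x₀ * w * (w * c)⁻¹) := by rw [this]
          _ = (w * c⁻¹) * w⁻¹ := by group
          _ = (c⁻¹ * w) * w⁻¹ := by rw [hcw']
          _ = c⁻¹ := by group
      have hnEL : n ∈ EL (ZN N) x₀ := by
        rw [mem_EL, e4]
        exact inv_mem hc
      rw [hEL] at hnEL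
      refine mem_inf.mpr ⟨mem_inf.mpr ⟨hnN, hnEL⟩, ?_⟩
      rw [mem_C]
      have hnx : n * x₀ = x₀ * n := mem_C.mp hnEL
      have : x₀ * (n * w) = x₀ * (w * n) := by
        calc x₀ * (n * w) = (x₀ * n) * w := by group
          _ = (n * x₀) * w := by rw [hnx]
          _ = n * (x₀ * w) := by group
          _ = x₀ * w * n := hnxw
          _ = x₀ * (w * n) := by group
      exact mul_left_cancel this
    · intro n hn
      have h1 := mem_inf.mp hn
      have h2 := mem_inf.mp h1.1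
      refine mem_inf.mpr ⟨h2.1, ?_⟩
      rw [mem_C]
      have hnx : n * x₀ = x₀ * n := mem_C.mp h2.2
      have hnw : n * w = w * n := mem_C.mp h1.2
      calc n * (x₀ * w) = (n * x₀) * w := by group
        _ = (x₀ * n) * w := by rw [hnx]
        _ = x₀ * (n * w) := by group
        _ = x₀ * (w * n) := by rw [hnw]
        _ = x₀ * w * n := by group
  -- C.6
  have hDw : normalizer ((N ⊓ C w : Subgroup G) : Set G) = ⊤ :=
    normalizer_top_of_mem_Z2 h hwNC hwW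
  haveI hDwn : (N ⊓ C w).Normal := normalizer_eq_top_iff.mp hDw
  -- C.7
  have hex : ∃ d ∈ N ⊓ C x₀, d ∉ C w := by
    by_contra hcon
    push Not at hcon
    have hle : N ⊓ C x₀ ≤ N ⊓ C w := fun d hd => mem_inf.mpr ⟨(mem_inf.mp hd).1, hcon d hd⟩
    rcases eq_of_inf_C_le h hx₀ (N ⊓ C w) inf_le_left hle with h1 | h1
    · apply hCtop
      rw [← hnn, ← h1]
      exact hDw
    · apply not_le_C hwNC
      rw [← h1]
      exact inf_le_right
  obtain ⟨d, hd, hdw⟩ := hex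
  have hdnorm : d ∈ normalizer ((N ⊓ C (x₀ * w) : Subgroup G) : Set G) := by
    have : zpowers d ≤ normalizer ((N ⊓ C (x₀ * w) : Subgroup G) : Set G) := by
      apply le_normalizer_of_conj
      intro n hn e he
      rw [hD] at he ⊢
      have hnD : n ∈ N ⊓ C x₀ := (zpowers_le.mpr hd) hn
      have h1 := mem_inf.mp he
      refine mem_inf.mpr ⟨mul_mem (mul_mem hnD h1.1) (inv_mem hnD), ?_⟩
      have h2 : e ∈ N ⊓ C w := mem_inf.mpr ⟨(mem_inf.mp h1.1).1, h1.2⟩
      exact (mem_inf.mp (hDwn.conj_mem e h2 n)).2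
    exact this (mem_zpowers d)
  have hdxw : d ∉ C (x₀ * w) := by
    intro hmem
    have : d ∈ N ⊓ C (x₀ * w) := mem_inf.mpr ⟨(mem_inf.mp hd).1, hmem⟩
    rw [hD] at this
    exact hdw (mem_inf.mp this).2
  have hDxw : normalizer ((N ⊓ C (x₀ * w) : Subgroup G) : Set G) = ⊤ := by
    rcases normalizer_dich h hxwNC with h1 | h1
    · exfalso
      exact hdxw (h1 ▸ hdnorm)
    · exact h1
  -- C.8
  rcases sup_dich h hxwNC (N ⊓ C w) with h1 | h1
  · have hle : N ⊓ C w ≤ N ⊓ C x₀ := by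
      intro e he
      have : e ∈ N ⊓ C (x₀ * w) := mem_inf.mpr ⟨(mem_inf.mp he).1, h1 he⟩
      rw [hD] at this
      exact (mem_inf.mp this).1
    apply not_le_C hx₀
    rw [← hnn]
    apply le_normalizer_of_conj
    intro n hn e he
    have heN := (mem_inf.mp he).1
    have hk : e⁻¹ * n * e⁻¹⁻¹ * n⁻¹ ∈ N ⊓ C w := by
      refine mem_inf.mpr ⟨mul_mem (mul_mem (mul_mem (inv_mem heN) hn) (inv_mem (inv_mem heN)))
        (inv_mem hn), ?_⟩
      rw [mem_C]
      exact (Z2_comm_commutator hwW (inv_mem heN) hn).symm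
    have e5 : n * e * n⁻¹ = e * (e⁻¹ * n * e⁻¹⁻¹ * n⁻¹) := by group
    rw [e5]
    exact mul_mem he (hle hk)
  · apply not_le_C hwNC
    intro n hn
    obtain ⟨l, hl, e, he, rfl⟩ := exists_mul_of_sup (N ⊓ C w) inf_le_left h1 hn
    rw [hD] at he
    exact mul_mem (mem_inf.mp hl).2 (mem_inf.mp he).2

end Cfsg.Agent.Helper29.RCM
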