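import Mathlib
import Cfsg.Agent.Lib.Helper29.RelCM3

set_option autoImplicit false

/-!
# Relative CM with trivial centre: `N/L` is abelian; the case `N'` abelian
-/

namespace Cfsg.Agent.Helper29.RCM

open Subgroup
open Cfsg.Agent.Helper29.CM
open scoped Pointwise
open scoped commutatorElement

variable {G : Type*} [Group G]

theorem nc_of_ne_one {N : Subgroup G} (hZ : ZN N = ⊥) {x : G} (hx : x ∈ N) (hx1 : x ≠ 1) :
    NC N x := by
  refine ⟨hx, ?_⟩
  intro hc
  apply hx1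
  have : x ∈ ZN N := mem_inf.mpr ⟨hx, hc⟩
  rw [hZ] at this
  exact mem_bot.mp this

/-- elements of `N` central modulo a normal subgroup `L` -/
def CL (N L : Subgroup G) [L.Normal] : Subgroup G :=
  N ⊓ (centralizer ((N.map (QuotientGroup.mk' L) : Subgroup (G ⧸ L)) : Set (G ⧸ L))).comap
    (QuotientGroup.mk' L)

theorem mem_CL {N L : Subgroup G} [hL : L.Normal] {w : G} :
    w ∈ CL N L ↔ w ∈ N ∧ ∀ n ∈ N, w⁻¹ * n⁻¹ * w * n ∈ L := by
  unfold CL
  rw [mem_inf, mem_comap, mem_centralizer_iff]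
  constructor
  · rintro ⟨hw, hc⟩
    refine ⟨hw, ?_⟩
    intro n hn
    have h1 := hc (QuotientGroup.mk' L n) (mem_map_of_mem _ hn)
    rw [← map_mul, ← map_mul, QuotientGroup.mk'_apply, QuotientGroup.mk'_apply,
      QuotientGroup.eq] at h1
    have e : (n * w)⁻¹ * (w * n) = w⁻¹ * n⁻¹ * w * n := by group
    rwa [e] at h1
  · rintro ⟨hw, hc⟩
    refine ⟨hw, ?_⟩
    rintro _ ⟨n, hn, rfl⟩
    rw [← map_mul, ← map_mul, QuotientGroup.mk'_apply, QuotientGroup.mk'_apply,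
      QuotientGroup.eq]
    have e : (n * w)⁻¹ * (w * n) = w⁻¹ * n⁻¹ * w * n := by group
    rw [e]
    exact hc n hn

/-- A2: with trivial centre, `N/L` is abelian for every non-trivial normal `L ≤ N`. -/
theorem commutator_le_of_normal {N : Subgroup G} [hN : N.Normal] (h : Hyp N) (hZ : ZN N = ⊥)
    (L : Subgroup G) [hL : L.Normal] (hLN : L ≤ N) (hL1 : L ≠ ⊥) : ⁅N, N⁆ ≤ L := by
  -- an element x₁ of N not centralised by L
  have hex : ∃ x₁ ∈ N, ¬ L ≤ C x₁ := by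
    by_contra hcon
    push Not at hcon
    apply hL1
    rw [eq_bot_iff, ← hZ]
    intro l hl
    refine mem_inf.mpr ⟨hLN hl, ?_⟩
    rw [mem_centralizer_iff]
    intro n hn
    exact (mem_C.mp (hcon n hn hl)).symm
  obtain ⟨x₁, hx₁, hx₁L⟩ := hex
  have key : ∀ x ∈ N, ¬ L ≤ C x → x ∈ CL N L := by
    intro x hx hxL
    have hx1 : x ≠ 1 := by
      rintro rfl
      apply hxL
      intro l _
      rw [mem_C]
      simp
    have hxNC := nc_of_ne_one hZ hx hx1
    rcases EL_dich h hxNC L with h1 | h1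
    · exact absurd (le_C_of_EL_eq h1) hxL
    · rw [mem_CL]
      exact ⟨hx, fun n _ => comm_mem_of_EL_eq_top h1 n⟩
  have hx₁S := key x₁ hx₁ hx₁L
  have hall : N ≤ CL N L := by
    intro y hy
    by_cases hyL : L ≤ C y
    · have hxy : ¬ L ≤ C (x₁ * y) := by
        intro hle
        apply hx₁L
        intro l hl
        have h1 : l * (x₁ * y) = (x₁ * y) * l := mem_C.mp (hle hl)
        have h2 : l * y = y * l := mem_C.mp (hyL hl)
        rw [mem_C]
        have : (l * x₁) * y = (x₁ * l) * y := by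
          calc (l * x₁) * y = l * (x₁ * y) := by group
            _ = (x₁ * y) * l := h1
            _ = x₁ * (y * l) := by group
            _ = x₁ * (l * y) := by rw [h2]
            _ = (x₁ * l) * y := by group
        exact mul_right_cancel this
      have h3 := key (x₁ * y) (mul_mem hx₁ hy) hxy
      have : y = x₁⁻¹ * (x₁ * y) := by group
      rw [this]
      exact mul_mem (inv_mem hx₁S) h3
    · exact key y hy hyL
  rw [Subgroup.commutator_le]
  intro a ha b hb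
  have h1 := (mem_CL.mp (hall (inv_mem ha))).2 b⁻¹ (inv_mem hb)
  rw [inv_inv, inv_inv] at h1
  rw [commutatorElement_def]
  exact h1

theorem commutator_ne_bot {N : Subgroup G} (hZ : ZN N = ⊥) (hN1 : N ≠ ⊥) : ⁅N, N⁆ ≠ ⊥ := by
  intro hb
  apply hN1
  rw [Subgroup.commutator_eq_bot_iff_le_centralizer] at hb
  rw [eq_bot_iff, ← hZ]
  exact le_inf le_rfl hb

/-- output format of Theorem A -/
def FrobData (N : Subgroup G) : Prop :=
  ∃ (K Q : Subgroup G) (p : ℕ), p.Prime ∧ K ≤ N ∧ Q ≤ N ∧ K ≠ ⊥ ∧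
    (∀ n ∈ N, ∀ k ∈ K, n * k * n⁻¹ ∈ K) ∧ (∀ x, x ∈ K → x ∈ Q → x = 1) ∧
    (∀ n ∈ N, ∃ k ∈ K, ∃ c ∈ Q, n = k * c) ∧ (Nat.card Q).Prime ∧
    (∀ a ∈ K, ∀ b ∈ K, a * b = b * a) ∧ (∀ a ∈ K, a ^ p = 1) ∧
    (∀ c ∈ Q, c ≠ 1 → ∀ k ∈ K, c * k = k * c → k = 1)

/-- the `r`-torsion of an abelian subgroup -/
def torsionOf (L : Subgroup G) (hab : ∀ a ∈ L, ∀ b ∈ L, a * b = b * a) (r : ℕ) : Subgroup G where
  carrier := {l | l ∈ L ∧ l ^ r = 1}
  one_mem' := ⟨one_mem _, one_pow _⟩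
  mul_mem' := by
    rintro a b ⟨ha, har⟩ ⟨hb, hbr⟩
    refine ⟨mul_mem ha hb, ?_⟩
    have hc : Commute a b := hab a ha b hb
    rw [hc.mul_pow, har, hbr, one_mul]
  inv_mem' := by
    rintro a ⟨ha, har⟩
    exact ⟨inv_mem ha, by rw [inv_pow, har, inv_one]⟩

theorem exists_prime_order_mem [Finite G] {L : Subgroup G} (hL1 : L ≠ ⊥) :
    ∃ (r : ℕ) (l : G), r.Prime ∧ l ∈ L ∧ orderOf l = r := by
  obtain ⟨l₀, hl₀1⟩ := (Subgroup.ne_bot_iff_exists_ne_one).mp hL1
  have hl₀' : (l₀ : G) ≠ 1 := fun h => hl₀1 (Subtype.ext h)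
  have ho1 : orderOf (l₀ : G) ≠ 1 := by
    rw [Ne, orderOf_eq_one_iff]
    exact hl₀'
  obtain ⟨r, hr, hro⟩ := Nat.exists_prime_and_dvd ho1
  refine ⟨r, (l₀ : G) ^ (orderOf (l₀ : G) / r), hr, pow_mem l₀.2 _, ?_⟩
  exact orderOf_pow_orderOf_div (orderOf_pos _).ne' hro

/-- A4: the case where `N'` is abelian. -/
theorem frobData_of_abelian {N : Subgroup G} [hN : N.Normal] [Finite G] (h : Hyp N)
    (hZ : ZN N = ⊥) (hN1 : N ≠ ⊥)
    (hab : ∀ a ∈ ⁅N, N⁆, ∀ b ∈ ⁅N, N⁆, a * b = b * a) : FrobData N := by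
  obtain ⟨L, hLdef⟩ : ∃ L : Subgroup G, L = ⁅N, N⁆ := ⟨_, rfl⟩
  haveI hLn : L.Normal := by rw [hLdef]; infer_instance
  have hLN : L ≤ N := by rw [hLdef]; exact Subgroup.commutator_le_left N N
  have hL1 : L ≠ ⊥ := by rw [hLdef]; exact commutator_ne_bot hZ hN1
  have hLab : ∀ a ∈ L, ∀ b ∈ L, a * b = b * a := by rw [hLdef]; exact hab
  have hmin : ∀ (M : Subgroup G) [M.Normal], M ≤ N → M ≠ ⊥ → L ≤ M := by
    intro M _ hMN hM1
    rw [hLdef]
    exact commutator_le_of_normal h hZ M hMN hM1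
  have hcomm : ∀ a ∈ N, ∀ b ∈ N, a * b * a⁻¹ * b⁻¹ ∈ L := by
    intro a ha b hb
    rw [hLdef, ← commutatorElement_def]
    exact Subgroup.commutator_mem_commutator ha hb
  -- (2)
  have hfpf0 : ∀ x ∈ N, ¬ L ≤ C x → L ⊓ C x = ⊥ := by
    intro x hx hxL
    have hx1 : x ≠ 1 := by
      rintro rfl
      apply hxL
      intro l _
      rw [mem_C]
      simp
    have hxNC := nc_of_ne_one hZ hx hx1
    have hsup : L ⊔ C x = ⊤ := by
      rcases sup_dich h hxNC L with h1 | h1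
      · exact absurd h1 hxL
      · exact h1
    have hnorm : normalizer ((L ⊓ C x : Subgroup G) : Set G) = ⊤ := by
      rw [eq_top_iff, ← hsup]
      apply sup_le
      · apply le_normalizer_of_conj
        intro l hl d hd
        have : l * d * l⁻¹ = d := by
          have := hLab l hl d (mem_inf.mp hd).1
          calc l * d * l⁻¹ = (d * l) * l⁻¹ := by rw [this]
            _ = d := by group
        rw [this]
        exact hd
      · apply le_normalizer_of_conj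
        intro m hm d hd
        exact mem_inf.mpr ⟨hLn.conj_mem d (mem_inf.mp hd).1 m,
          mul_mem (mul_mem hm (mem_inf.mp hd).2) (inv_mem hm)⟩
    haveI : (L ⊓ C x).Normal := normalizer_eq_top_iff.mp hnorm
    by_contra hne
    apply hxL
    exact (hmin (L ⊓ C x) (inf_le_left.trans hLN) hne).trans inf_le_right
  -- (3)
  have hDab : ∀ x ∈ N, ¬ L ≤ C x → ∀ a ∈ N ⊓ C x, ∀ b ∈ N ⊓ C x, a * b = b * a := by
    intro x hx hxL a ha b hb
    have h1 : a * b * a⁻¹ * b⁻¹ ∈ L ⊓ C x :=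
      mem_inf.mpr ⟨hcomm a (mem_inf.mp ha).1 b (mem_inf.mp hb).1,
        mul_mem (mul_mem (mul_mem (mem_inf.mp ha).2 (mem_inf.mp hb).2)
          (inv_mem (mem_inf.mp ha).2)) (inv_mem (mem_inf.mp hb).2)⟩
    rw [hfpf0 x hx hxL, mem_bot] at h1
    calc a * b = (a * b * a⁻¹ * b⁻¹) * (b * a) := by group
      _ = b * a := by rw [h1, one_mul]
  have hdecomp : ∀ x ∈ N, ¬ L ≤ C x → ∀ n ∈ N, ∃ l ∈ L, ∃ d ∈ N ⊓ C x, n = l * d := by
    intro x hx hxL n hn
    have hx1 : x ≠ 1 := by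
      rintro rfl
      apply hxL
      intro l _
      rw [mem_C]
      simp
    have hxNC := nc_of_ne_one hZ hx hx1
    have hsup : L ⊔ C x = ⊤ := by
      rcases sup_dich h hxNC L with h1 | h1
      · exact absurd h1 hxL
      · exact h1
    exact exists_mul_of_sup L hLN hsup hn
  -- (4)
  have hex2 : ∃ x₂ ∈ N, ¬ L ≤ C x₂ := by
    by_contra hcon
    push Not at hcon
    apply hL1
    rw [eq_bot_iff, ← hZ]
    intro l hl
    refine mem_inf.mpr ⟨hLN hl, ?_⟩
    rw [mem_centralizer_iff]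
    intro n hn
    exact (mem_C.mp (hcon n hn hl)).symm
  obtain ⟨x₂, hx₂, hx₂L⟩ := hex2
  have hCen : ∀ c ∈ N, (∀ l ∈ L, c * l = l * c) → c ∈ L := by
    intro c hc hcl
    obtain ⟨l, hl, d, hd, rfl⟩ := hdecomp x₂ hx₂ hx₂L c hc
    have hdl : ∀ l' ∈ L, d * l' = l' * d := by
      intro l' hl'
      have h1 := hcl l' hl'
      have h2 := hLab l hl l' hl'
      have : l * (d * l') = l * (l' * d) := by
        calc l * (d * l') = l * d * l' := by group
          _ = l' * (l * d) := h1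
          _ = (l' * l) * d := by group
          _ = (l * l') * d := by rw [h2]
          _ = l * (l' * d) := by group
      exact mul_left_cancel this
    have hd1 : d = 1 := by
      have : d ∈ ZN N := by
        refine mem_inf.mpr ⟨(mem_inf.mp hd).1, ?_⟩
        rw [mem_centralizer_iff]
        intro n hn
        obtain ⟨l', hl', d', hd', rfl⟩ := hdecomp x₂ hx₂ hx₂L n hn
        have h3 := hDab x₂ hx₂ hx₂L d hd d' hd'
        have h4 := hdl l' hl'
        calc l' * d' * d = l' * (d' * d) := by group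
          _ = l' * (d * d') := by rw [h3]
          _ = (l' * d) * d' := by group
          _ = (d * l') * d' := by rw [h4]
          _ = d * (l' * d') := by group
      rw [hZ] at this
      exact mem_bot.mp this
    rw [hd1, mul_one]
    exact hl
  -- (5)
  have hfpf : ∀ x ∈ N, x ∉ L → L ⊓ C x = ⊥ := by
    intro x hx hxL
    apply hfpf0 x hx
    intro hle
    apply hxL
    apply hCen x hx
    intro l hl
    exact (mem_C.mp (hle hl)).symm
  -- existence of x₁ ∈ N \ L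
  have hex1 : ∃ x₁ ∈ N, x₁ ∉ L := by
    by_contra hcon
    push Not at hcon
    apply hN1
    rw [eq_bot_iff, ← hZ]
    intro n hn
    refine mem_inf.mpr ⟨hn, ?_⟩
    rw [mem_centralizer_iff]
    intro m hm
    exact hLab m (hcon m hm) n (hcon n hn)
  obtain ⟨x₁, hx₁, hx₁L⟩ := hex1
  have hQL : ∀ x, x ∈ L → x ∈ N ⊓ C x₁ → x = 1 := by
    intro x hxL hxQ
    have : x ∈ L ⊓ C x₁ := mem_inf.mpr ⟨hxL, (mem_inf.mp hxQ).2⟩
    rw [hfpf x₁ hx₁ hx₁L] at this
    exact mem_bot.mp this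
  -- (6)
  have hDl : ∀ l₀ ∈ L, l₀ ≠ 1 → N ⊓ C l₀ ≤ L := by
    intro l₀ hl₀ hl₀1 n hn
    by_contra hnL
    apply hl₀1
    have : l₀ ∈ L ⊓ C n := by
      refine mem_inf.mpr ⟨hl₀, ?_⟩
      rw [mem_C]
      exact (mem_C.mp (mem_inf.mp hn).2).symm
    rw [hfpf n (mem_inf.mp hn).1 hnL] at this
    exact mem_bot.mp this
  -- (7)
  have hx₁1 : x₁ ≠ 1 := fun h1 => hx₁L (h1 ▸ one_mem L)
  have ho1 : orderOf x₁ ≠ 1 := by
    rw [Ne, orderOf_eq_one_iff]
    exact hx₁1
  obtain ⟨q, hq, hqo⟩ := Nat.exists_prime_and_dvd ho1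
  obtain ⟨y, hydef⟩ : ∃ y, y = x₁ ^ (orderOf x₁ / q) := ⟨_, rfl⟩
  have hyo : orderOf y = q := by
    rw [hydef]
    exact orderOf_pow_orderOf_div (orderOf_pos _).ne' hqo
  have hyQ : y ∈ N ⊓ C x₁ := by
    rw [hydef]
    exact pow_mem (mem_inf.mpr ⟨hx₁, self_mem_C x₁⟩) _
  have hy1 : y ≠ 1 := by
    intro h1
    rw [h1, orderOf_one] at hyo
    exact hq.one_lt.ne hyo
  obtain ⟨l₀', hl₀1'⟩ := (Subgroup.ne_bot_iff_exists_ne_one).mp hL1
  obtain ⟨l₀, hl₀def⟩ : ∃ l₀ : G, l₀ = (l₀' : G) := ⟨_, rfl⟩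
  have hl₀ : l₀ ∈ L := hl₀def ▸ l₀'.2
  have hl₀1 : l₀ ≠ 1 := by
    rw [hl₀def]
    exact fun h => hl₀1' (Subtype.ext h)
  have hQeq : N ⊓ C x₁ ≤ zpowers y := by
    obtain ⟨T, hTdef⟩ : ∃ T : Subgroup G, T = L ⊔ zpowers y := ⟨_, rfl⟩
    have hTN : T ≤ N := by
      rw [hTdef]
      exact sup_le hLN (zpowers_le.mpr (mem_inf.mp hyQ).1)
    haveI hTn : T.Normal := by
      constructor
      intro t ht g
      by_cases ht1 : t = 1
      · rw [ht1]
        simp
      obtain ⟨n, hn, hgt⟩ := conj_eq h (nc_of_ne_one hZ (hTN ht) ht1) g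
      rw [hgt]
      have h1 : n * t * n⁻¹ * t⁻¹ ∈ L := hcomm n hn t (hTN ht)
      have : n * t * n⁻¹ = (n * t * n⁻¹ * t⁻¹) * t := by group
      rw [this]
      refine mul_mem ?_ ht
      rw [hTdef]
      exact (le_sup_left : L ≤ L ⊔ zpowers y) h1
    have hl₀NC := nc_of_ne_one hZ (hLN hl₀) hl₀1
    have hNT : N ≤ T := by
      rcases sup_dich h hl₀NC T with h1 | h1
      · exfalso
        apply hy1
        have hyT : y ∈ T := by
          rw [hTdef]
          exact (le_sup_right : zpowers y ≤ L ⊔ zpowers y) (mem_zpowers y)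
        have : y ∈ N ⊓ C l₀ := mem_inf.mpr ⟨(mem_inf.mp hyQ).1, h1 hyT⟩
        exact hQL y (hDl l₀ hl₀ hl₀1 this) hyQ
      · intro n hn
        obtain ⟨t, ht, d, hd, rfl⟩ := exists_mul_of_sup T hTN h1 hn
        refine mul_mem ht ?_
        rw [hTdef]
        exact (le_sup_left : L ≤ L ⊔ zpowers y) (hDl l₀ hl₀ hl₀1 hd)
    intro c hc
    have hcT : c ∈ ((L ⊔ zpowers y : Subgroup G) : Set G) := by
      rw [← hTdef]
      exact hNT (mem_inf.mp hc).1
    rw [Subgroup.normal_mul] at hcT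
    obtain ⟨l, hl, z, hz, rfl⟩ := Set.mem_mul.mp hcT
    have hzQ : z ∈ N ⊓ C x₁ := (zpowers_le.mpr hyQ) hz
    have hlQ : l ∈ N ⊓ C x₁ := by
      have : l = (l * z) * z⁻¹ := by group
      rw [this]
      exact mul_mem hc (inv_mem hzQ)
    rw [hQL l hl hlQ, one_mul]
    exact hz
  have hQeq' : N ⊓ C x₁ = zpowers y := le_antisymm hQeq (zpowers_le.mpr hyQ)
  have hQcard : (Nat.card ↥(N ⊓ C x₁)).Prime := by
    rw [hQeq', Nat.card_zpowers, hyo]
    exact hq
  -- (8)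
  obtain ⟨r, l₁, hr, hl₁, hl₁o⟩ := exists_prime_order_mem (G := G) hL1
  have hexp : ∀ a ∈ L, a ^ r = 1 := by
    obtain ⟨M, hMdef⟩ : ∃ M : Subgroup G, M = torsionOf L hLab r := ⟨_, rfl⟩
    haveI hMn : M.Normal := by
      constructor
      rw [hMdef]
      rintro a ⟨ha, har⟩ g
      refine ⟨hLn.conj_mem a ha g, ?_⟩
      rw [conj_pow, har]
      group
    have hML : M ≤ L := by
      rw [hMdef]
      rintro a ⟨ha, _⟩
      exact ha
    have hM1 : M ≠ ⊥ := by
      intro hb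
      have : l₁ ∈ M := by
        rw [hMdef]
        exact ⟨hl₁, by rw [← hl₁o]; exact pow_orderOf_eq_one l₁⟩
      rw [hb, mem_bot] at this
      rw [this, orderOf_one] at hl₁o
      exact hr.one_lt.ne hl₁o
    have hLM := hmin M (hML.trans hLN) hM1
    intro a ha
    have := hLM ha
    rw [hMdef] at this
    exact this.2
  -- (9)
  refine ⟨L, N ⊓ C x₁, r, hr, hLN, inf_le_left, hL1, ?_, hQL, ?_, hQcard, hLab, hexp, ?_⟩
  · intro n _ k hk
    exact hLn.conj_mem k hk n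
  · intro n hn
    have hx₁L' : ¬ L ≤ C x₁ := by
      intro hle
      apply hx₁L
      apply hCen x₁ hx₁
      intro l hl
      exact (mem_C.mp (hle hl)).symm
    exact hdecomp x₁ hx₁ hx₁L' n hn
  · intro c hc hc1 k hk hck
    have hcL : c ∉ L := fun hcL => hc1 (hQL c hcL hc)
    have : k ∈ L ⊓ C c := by
      refine mem_inf.mpr ⟨hk, ?_⟩
      rw [mem_C]
      exact hck.symm
    rw [hfpf c (mem_inf.mp hc).1 hcL] at this
    exact mem_bot.mp this

end Cfsg.Agent.Helper29.RCM
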