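import Mathlib
import Cfsg.Agent.Lib.Helper29.RelCM4

set_option autoImplicit false

/-!
# Relative CM with trivial centre: pair lemma, exponent, self-normalising centralizers
-/

namespace Cfsg.Agent.Helper29.RCM

open Subgroup
open Cfsg.Agent.Helper29.CM
open scoped Pointwise
open scoped commutatorElement

variable {G : Type*} [Group G]

/-- pair lemma, power form (trivial centre) -/
theorem pair_pow' {N : Subgroup G} (h : Hyp N) (hZ : ZN N = ⊥) {x y : G}
    (hx : x ∈ N) (hx1 : x ≠ 1) (hy : y ∈ N) (hy1 : y ≠ 1)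
    (hxy : x * y = y * x) (hne : C x ≠ C y) (n : ℕ) (hn : x ^ n = 1) : y ^ n = 1 := by
  by_contra hyn
  have hxNC := nc_of_ne_one hZ hx hx1
  have hyNC := nc_of_ne_one hZ hy hy1
  have hynNC := nc_of_ne_one hZ (pow_mem hy n) hyn
  have h1 : C y = C (y ^ n) := C_eq_of_le h hyNC hynNC (pow_C_le y n)
  have hpow : (x * y) ^ n = y ^ n := by
    rw [(show Commute x y from hxy).mul_pow n, hn, one_mul]
  have hxy1 : x * y ≠ 1 := by
    intro hz
    apply hne
    apply C_eq_of_le h hxNC hyNC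
    intro g hg
    rw [mem_C] at hg ⊢
    have hy' : y = x⁻¹ := eq_inv_of_mul_eq_one_right hz
    rw [hy']
    have : Commute g x := hg
    exact this.inv_right.eq
  have hxyNC := nc_of_ne_one hZ (mul_mem hx hy) hxy1
  have hxyn1 : (x * y) ^ n ≠ 1 := by rw [hpow]; exact hyn
  have hxynNC := nc_of_ne_one hZ (pow_mem (mul_mem hx hy) n) hxyn1
  have h2 : C (x * y) = C ((x * y) ^ n) := C_eq_of_le h hxyNC hxynNC (pow_C_le _ n)
  have h4 : C (x * y) = C y := by rw [h2, hpow, ← h1]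
  apply hne
  symm
  apply C_eq_of_le h hyNC hxNC
  intro g hg
  have hg2 : g ∈ C (x * y) := by rw [h4]; exact hg
  rw [mem_C] at hg hg2 ⊢
  have : (g * x) * y = (x * g) * y := by
    calc (g * x) * y = g * (x * y) := by group
      _ = x * y * g := hg2
      _ = x * (y * g) := by group
      _ = x * (g * y) := by rw [hg]
      _ = (x * g) * y := by group
  exact mul_right_cancel this

/-- pair lemma: commuting non-trivial elements of `N` with different centralizers have the same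
prime order. -/
theorem pair_prime' [Finite G] {N : Subgroup G} (h : Hyp N) (hZ : ZN N = ⊥) {x y : G}
    (hx : x ∈ N) (hx1 : x ≠ 1) (hy : y ∈ N) (hy1 : y ≠ 1)
    (hxy : x * y = y * x) (hne : C x ≠ C y) :
    ∃ p : ℕ, p.Prime ∧ x ^ p = 1 ∧ y ^ p = 1 := by
  have ho1 : orderOf x ≠ 1 := by
    rw [Ne, orderOf_eq_one_iff]
    exact hx1
  obtain ⟨p, hp, hpo⟩ := Nat.exists_prime_and_dvd ho1
  obtain ⟨m, hm⟩ := hpo
  have hopos : 0 < orderOf x := orderOf_pos x
  have hmpos : 0 < m := by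
    rcases Nat.eq_zero_or_pos m with h0 | h0
    · rw [h0, mul_zero] at hm
      omega
    · exact h0
  have hmlt : m < orderOf x := by
    rw [hm]
    have := hp.two_le
    nlinarith
  have hxm1 : x ^ m ≠ 1 := pow_ne_one_of_lt_orderOf hmpos.ne' hmlt
  have hxmp : (x ^ m) ^ p = 1 := by
    rw [← pow_mul, mul_comm, ← hm]
    exact pow_orderOf_eq_one x
  have hxNC := nc_of_ne_one hZ hx hx1
  have hxmNC := nc_of_ne_one hZ (pow_mem hx m) hxm1
  have hC1 : C x = C (x ^ m) := C_eq_of_le h hxNC hxmNC (pow_C_le x m)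
  have hne1 : C (x ^ m) ≠ C y := by rw [← hC1]; exact hne
  have hcomm1 : x ^ m * y = y * x ^ m := ((show Commute x y from hxy).pow_left m).eq
  have hyp : y ^ p = 1 := pair_pow' h hZ (pow_mem hx m) hxm1 hy hy1 hcomm1 hne1 p hxmp
  have hxp : x ^ p = 1 := pair_pow' h hZ hy hy1 hx hx1 hxy.symm hne.symm p hyp
  exact ⟨p, hp, hxp, hyp⟩

theorem prime_unique' {x : G} (hx1 : x ≠ 1) {p q : ℕ} (hp : p.Prime) (hq : q.Prime)
    (hxp : x ^ p = 1) (hxq : x ^ q = 1) : p = q := by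
  haveI := Fact.mk hp
  haveI := Fact.mk hq
  rw [← orderOf_eq_prime hxp hx1, ← orderOf_eq_prime hxq hx1]

/-- a non-abelian `N ⊓ C x` has prime exponent. -/
theorem exp' [Finite G] {N : Subgroup G} (h : Hyp N) (hZ : ZN N = ⊥) {x : G}
    (hx : x ∈ N) (hx1 : x ≠ 1)
    (hna : ∃ a ∈ N ⊓ C x, ∃ b ∈ N ⊓ C x, a * b ≠ b * a) :
    ∃ p : ℕ, p.Prime ∧ ∀ m ∈ N ⊓ C x, m ^ p = 1 := by
  obtain ⟨a, ha, b, hb, hab⟩ := hna
  have ha1 : a ≠ 1 := by
    rintro rfl
    apply hab
    simp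
  have haN := (mem_inf.mp ha).1
  have hCa : C x ≠ C a := by
    intro hC
    have : b ∈ C a := by rw [← hC]; exact (mem_inf.mp hb).2
    rw [mem_C] at this
    exact hab this.symm
  have hxa : x * a = a * x := (mem_C.mp (mem_inf.mp ha).2).symm
  obtain ⟨p, hp, hxp, hap⟩ := pair_prime' h hZ hx hx1 haN ha1 hxa hCa
  refine ⟨p, hp, ?_⟩
  intro m hm
  by_cases hm1 : m = 1
  · rw [hm1, one_pow]
  have hmN := (mem_inf.mp hm).1
  by_cases hC : C m = C x
  · have hCma : C m ≠ C a := by rw [hC]; exact hCa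
    have hma : m * a = a * m := by
      have : a ∈ C m := by rw [hC]; exact (mem_inf.mp ha).2
      exact (mem_C.mp this).symm
    obtain ⟨q, hq, hmq, haq⟩ := pair_prime' h hZ hmN hm1 haN ha1 hma hCma
    have := prime_unique' ha1 hp hq hap haq
    rw [this]
    exact hmq
  · have hxm : x * m = m * x := (mem_C.mp (mem_inf.mp hm).2).symm
    obtain ⟨q, hq, hxq, hmq⟩ := pair_prime' h hZ hx hx1 hmN hm1 hxm (Ne.symm hC)
    have := prime_unique' hx1 hp hq hxp hxq
    rw [this]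
    exact hmq

/-- (a): if `N'` is non-abelian then no non-trivial element of `N` centralises `N'`. -/
theorem inf_centralizer_commutator {N : Subgroup G} [hN : N.Normal] (h : Hyp N) (hZ : ZN N = ⊥)
    (hna : ¬ ∀ a ∈ ⁅N, N⁆, ∀ b ∈ ⁅N, N⁆, a * b = b * a) :
    N ⊓ centralizer ((⁅N, N⁆ : Subgroup G) : Set G) = ⊥ := by
  by_contra hne
  apply hna
  obtain ⟨M, hMdef⟩ : ∃ M : Subgroup G, M = N ⊓ centralizer ((⁅N, N⁆ : Subgroup G) : Set G) :=
    ⟨_, rfl⟩
  haveI hMn : M.Normal := by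
    constructor
    intro z hz g
    rw [hMdef] at hz ⊢
    exact mem_inf.mpr ⟨hN.conj_mem z (mem_inf.mp hz).1 g,
      conj_mem_centralizer (N := ⁅N, N⁆) (mem_inf.mp hz).2 g⟩
  have hle : ⁅N, N⁆ ≤ M := commutator_le_of_normal h hZ M (by rw [hMdef]; exact inf_le_left)
    (by rw [hMdef]; exact hne)
  intro a ha b hb
  have h1 : a ∈ centralizer ((⁅N, N⁆ : Subgroup G) : Set G) := by
    have := hle ha
    rw [hMdef] at this
    exact (mem_inf.mp this).2
  exact (mem_centralizer_iff.mp h1 b hb).symm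

/-- (b): if `N'` is non-abelian then every `N ⊓ C y` has normaliser `C y`. -/
theorem normalizer_eq_C {N : Subgroup G} [hN : N.Normal] (h : Hyp N) (hZ : ZN N = ⊥)
    (hna : ¬ ∀ a ∈ ⁅N, N⁆, ∀ b ∈ ⁅N, N⁆, a * b = b * a) {y : G} (hy : y ∈ N) (hy1 : y ≠ 1) :
    normalizer ((N ⊓ C y : Subgroup G) : Set G) = C y := by
  have hyNC := nc_of_ne_one hZ hy hy1
  rcases normalizer_dich h hyNC with h1 | h1
  · exact h1
  exfalso
  haveI : (N ⊓ C y).Normal := normalizer_eq_top_iff.mp h1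
  have hD1 : N ⊓ C y ≠ ⊥ := by
    intro hb
    apply hy1
    have : y ∈ N ⊓ C y := mem_inf.mpr ⟨hy, self_mem_C y⟩
    rw [hb] at this
    exact mem_bot.mp this
  have hle : ⁅N, N⁆ ≤ N ⊓ C y := commutator_le_of_normal h hZ (N ⊓ C y) inf_le_left hD1
  apply hy1
  have : y ∈ N ⊓ centralizer ((⁅N, N⁆ : Subgroup G) : Set G) := by
    refine mem_inf.mpr ⟨hy, ?_⟩
    rw [mem_centralizer_iff]
    intro l hl
    exact mem_C.mp (mem_inf.mp (hle hl)).2
  rw [inf_centralizer_commutator h hZ hna] at this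
  exact mem_bot.mp this

end Cfsg.Agent.Helper29.RCM
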