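import Mathlib
import Cfsg.Agent.Lib.Helper29.RelCM5
import Cfsg.Agent.Lib.Helper29.PGroupNorm
import Cfsg.Agent.S0035
import Cfsg.Agent.S0042

set_option autoImplicit false

/-!
# Relative CM with trivial centre and non-abelian `N'`: no `N ⊓ C a` is abelian
-/

namespace Cfsg.Agent.Helper29.RCM

open Subgroup
open Cfsg.Agent.Helper29.CM
open scoped Pointwise
open scoped commutatorElement

variable {G : Type*} [Group G]

/-- `N ⊓ C a` is abelian -/
def AbD (N : Subgroup G) (a : G) : Prop := ∀ u ∈ N ⊓ C a, ∀ v ∈ N ⊓ C a, u * v = v * u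

theorem isNilpotent_of_le' {A : Type*} [Group A] {K L : Subgroup A} (hL : Group.IsNilpotent L)
    (hle : K ≤ L) : Group.IsNilpotent K := by
  haveI := hL
  exact Group.nilpotent_of_mulEquiv
    (MonoidHom.ofInjective (Subgroup.inclusion_injective hle)).symm

theorem D_eq_of_mem [Finite G] {N : Subgroup G} [hN : N.Normal] (h : Hyp N) (hZ : ZN N = ⊥)
    (hna : ¬ ∀ a ∈ ⁅N, N⁆, ∀ b ∈ ⁅N, N⁆, a * b = b * a) {a : G} (ha : a ∈ N) (ha1 : a ≠ 1)
    (hab : AbD N a)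
    (hmax : ∀ b ∈ N, b ≠ 1 → AbD N b → Nat.card ↥(N ⊓ C b) ≤ Nat.card ↥(N ⊓ C a))
    {t : G} (ht : t ∈ N ⊓ C a) (ht1 : t ≠ 1) : N ⊓ C t = N ⊓ C a := by
  have htN := (mem_inf.mp ht).1
  have hle : N ⊓ C a ≤ N ⊓ C t := by
    intro d hd
    refine mem_inf.mpr ⟨(mem_inf.mp hd).1, ?_⟩
    rw [mem_C]
    exact hab d hd t ht
  by_cases habt : AbD N t
  · exact (Subgroup.eq_of_le_of_card_ge hle (hmax t htN ht1 habt)).symm
  · exfalso
    have hna' : ∃ u ∈ N ⊓ C t, ∃ v ∈ N ⊓ C t, u * v ≠ v * u := by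
      unfold AbD at habt
      push Not at habt
      exact habt
    obtain ⟨p, hp, hexp⟩ := exp' h hZ htN ht1 hna'
    haveI := Fact.mk hp
    have hPG : IsPGroup p ↥(N ⊓ C t) := by
      intro g
      refine ⟨1, ?_⟩
      rw [pow_one]
      apply Subtype.ext
      rw [Subgroup.coe_pow]
      exact hexp g.1 g.2
    have hlt : N ⊓ C a < N ⊓ C t := by
      refine lt_of_le_of_ne hle ?_
      intro heq
      apply habt
      unfold AbD
      rw [← heq]
      exact hab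
    obtain ⟨g, hg, hgn, hgnorm⟩ :=
      Cfsg.Agent.Helper29.exists_mem_normalizer_not_mem_of_lt hPG hlt
    rw [normalizer_eq_C h hZ hna ha ha1] at hgnorm
    exact hgn (mem_inf.mpr ⟨(mem_inf.mp hg).1, hgnorm⟩)

theorem frob_of_abD [Finite G] {N : Subgroup G} [hN : N.Normal] (h : Hyp N) (hZ : ZN N = ⊥)
    (hna : ¬ ∀ a ∈ ⁅N, N⁆, ∀ b ∈ ⁅N, N⁆, a * b = b * a) {a : G} (ha : a ∈ N) (ha1 : a ≠ 1)
    (hab : AbD N a)
    (hmax : ∀ b ∈ N, b ≠ 1 → AbD N b → Nat.card ↥(N ⊓ C b) ≤ Nat.card ↥(N ⊓ C a)) :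
    Cfsg.IsFrobeniusComplement ((N ⊓ C a).subgroupOf N) := by
  refine ⟨?_, ?_, ?_⟩
  · intro hb
    apply ha1
    have : (⟨a, ha⟩ : ↥N) ∈ (N ⊓ C a).subgroupOf N :=
      mem_subgroupOf.mpr (mem_inf.mpr ⟨ha, self_mem_C a⟩)
    rw [hb, mem_bot] at this
    exact congrArg Subtype.val this
  · intro ht
    rw [subgroupOf_eq_top] at ht
    exact not_le_C (nc_of_ne_one hZ ha ha1) (ht.trans inf_le_right)
  · intro g hg
    rw [eq_bot_iff]
    intro u hu
    rw [mem_bot]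
    by_contra hu1
    obtain ⟨hu1', hu2⟩ := mem_inf.mp hu
    rw [mem_conj_smul'] at hu2
    have huD : (u : G) ∈ N ⊓ C a := mem_subgroupOf.mp hu1'
    have hvD : (g : G)⁻¹ * (u : G) * (g : G) ∈ N ⊓ C a := mem_subgroupOf.mp hu2
    have huG1 : (u : G) ≠ 1 := fun e => hu1 (Subtype.ext e)
    have hvG1 : (g : G)⁻¹ * (u : G) * (g : G) ≠ 1 := by
      intro e
      apply huG1
      calc (u : G) = (g : G) * ((g : G)⁻¹ * (u : G) * (g : G)) * (g : G)⁻¹ := by group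
        _ = 1 := by rw [e]; group
    have hDu := D_eq_of_mem h hZ hna ha ha1 hab hmax huD huG1
    have hDv := D_eq_of_mem h hZ hna ha ha1 hab hmax hvD hvG1
    apply hg
    rw [mem_subgroupOf]
    refine mem_inf.mpr ⟨g.2, ?_⟩
    rw [← normalizer_eq_C h hZ hna ha ha1, mem_normalizer_iff]
    intro d
    constructor
    · intro hd
      rw [← hDv] at hd
      rw [← hDu]
      refine mem_inf.mpr ⟨hN.conj_mem d (mem_inf.mp hd).1 g, ?_⟩
      have h1 : d * ((g : G)⁻¹ * (u : G) * (g : G)) = ((g : G)⁻¹ * (u : G) * (g : G)) * d :=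
        mem_C.mp (mem_inf.mp hd).2
      rw [mem_C]
      calc (g : G) * d * (g : G)⁻¹ * (u : G)
          = (g : G) * (d * ((g : G)⁻¹ * (u : G) * (g : G))) * (g : G)⁻¹ := by group
        _ = (g : G) * (((g : G)⁻¹ * (u : G) * (g : G)) * d) * (g : G)⁻¹ := by rw [h1]
        _ = (u : G) * ((g : G) * d * (g : G)⁻¹) := by group
    · intro hd
      rw [← hDu] at hd
      rw [← hDv]
      have hdN : d ∈ N := by
        have : d = (g : G)⁻¹ * ((g : G) * d * (g : G)⁻¹) * (g : G) := by group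
        rw [this]
        exact mul_mem (mul_mem (inv_mem g.2) (mem_inf.mp hd).1) g.2
      refine mem_inf.mpr ⟨hdN, ?_⟩
      have h1 : ((g : G) * d * (g : G)⁻¹) * (u : G) = (u : G) * ((g : G) * d * (g : G)⁻¹) :=
        mem_C.mp (mem_inf.mp hd).2
      rw [mem_C]
      calc d * ((g : G)⁻¹ * (u : G) * (g : G))
          = (g : G)⁻¹ * (((g : G) * d * (g : G)⁻¹) * (u : G)) * (g : G) := by group
        _ = (g : G)⁻¹ * ((u : G) * ((g : G) * d * (g : G)⁻¹)) * (g : G) := by rw [h1]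
        _ = ((g : G)⁻¹ * (u : G) * (g : G)) * d := by group

theorem abD_false [Finite G] {N : Subgroup G} [hN : N.Normal] (h : Hyp N) (hZ : ZN N = ⊥)
    (hna : ¬ ∀ a ∈ ⁅N, N⁆, ∀ b ∈ ⁅N, N⁆, a * b = b * a) {a : G} (ha : a ∈ N) (ha1 : a ≠ 1)
    (hab : AbD N a)
    (hmax : ∀ b ∈ N, b ≠ 1 → AbD N b → Nat.card ↥(N ⊓ C b) ≤ Nat.card ↥(N ⊓ C a)) : False := by
  have hFrob := frob_of_abD h hZ hna ha ha1 hab hmax
  obtain ⟨K, hKset, hKn, hKc⟩ := Cfsg.Agent.S0035.result _ hFrob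
  obtain ⟨K', hK'set, hK'n, hK'nil⟩ := Cfsg.Agent.S0042.result _ hFrob
  have hKK' : K = K' := SetLike.coe_injective (hKset.trans hK'set.symm)
  rw [← hKK'] at hK'nil
  haveI := hKn
  have hsup : K ⊔ (N ⊓ C a).subgroupOf N = ⊤ := hKc.sup_eq_top
  have hHc : IsMulCommutative ↥((N ⊓ C a).subgroupOf N) := by
    refine ⟨⟨fun x y => ?_⟩⟩
    apply Subtype.ext
    apply Subtype.ext
    exact hab _ (mem_subgroupOf.mp x.2) _ (mem_subgroupOf.mp y.2)
  have hcomm : commutator ↥N ≤ K := hKn.commutator_le_of_self_sup_commutative_eq_top hsup hHc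
  have hnil : Group.IsNilpotent ↥(commutator ↥N) := isNilpotent_of_le' hK'nil hcomm
  have hmap : (commutator ↥N).map N.subtype = ⁅N, N⁆ := Subgroup.map_subtype_commutator N
  have hN1 : N ≠ ⊥ := by
    intro hb
    apply ha1
    rw [hb] at ha
    exact mem_bot.mp ha
  have hne : commutator ↥N ≠ ⊥ := by
    intro hb
    rw [hb, Subgroup.map_bot] at hmap
    exact commutator_ne_bot hZ hN1 hmap.symm
  haveI : Nontrivial ↥(commutator ↥N) := (Subgroup.nontrivial_iff_ne_bot _).mpr hne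
  haveI := hnil
  have hcen := Group.IsNilpotent.center_ne_bot (G := ↥(commutator ↥N))
  obtain ⟨z, hz1⟩ := (Subgroup.ne_bot_iff_exists_ne_one).mp hcen
  have hmem : (((z : ↥(commutator ↥N)) : ↥N) : G) ∈
      N ⊓ centralizer ((⁅N, N⁆ : Subgroup G) : Set G) := by
    refine mem_inf.mpr ⟨(z : ↥(commutator ↥N)).1.2, ?_⟩
    rw [mem_centralizer_iff]
    intro l hl
    rw [← hmap] at hl
    obtain ⟨l', hl', rfl⟩ := hl
    have := mem_center_iff.mp z.2 ⟨l', hl'⟩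
    exact congrArg (fun w : ↥(commutator ↥N) => ((w : ↥N) : G)) this
  rw [inf_centralizer_commutator h hZ hna, mem_bot] at hmem
  apply hz1
  exact Subtype.ext (Subtype.ext (Subtype.ext hmem))

/-- (e): if `N'` is non-abelian then every `N ⊓ C a` is non-abelian. -/
theorem not_abD [Finite G] {N : Subgroup G} [hN : N.Normal] (h : Hyp N) (hZ : ZN N = ⊥)
    (hna : ¬ ∀ a ∈ ⁅N, N⁆, ∀ b ∈ ⁅N, N⁆, a * b = b * a) {a : G} (ha : a ∈ N) (ha1 : a ≠ 1) :
    ¬ AbD N a := by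
  intro hab
  obtain ⟨a₀, ha₀, hmax⟩ := Set.exists_max_image {b : G | b ∈ N ∧ b ≠ 1 ∧ AbD N b}
    (fun b => Nat.card ↥(N ⊓ C b)) (Set.toFinite _) ⟨a, ha, ha1, hab⟩
  exact abD_false h hZ hna ha₀.1 ha₀.2.1 ha₀.2.2 (fun b hb hb1 habb => hmax b ⟨hb, hb1, habb⟩)

end Cfsg.Agent.Helper29.RCM
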