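import Mathlib
import Cfsg.Agent.Lib.Helper29.PGroupNorm

set_option autoImplicit false

/-!
# A counting lemma: a finite group in which every non-trivial element has odd prime order and is
central in a self-normalising non-abelian Sylow subgroup is trivial.
-/

namespace Cfsg.Agent.Helper29.RCM

open Subgroup

theorem sum_inv_sq_le (m : ℕ) :
    ∑ k ∈ Finset.range m, (1 : ℚ) / ((k : ℚ) + 3) ^ 2 ≤ 1 / 2 - 1 / ((m : ℚ) + 2) := by
  induction m with
  | zero => simp
  | succ m ih =>
    rw [Finset.sum_range_succ]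
    have h2 : (0 : ℚ) < (m : ℚ) + 2 := by positivity
    have h3 : (0 : ℚ) < (m : ℚ) + 3 := by positivity
    have key : (1 : ℚ) / ((m : ℚ) + 3) ^ 2 ≤ 1 / ((m : ℚ) + 2) - 1 / ((m : ℚ) + 3) := by
      rw [div_sub_div _ _ h2.ne' h3.ne', div_le_div_iff₀ (by positivity) (by positivity)]
      nlinarith
    have e : (((m + 1 : ℕ) : ℚ) + 2) = (m : ℚ) + 3 := by push_cast; ring
    rw [e]
    linarith

theorem sq_dvd_index_center {P : Type*} [Group P] [Finite P] {p : ℕ} [Fact p.Prime]
    (hP : IsPGroup p P) (hna : ¬ ∀ a b : P, a * b = b * a) : p ^ 2 ∣ (center P).index := by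
  obtain ⟨k, hk⟩ := hP.index (center P)
  rw [hk]
  rcases k with _ | _ | k
  · exfalso
    apply hna
    rw [pow_zero, index_eq_one] at hk
    intro a b
    have : a ∈ center P := by rw [hk]; trivial
    exact (mem_center_iff.mp this b).symm
  · exfalso
    apply hna
    rw [zero_add, pow_one] at hk
    have hcard : Nat.card (P ⧸ center P) = p := hk
    haveI : IsCyclic (P ⧸ center P) := isCyclic_of_prime_card hcard
    have hc : IsMulCommutative P :=
      (QuotientGroup.mk' (center P)).isMulCommutative_of_isCyclic_of_ker_le_center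
        (by rw [QuotientGroup.ker_mk'])
    intro a b
    exact hc.is_comm.comm a b
  · exact pow_dvd_pow p (by omega)

theorem exists_sylow_eq {T : Type*} [Group T] [Finite T] {p : ℕ} [Fact p.Prime] {P : Subgroup T}
    (hP : IsPGroup p P) (hn : normalizer (P : Set T) = P) :
    ∃ Q : Sylow p T, (Q : Subgroup T) = P := by
  obtain ⟨Q, hQ⟩ := hP.exists_le_sylow
  refine ⟨Q, ?_⟩
  by_contra hne
  have hlt : P < (Q : Subgroup T) := lt_of_le_of_ne hQ (Ne.symm hne)
  obtain ⟨g, hg, hgP, hgn⟩ :=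
    Cfsg.Agent.Helper29.exists_mem_normalizer_not_mem_of_lt Q.isPGroup' hlt
  rw [hn] at hgn
  exact hgP hgn

/-- the local hypothesis on an element -/
def LocalHyp {T : Type*} [Group T] (t : T) : Prop :=
  ∃ p : ℕ, p.Prime ∧ 3 ≤ p ∧ orderOf t = p ∧ ∃ P : Subgroup T, IsPGroup p P ∧ t ∈ P ∧
    (∀ u ∈ P, u * t = t * u) ∧ normalizer (P : Set T) = P ∧
    ¬ (∀ a ∈ P, ∀ b ∈ P, a * b = b * a)

theorem card_order_le {T : Type*} [Group T] [Fintype T] [DecidableEq T]
    (hT : ∀ t : T, t ≠ 1 → LocalHyp t) (n : ℕ) (hn : 3 ≤ n) :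
    (Finset.univ.filter (fun t : T => orderOf t = n)).card * n ^ 2 ≤ Nat.card T := by
  classical
  by_cases hE : (Finset.univ.filter (fun t : T => orderOf t = n)).Nonempty
  swap
  · rw [Finset.not_nonempty_iff_eq_empty] at hE
    rw [hE]
    simp
  obtain ⟨t₀, ht₀⟩ := hE
  have hot₀ : orderOf t₀ = n := (Finset.mem_filter.mp ht₀).2
  have ht₀1 : t₀ ≠ 1 := by
    rintro rfl
    rw [orderOf_one] at hot₀
    omega
  obtain ⟨p, hp, hp3, hop, P₀, hP₀, ht₀P, hcen₀, hnorm₀, hnab₀⟩ := hT t₀ ht₀1
  have hpn : p = n := hop.symm.trans hot₀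
  subst hpn
  haveI := Fact.mk hp
  obtain ⟨Q₀, hQ₀⟩ := exists_sylow_eq hP₀ hnorm₀
  haveI : Fintype (Sylow p T) := Fintype.ofFinite _
  obtain ⟨F, hF⟩ : ∃ F : Sylow p T → Finset T, F = fun Q : Sylow p T =>
      Finset.univ.filter (fun t : T => t ∈ (Q : Subgroup T) ∧
        (∀ u ∈ (Q : Subgroup T), u * t = t * u) ∧
        ¬ (∀ a ∈ (Q : Subgroup T), ∀ b ∈ (Q : Subgroup T), a * b = b * a)) := ⟨_, rfl⟩
  -- covering
  have hcover : Finset.univ.filter (fun t : T => orderOf t = p) ⊆ Finset.univ.biUnion F := by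
    intro t ht
    have hot : orderOf t = p := (Finset.mem_filter.mp ht).2
    have ht1 : t ≠ 1 := by
      rintro rfl
      rw [orderOf_one] at hot
      omega
    obtain ⟨p', hp', _, hop', P, hP, htP, hcen, hnorm, hnab⟩ := hT t ht1
    have hpp : p' = p := hop'.symm.trans hot
    subst hpp
    obtain ⟨Q, hQ⟩ := exists_sylow_eq hP hnorm
    rw [Finset.mem_biUnion]
    refine ⟨Q, Finset.mem_univ _, ?_⟩
    rw [hF]
    simp only [Finset.mem_filter, Finset.mem_univ, true_and]
    rw [hQ]
    exact ⟨htP, hcen, hnab⟩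
  -- each piece is small
  have hpiece : ∀ Q : Sylow p T, (F Q).card * p ^ 2 ≤ Nat.card (Q : Subgroup T) := by
    intro Q
    by_cases hab : ∀ a ∈ (Q : Subgroup T), ∀ b ∈ (Q : Subgroup T), a * b = b * a
    · have : F Q = ∅ := by
        rw [hF]
        apply Finset.filter_eq_empty_iff.mpr
        intro t _ hcon
        exact hcon.2.2 hab
      rw [this]
      simp
    · haveI : Fintype (center ↥(Q : Subgroup T)) := Fintype.ofFinite _
      have hsub : F Q ⊆ Finset.image
          (fun z : center ↥(Q : Subgroup T) => (((z : ↥(Q : Subgroup T)) : T))) Finset.univ := by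
        intro t ht
        rw [hF] at ht
        simp only [Finset.mem_filter, Finset.mem_univ, true_and] at ht
        rw [Finset.mem_image]
        refine ⟨⟨⟨t, ht.1⟩, ?_⟩, Finset.mem_univ _, rfl⟩
        rw [mem_center_iff]
        intro u
        apply Subtype.ext
        exact ht.2.1 u.1 u.2
      have hle1 : (F Q).card ≤ Nat.card (center ↥(Q : Subgroup T)) := by
        calc (F Q).card ≤ (Finset.image
              (fun z : center ↥(Q : Subgroup T) => (((z : ↥(Q : Subgroup T)) : T)))
                Finset.univ).card := Finset.card_le_card hsub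
          _ ≤ (Finset.univ : Finset (center ↥(Q : Subgroup T))).card := Finset.card_image_le
          _ = Nat.card (center ↥(Q : Subgroup T)) := by
              rw [Finset.card_univ, Nat.card_eq_fintype_card]
      have hna' : ¬ ∀ a b : ↥(Q : Subgroup T), a * b = b * a := by
        intro hc
        apply hab
        intro a ha b hb
        exact congrArg Subtype.val (hc ⟨a, ha⟩ ⟨b, hb⟩)
      have hdvd := sq_dvd_index_center Q.isPGroup' hna'
      have hmul := (center ↥(Q : Subgroup T)).card_mul_index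
      have hipos : 0 < (center ↥(Q : Subgroup T)).index := by
        apply Nat.pos_of_ne_zero
        exact (center ↥(Q : Subgroup T)).index_ne_zero_of_finite
      have hle2 : p ^ 2 ≤ (center ↥(Q : Subgroup T)).index := Nat.le_of_dvd hipos hdvd
      calc (F Q).card * p ^ 2 ≤ Nat.card (center ↥(Q : Subgroup T)) *
            (center ↥(Q : Subgroup T)).index := Nat.mul_le_mul hle1 hle2
        _ = Nat.card (Q : Subgroup T) := hmul
  -- all Sylow subgroups have the same order
  have hsame : ∀ Q : Sylow p T, Nat.card (Q : Subgroup T) = Nat.card (Q₀ : Subgroup T) := by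
    intro Q
    rw [Q.card_eq_multiplicity, Q₀.card_eq_multiplicity]
  -- number of Sylow subgroups
  have hnum : Nat.card (Sylow p T) = (Q₀ : Subgroup T).index := by
    have e : normalizer ((Q₀ : Sylow p T) : Set T) = (Q₀ : Subgroup T) := by
      rw [hQ₀, ← hnorm₀]
      congr 1
      rw [← hQ₀]
      rfl
    rw [Q₀.card_eq_index_normalizer, e]
  calc (Finset.univ.filter (fun t : T => orderOf t = p)).card * p ^ 2
      ≤ (Finset.univ.biUnion F).card * p ^ 2 :=
        Nat.mul_le_mul_right _ (Finset.card_le_card hcover)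
    _ ≤ (∑ Q : Sylow p T, (F Q).card) * p ^ 2 :=
        Nat.mul_le_mul_right _ Finset.card_biUnion_le
    _ = ∑ Q : Sylow p T, (F Q).card * p ^ 2 := by rw [Finset.sum_mul]
    _ ≤ ∑ _Q : Sylow p T, Nat.card (Q₀ : Subgroup T) := by
        apply Finset.sum_le_sum
        intro Q _
        rw [← hsame Q]
        exact hpiece Q
    _ = Nat.card (Sylow p T) * Nat.card (Q₀ : Subgroup T) := by
        rw [Finset.sum_const, Finset.card_univ, smul_eq_mul, ← Nat.card_eq_fintype_card]
    _ = Nat.card T := by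
        rw [hnum, mul_comm]
        exact (Q₀ : Subgroup T).card_mul_index

theorem count_contra {T : Type*} [Group T] [Finite T]
    (hT : ∀ t : T, t ≠ 1 → LocalHyp t) : ∀ t : T, t = 1 := by
  classical
  haveI : Fintype T := Fintype.ofFinite T
  obtain ⟨c, hc⟩ : ∃ c : ℕ, c = Nat.card T := ⟨_, rfl⟩
  have hcpos : 0 < c := by rw [hc]; exact Nat.card_pos
  -- fibre decomposition
  have hmaps : ∀ t ∈ (Finset.univ.erase (1 : T)), orderOf t ∈ Finset.Ico 3 (c + 1) := by
    intro t ht
    have ht1 : t ≠ 1 := (Finset.mem_erase.mp ht).1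
    obtain ⟨p, _, hp3, hop, _⟩ := hT t ht1
    rw [Finset.mem_Ico]
    refine ⟨by omega, ?_⟩
    have := _root_.orderOf_le_card (x := t)
    omega
  have hfib := Finset.card_eq_sum_card_fiberwise hmaps
  have hcard1 : (Finset.univ.erase (1 : T)).card = c - 1 := by
    rw [Finset.card_erase_of_mem (Finset.mem_univ _), Finset.card_univ, hc,
      Nat.card_eq_fintype_card]
  have hbound : ∀ n ∈ Finset.Ico 3 (c + 1),
      (((Finset.univ.erase (1 : T)).filter (fun t => orderOf t = n)).card : ℚ) ≤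
        (c : ℚ) / (n : ℚ) ^ 2 := by
    intro n hn
    have hn3 : 3 ≤ n := (Finset.mem_Ico.mp hn).1
    have h1 := card_order_le hT n hn3
    have h2 : ((Finset.univ.erase (1 : T)).filter (fun t => orderOf t = n)).card ≤
        (Finset.univ.filter (fun t : T => orderOf t = n)).card := by
      apply Finset.card_le_card
      intro t ht
      rw [Finset.mem_filter] at ht ⊢
      exact ⟨Finset.mem_univ _, ht.2⟩
    have h3 : ((Finset.univ.erase (1 : T)).filter (fun t => orderOf t = n)).card * n ^ 2 ≤ c := by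
      rw [hc]
      exact (Nat.mul_le_mul_right _ h2).trans h1
    have hnpos : (0 : ℚ) < (n : ℚ) ^ 2 := by positivity
    rw [le_div_iff₀ hnpos]
    exact_mod_cast h3
  have hsum : ∑ n ∈ Finset.Ico 3 (c + 1), (c : ℚ) / (n : ℚ) ^ 2 =
      (c : ℚ) * ∑ k ∈ Finset.range (c + 1 - 3), (1 : ℚ) / ((k : ℚ) + 3) ^ 2 := by
    rw [Finset.sum_Ico_eq_sum_range, Finset.mul_sum]
    apply Finset.sum_congr rfl
    intro k _
    push_cast
    ring
  have hmain : ((c - 1 : ℕ) : ℚ) ≤ (c : ℚ) * (1 / 2 - 1 / (((c + 1 - 3 : ℕ) : ℚ) + 2)) := by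
    calc ((c - 1 : ℕ) : ℚ) = ((Finset.univ.erase (1 : T)).card : ℚ) := by rw [hcard1]
      _ = ∑ n ∈ Finset.Ico 3 (c + 1),
            (((Finset.univ.erase (1 : T)).filter (fun t => orderOf t = n)).card : ℚ) := by
          rw [hfib]
          push_cast
          rfl
      _ ≤ ∑ n ∈ Finset.Ico 3 (c + 1), (c : ℚ) / (n : ℚ) ^ 2 := Finset.sum_le_sum hbound
      _ = (c : ℚ) * ∑ k ∈ Finset.range (c + 1 - 3), (1 : ℚ) / ((k : ℚ) + 3) ^ 2 := hsum
      _ ≤ (c : ℚ) * (1 / 2 - 1 / (((c + 1 - 3 : ℕ) : ℚ) + 2)) := by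
          apply mul_le_mul_of_nonneg_left (sum_inv_sq_le _)
          positivity
  have hc1 : c ≤ 1 := by
    by_contra hgt
    push Not at hgt
    have hpos2 : (0 : ℚ) < 1 / (((c + 1 - 3 : ℕ) : ℚ) + 2) := by positivity
    have hcq : (0 : ℚ) < (c : ℚ) := by exact_mod_cast hcpos
    have hlt : ((c - 1 : ℕ) : ℚ) < (c : ℚ) / 2 := by
      calc ((c - 1 : ℕ) : ℚ) ≤ (c : ℚ) * (1 / 2 - 1 / (((c + 1 - 3 : ℕ) : ℚ) + 2)) := hmain
        _ < (c : ℚ) * (1 / 2) := by
            apply mul_lt_mul_of_pos_left _ hcq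
            linarith
        _ = (c : ℚ) / 2 := by ring
    have hcast : ((c - 1 : ℕ) : ℚ) = (c : ℚ) - 1 := by
      rw [Nat.cast_sub (by omega)]
      simp
    rw [hcast] at hlt
    have : (c : ℚ) < 2 := by linarith
    have : c < 2 := by exact_mod_cast this
    omega
  intro t
  by_contra ht1
  have : 1 < Nat.card T := by
    rw [Nat.card_eq_fintype_card]
    exact Fintype.one_lt_card_iff.mpr ⟨t, 1, ht1⟩
  omega

end Cfsg.Agent.Helper29.RCM
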