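import Mathlib
import Cfsg.Agent.Lib.Helper29.RelCM6
import Cfsg.Agent.Lib.Helper29.RelCM7

set_option autoImplicit false

/-!
# Relative CM with trivial centre: Theorem A
-/

namespace Cfsg.Agent.Helper29.RCM

open Subgroup
open Cfsg.Agent.Helper29.CM
open scoped Pointwise
open scoped commutatorElement

variable {G : Type*} [Group G]

theorem comm_of_sq {u v : G} (hu : u * u = 1) (hv : v * v = 1) (huv : (u * v) * (u * v) = 1) :
    u * v = v * u := by
  have h1 : u * v * u = v := by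
    calc u * v * u = (u * v * u) * (v * v) := by rw [hv, mul_one]
      _ = ((u * v) * (u * v)) * v := by group
      _ = v := by rw [huv, one_mul]
  calc u * v = u * v * (u * u) := by rw [hu, mul_one]
    _ = (u * v * u) * u := by group
    _ = v * u := by rw [h1]

theorem localHyp_of_nonabelian [Finite G] {N : Subgroup G} [hN : N.Normal] (h : Hyp N)
    (hZ : ZN N = ⊥) (hna : ¬ ∀ a ∈ ⁅N, N⁆, ∀ b ∈ ⁅N, N⁆, a * b = b * a) (t : ↥N) (ht1 : t ≠ 1) :
    LocalHyp t := by
  have ha : (t : G) ∈ N := t.2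
  have ha1 : (t : G) ≠ 1 := fun e => ht1 (Subtype.ext e)
  have hnab := not_abD h hZ hna ha ha1
  have hna' : ∃ u ∈ N ⊓ C (t : G), ∃ v ∈ N ⊓ C (t : G), u * v ≠ v * u := by
    unfold AbD at hnab
    push Not at hnab
    exact hnab
  obtain ⟨p, hp, hexp⟩ := exp' h hZ ha ha1 hna'
  haveI := Fact.mk hp
  have htD : (t : G) ∈ N ⊓ C (t : G) := mem_inf.mpr ⟨ha, self_mem_C _⟩
  have hoa : orderOf (t : G) = p := orderOf_eq_prime (hexp _ htD) ha1
  have hot : orderOf t = p := by rw [← Subgroup.orderOf_coe]; exact hoa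
  obtain ⟨u, hu, v, hv, huv⟩ := hna'
  have hp2 : p ≠ 2 := by
    intro h2
    apply huv
    have e1 := hexp u hu
    have e2 := hexp v hv
    have e3 := hexp (u * v) (mul_mem hu hv)
    rw [h2, pow_two] at e1 e2 e3
    exact comm_of_sq e1 e2 e3
  have hp3 : 3 ≤ p := by
    have := hp.two_le
    omega
  refine ⟨p, hp, hp3, hot, (N ⊓ C (t : G)).subgroupOf N, ?_, ?_, ?_, ?_, ?_⟩
  · intro g
    refine ⟨1, ?_⟩
    rw [pow_one]
    apply Subtype.ext
    apply Subtype.ext
    rw [Subgroup.coe_pow, Subgroup.coe_pow]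
    exact hexp _ (mem_subgroupOf.mp g.2)
  · exact mem_subgroupOf.mpr htD
  · intro w hw
    apply Subtype.ext
    rw [Subgroup.coe_mul, Subgroup.coe_mul]
    exact mem_C.mp (mem_inf.mp (mem_subgroupOf.mp hw)).2
  · rw [← subgroupOf_normalizer_eq (inf_le_left : N ⊓ C (t : G) ≤ N),
      normalizer_eq_C h hZ hna ha ha1, inf_subgroupOf_left]
  · intro hc
    apply huv
    have := hc ⟨u, (mem_inf.mp hu).1⟩ (mem_subgroupOf.mpr hu) ⟨v, (mem_inf.mp hv).1⟩
      (mem_subgroupOf.mpr hv)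
    exact congrArg Subtype.val this

theorem nonabelian_false [Finite G] {N : Subgroup G} [hN : N.Normal] (h : Hyp N)
    (hZ : ZN N = ⊥) (hN1 : N ≠ ⊥) (hna : ¬ ∀ a ∈ ⁅N, N⁆, ∀ b ∈ ⁅N, N⁆, a * b = b * a) :
    False := by
  apply hN1
  rw [eq_bot_iff]
  intro n hn
  have := count_contra (localHyp_of_nonabelian h hZ hna) ⟨n, hn⟩
  rw [mem_bot]
  exact congrArg Subtype.val this

/-- Theorem A. -/
theorem thmA [Finite G] {N : Subgroup G} [hN : N.Normal] (h : Hyp N)
    (hZ : ZN N = ⊥) (hN1 : N ≠ ⊥) : FrobData N := by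
  by_cases hab : ∀ a ∈ ⁅N, N⁆, ∀ b ∈ ⁅N, N⁆, a * b = b * a
  · exact frobData_of_abelian h hZ hN1 hab
  · exact (nonabelian_false h hZ hN1 hab).elim

end Cfsg.Agent.Helper29.RCM
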