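import Mathlib
import Cfsg.Agent.Lib.Helper29.RelCM8
import Cfsg.Agent.Lib.Helper60.GKA

set_option autoImplicit false

/-!
# Relative CM: passage to the quotient by the centre of `N`, and the final theorem
-/

namespace Cfsg.Agent.Helper29.RCM

open Subgroup
open Cfsg.Agent.Helper29.CM
open scoped Pointwise
open scoped commutatorElement

variable {G : Type*} [Group G]

theorem hyp_quot {N : Subgroup G} [hN : N.Normal] (h : Hyp N) (hZ2 : Z2 N ≤ ZN N) :
    Hyp (N.map (QuotientGroup.mk' (ZN N))) := by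
  intro y hy hyc
  obtain ⟨x, hx, rfl⟩ := hy
  have hxc : x ∉ centralizer (N : Set G) := by
    intro hc
    apply hyc
    rw [mem_centralizer_iff]
    rintro _ ⟨n, hn, rfl⟩
    rw [← map_mul, ← map_mul, (mem_centralizer_iff.mp hc) n hn]
  have hxNC : NC N x := ⟨hx, hxc⟩
  have hnotZ2 : x ∉ Z2 N := fun hx2 => hxc (mem_inf.mp (hZ2 hx2)).2
  have hCle : C x ≤ (C (QuotientGroup.mk' (ZN N) x)).comap (QuotientGroup.mk' (ZN N)) := by
    intro g hg
    rw [mem_comap, mem_C, ← map_mul, ← map_mul, mem_C.mp hg]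
  have hMtop : (C (QuotientGroup.mk' (ZN N) x)).comap (QuotientGroup.mk' (ZN N)) ≠ ⊤ := by
    intro htop
    apply hnotZ2
    unfold Z2
    refine mem_inf.mpr ⟨hx, ?_⟩
    rw [mem_comap, mem_centralizer_iff]
    rintro _ ⟨n, hn, rfl⟩
    have : n ∈ (C (QuotientGroup.mk' (ZN N) x)).comap (QuotientGroup.mk' (ZN N)) := by
      rw [htop]
      trivial
    rw [mem_comap, mem_C] at this
    exact this
  have hM : (C (QuotientGroup.mk' (ZN N) x)).comap (QuotientGroup.mk' (ZN N)) = C x :=
    (dich h hxNC hCle).resolve_right hMtop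
  constructor
  · intro htop
    apply hMtop
    have : C (QuotientGroup.mk' (ZN N) x) = ⊤ := htop
    rw [this]
    exact comap_top _
  · intro E hE
    have hE' : C (QuotientGroup.mk' (ZN N) x) < E := hE
    have hle : C x ≤ E.comap (QuotientGroup.mk' (ZN N)) := hCle.trans (comap_mono hE'.le)
    rcases dich h hxNC hle with h1 | h1
    · exfalso
      have e1 : E.comap (QuotientGroup.mk' (ZN N)) =
          (C (QuotientGroup.mk' (ZN N) x)).comap (QuotientGroup.mk' (ZN N)) := h1.trans hM.symm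
      have e2 := comap_injective (QuotientGroup.mk'_surjective (ZN N)) e1
      exact hE'.ne e2.symm
    · apply comap_injective (QuotientGroup.mk'_surjective (ZN N))
      rw [h1, comap_top]

theorem ZN_quot {N : Subgroup G} [hN : N.Normal] (hZ2 : Z2 N ≤ ZN N) :
    ZN (N.map (QuotientGroup.mk' (ZN N))) = ⊥ := by
  rw [eq_bot_iff]
  intro y hy
  obtain ⟨hyN, hyc⟩ := mem_inf.mp hy
  obtain ⟨x, hx, rfl⟩ := hyN
  have h2 : x ∈ Z2 N := by
    unfold Z2
    exact mem_inf.mpr ⟨hx, mem_comap.mpr hyc⟩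
  have h3 := hZ2 h2
  rw [mem_bot, QuotientGroup.mk'_apply]
  exact (QuotientGroup.eq_one_iff x).mpr h3

theorem map_ne_bot {N : Subgroup G} [hN : N.Normal] (hnab : ¬ N ≤ centralizer (N : Set G)) :
    N.map (QuotientGroup.mk' (ZN N)) ≠ ⊥ := by
  intro hb
  apply hnab
  intro n hn
  have : QuotientGroup.mk' (ZN N) n ∈ N.map (QuotientGroup.mk' (ZN N)) := mem_map_of_mem _ hn
  rw [hb, mem_bot, QuotientGroup.mk'_apply, QuotientGroup.eq_one_iff] at this
  exact (mem_inf.mp this).2

/-- transport of the Frobenius data along an injective homomorphism -/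
theorem transport {X Y : Type*} [Group X] [Finite X] [Group Y] (ι : X →* Y)
    (hι : Function.Injective ι) (hF : FrobData ι.range) :
    ∃ (Q K : Subgroup X) (p : ℕ), p.Prime ∧ Cfsg.IsFrobeniusComplement Q ∧ (Nat.card ↥Q).Prime ∧
      K.Normal ∧ (K : Set X) = Cfsg.frobeniusKernel Q ∧ Cfsg.IsElementaryAbelian p K := by
  obtain ⟨K, Q, p, hp, hKR, hQR, hK1, hKconj, hKQ, hprod, hQcard, hKab, hKexp, hfpf⟩ := hF
  haveI hK'n : (K.comap ι).Normal := by
    constructor
    intro k hk x
    rw [mem_comap] at hk ⊢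
    rw [map_mul, map_mul, map_inv]
    exact hKconj (ι x) ⟨x, rfl⟩ (ι k) hk
  have hdisj : Disjoint (K.comap ι) (Q.comap ι) := by
    rw [disjoint_iff, eq_bot_iff]
    intro x hx
    have := hKQ (ι x) (mem_inf.mp hx).1 (mem_inf.mp hx).2
    rw [mem_bot]
    exact hι (this.trans (map_one ι).symm)
  have hmul : ((K.comap ι : Subgroup X) : Set X) * ((Q.comap ι : Subgroup X) : Set X) =
      Set.univ := by
    rw [Set.eq_univ_iff_forall]
    intro x
    obtain ⟨k, hk, c, hc, hx⟩ := hprod (ι x) ⟨x, rfl⟩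
    obtain ⟨k', rfl⟩ := hKR hk
    obtain ⟨c', rfl⟩ := hQR hc
    rw [← map_mul] at hx
    have := hι hx
    rw [this]
    exact Set.mul_mem_mul hk hc
  have hcompl := isComplement'_of_disjoint_and_mul_eq_univ hdisj hmul
  have hK'1 : K.comap ι ≠ ⊥ := by
    obtain ⟨⟨k, hk⟩, hne⟩ := (Subgroup.ne_bot_iff_exists_ne_one).mp hK1
    obtain ⟨k', rfl⟩ := hKR hk
    intro hb
    have : k' ∈ K.comap ι := hk
    rw [hb, mem_bot] at this
    apply hne
    apply Subtype.ext
    show ι k' = 1
    rw [this, map_one]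
  have hQ'card : Nat.card ↥(Q.comap ι) = Nat.card ↥Q := by
    have e1 : (Q.comap ι).map ι = Q := map_comap_eq_self hQR
    rw [← Subgroup.card_map_of_injective hι, e1]
  have hQ'1 : Q.comap ι ≠ ⊥ := by
    intro hb
    rw [← hQ'card, hb, Subgroup.card_bot] at hQcard
    exact Nat.not_prime_one hQcard
  have hfpf' : ∀ c ∈ Q.comap ι, c ≠ 1 → ∀ k ∈ K.comap ι, c * k = k * c → k = 1 := by
    intro c hc hc1 k hk hck
    have h1 : ι c ≠ 1 := fun e => hc1 (hι (e.trans (map_one ι).symm))
    have h2 : ι c * ι k = ι k * ι c := by rw [← map_mul, ← map_mul, hck]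
    have h3 := hfpf (ι c) hc h1 (ι k) hk h2
    exact hι (h3.trans (map_one ι).symm)
  obtain ⟨hFC, hFK⟩ := Cfsg.Agent.Helper60.frobenius_of_fpf (K.comap ι) (Q.comap ι) hcompl
    hK'1 hQ'1 hfpf'
  refine ⟨Q.comap ι, K.comap ι, p, hp, hFC, ?_, hK'n, hFK.symm, ⟨?_, ?_⟩⟩
  · rw [hQ'card]
    exact hQcard
  · refine ⟨⟨fun a b => ?_⟩⟩
    apply Subtype.ext
    apply hι
    rw [Subgroup.coe_mul, Subgroup.coe_mul, map_mul, map_mul]
    exact hKab _ a.2 _ b.2
  · intro a ha
    apply hι
    rw [map_pow, map_one]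
    exact hKexp _ ha

/-- the natural embedding of `N / Z(N)` into `G / Z(N)` -/
noncomputable def iota (N : Subgroup G) [N.Normal] : ↥N ⧸ center ↥N →* G ⧸ ZN N :=
  QuotientGroup.lift (center ↥N) ((QuotientGroup.mk' (ZN N)).comp N.subtype) (by
    intro z hz
    rw [MonoidHom.mem_ker, MonoidHom.comp_apply, QuotientGroup.mk'_apply, QuotientGroup.eq_one_iff]
    refine mem_inf.mpr ⟨z.2, ?_⟩
    rw [mem_centralizer_iff]
    intro n hn
    exact congrArg Subtype.val (mem_center_iff.mp hz ⟨n, hn⟩))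

theorem iota_mk (N : Subgroup G) [N.Normal] (n : ↥N) :
    iota N (QuotientGroup.mk n) = QuotientGroup.mk' (ZN N) (n : G) := rfl

theorem iota_injective (N : Subgroup G) [N.Normal] : Function.Injective (iota N) := by
  rw [injective_iff_map_eq_one]
  intro q
  induction q using QuotientGroup.induction_on with
  | H n =>
    intro hq
    rw [iota_mk, QuotientGroup.mk'_apply, QuotientGroup.eq_one_iff] at hq
    rw [QuotientGroup.eq_one_iff, mem_center_iff]
    intro g
    apply Subtype.ext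
    rw [Subgroup.coe_mul, Subgroup.coe_mul]
    exact (mem_centralizer_iff.mp (mem_inf.mp hq).2) g g.2

theorem iota_range (N : Subgroup G) [N.Normal] :
    (iota N).range = N.map (QuotientGroup.mk' (ZN N)) := by
  ext y
  constructor
  · rintro ⟨q, rfl⟩
    induction q using QuotientGroup.induction_on with
    | H n =>
      rw [iota_mk]
      exact mem_map_of_mem _ n.2
  · rintro ⟨n, hn, rfl⟩
    exact ⟨QuotientGroup.mk ⟨n, hn⟩, rfl⟩

/-- a finite abelian group all of whose non-trivial elements have prime order has prime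
exponent -/
theorem exists_prime_exp {A : Type*} [Group A] [Finite A] (hc : ∀ a b : A, a * b = b * a)
    (hpr : ∀ a : A, a ≠ 1 → ∃ p : ℕ, p.Prime ∧ a ^ p = 1) :
    ∃ p : ℕ, p.Prime ∧ ∀ a : A, a ^ p = 1 := by
  by_cases htriv : ∀ a : A, a = 1
  · refine ⟨2, Nat.prime_two, ?_⟩
    intro a
    rw [htriv a, one_pow]
  push Not at htriv
  obtain ⟨a₀, ha₀⟩ := htriv
  obtain ⟨p, hp, ha₀p⟩ := hpr a₀ ha₀
  haveI := Fact.mk hp
  have hoa : orderOf a₀ = p := orderOf_eq_prime ha₀p ha₀
  refine ⟨p, hp, ?_⟩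
  intro b
  by_cases hb : b = 1
  · rw [hb, one_pow]
  obtain ⟨q, hq, hbq⟩ := hpr b hb
  haveI := Fact.mk hq
  have hob : orderOf b = q := orderOf_eq_prime hbq hb
  by_cases hpq : p = q
  · rw [hpq]
    exact hbq
  exfalso
  have hcop : Nat.Coprime (orderOf a₀) (orderOf b) := by
    rw [hoa, hob]
    exact (Nat.coprime_primes hp hq).mpr hpq
  have ho : orderOf (a₀ * b) = p * q := by
    rw [(show Commute a₀ b from hc a₀ b).orderOf_mul_eq_mul_orderOf_of_coprime hcop, hoa, hob]
  have hab1 : a₀ * b ≠ 1 := by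
    intro e
    rw [e, orderOf_one] at ho
    have := hp.two_le
    have := hq.two_le
    nlinarith
  obtain ⟨r, hr, habr⟩ := hpr (a₀ * b) hab1
  haveI := Fact.mk hr
  have hor : orderOf (a₀ * b) = r := orderOf_eq_prime habr hab1
  rw [ho] at hor
  rw [← hor] at hr
  exact Nat.not_prime_mul hp.one_lt.ne' hq.one_lt.ne' hr

/-- Case 1: all `N ⊓ C x` are normal. -/
theorem case1_conclusion [Finite G] {N : Subgroup G} [hN : N.Normal] (h : Hyp N)
    (hall : ∀ x, NC N x → normalizer ((N ⊓ C x : Subgroup G) : Set G) = ⊤) :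
    ∃ p : ℕ, p.Prime ∧ Cfsg.IsElementaryAbelian p (⊤ : Subgroup (↥N ⧸ center ↥N)) := by
  have hc : ∀ a b : ↥N ⧸ center ↥N, a * b = b * a := by
    intro a b
    induction a using QuotientGroup.induction_on with
    | H x =>
    induction b using QuotientGroup.induction_on with
    | H y =>
      rw [← QuotientGroup.mk_mul, ← QuotientGroup.mk_mul]
      symm
      rw [QuotientGroup.eq, mem_center_iff]
      intro g
      apply Subtype.ext
      have h1 := case1_comm h hall x.2 y.2
      have h2 := (mem_centralizer_iff.mp h1) g g.2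
      have e : (((y * x)⁻¹ * (x * y) : ↥N) : G) = ((x : G)⁻¹ * (y : G)⁻¹ * (x : G) * (y : G)) := by
        simp [mul_assoc]
      show (g : G) * (((y * x)⁻¹ * (x * y) : ↥N) : G) =
        (((y * x)⁻¹ * (x * y) : ↥N) : G) * (g : G)
      rw [e]
      exact h2
  have hpr : ∀ a : ↥N ⧸ center ↥N, a ≠ 1 → ∃ p : ℕ, p.Prime ∧ a ^ p = 1 := by
    intro a
    induction a using QuotientGroup.induction_on with
    | H x =>
      intro hne
      have hxc : (x : G) ∉ centralizer (N : Set G) := by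
        intro hcen
        apply hne
        rw [QuotientGroup.eq_one_iff, mem_center_iff]
        intro g
        apply Subtype.ext
        rw [Subgroup.coe_mul, Subgroup.coe_mul]
        exact (mem_centralizer_iff.mp hcen) g g.2
      obtain ⟨p, hp, hxp⟩ := case1_pow h hall (x := (x : G)) ⟨x.2, hxc⟩
      refine ⟨p, hp, ?_⟩
      rw [← QuotientGroup.mk_pow, QuotientGroup.eq_one_iff, mem_center_iff]
      intro g
      apply Subtype.ext
      rw [Subgroup.coe_mul, Subgroup.coe_mul, Subgroup.coe_pow]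
      exact (mem_centralizer_iff.mp hxp) g g.2
  obtain ⟨p, hp, hexp⟩ := exists_prime_exp hc hpr
  refine ⟨p, hp, ⟨⟨⟨fun a b => ?_⟩⟩, fun a _ => hexp a⟩⟩
  apply Subtype.ext
  rw [Subgroup.coe_mul, Subgroup.coe_mul]
  exact hc _ _

/-- The main theorem. -/
theorem main [Finite G] (N : Subgroup G) [hN : N.Normal] (h : Hyp N) :
    (∃ p : ℕ, p.Prime ∧ Cfsg.IsElementaryAbelian p (⊤ : Subgroup (↥N ⧸ center ↥N))) ∨
    (∃ (Q K : Subgroup (↥N ⧸ center ↥N)) (p : ℕ), p.Prime ∧ Cfsg.IsFrobeniusComplement Q ∧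
      (Nat.card ↥Q).Prime ∧ K.Normal ∧ (K : Set (↥N ⧸ center ↥N)) = Cfsg.frobeniusKernel Q ∧
      Cfsg.IsElementaryAbelian p K) := by
  by_cases hall : ∀ x, NC N x → normalizer ((N ⊓ C x : Subgroup G) : Set G) = ⊤
  · left
    exact case1_conclusion h hall
  · right
    push Not at hall
    obtain ⟨x₀, hx₀, hne⟩ := hall
    have hnn := (normalizer_dich h hx₀).resolve_right hne
    have hZ2 := Z2_eq_ZN h hx₀ hnn
    have hnab : ¬ N ≤ centralizer (N : Set G) := fun hle => hx₀.2 (hle hx₀.1)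
    haveI : (N.map (QuotientGroup.mk' (ZN N))).Normal :=
      hN.map _ (QuotientGroup.mk'_surjective _)
    have hF := thmA (hyp_quot h hZ2) (ZN_quot hZ2) (map_ne_bot hnab)
    apply transport (iota N) (iota_injective N)
    rw [iota_range]
    exact hF

end Cfsg.Agent.Helper29.RCM
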