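import Mathlib
import Cfsg.Agent.Lib.Helper31.SCHDefs

set_option autoImplicit false

/-! # SCH (SQ2) sylow_quot_p, for helper31's SCH server (S4394) -/

namespace Cfsg.Agent.Helper29.SCH
open Cfsg Cfsg.Agent.Helper31.SCH

variable {G : Type*} [Group G] [Finite G] {p : ℕ} [Fact p.Prime]

/-- (SQ2) [M] `P' = P.map (mk' Y)` is a Sylow subgroup of `G ⧸ Y`, and the restriction of `mk'` to `P` has
kernel `Y.subgroupOf P`. -/
theorem sylow_quot_p (Y : Subgroup G) [Y.Normal] (P : Sylow p G) (hY : Y ≤ (P : Subgroup G)) :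
    ∃ P' : Sylow p (G ⧸ Y), Nonempty (↥(P' : Subgroup (G ⧸ Y)) ≃*
      (↥(P : Subgroup G) ⧸ Y.subgroupOf (P : Subgroup G))) := by
  have hsurj : Function.Surjective (QuotientGroup.mk' Y) := QuotientGroup.mk'_surjective Y
  refine ⟨P.mapSurjective hsurj, ?_⟩
  rw [Sylow.coe_mapSurjective]
  set φ : ↥(P : Subgroup G) →* G ⧸ Y := (QuotientGroup.mk' Y).comp (P : Subgroup G).subtype with hφ
  have hker : Y.subgroupOf (P : Subgroup G) = φ.ker := by
    ext x
    rw [Subgroup.mem_subgroupOf, MonoidHom.mem_ker, hφ, MonoidHom.comp_apply,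
      QuotientGroup.mk'_apply, QuotientGroup.eq_one_iff]
    rfl
  have hrange : φ.range = (P : Subgroup G).map (QuotientGroup.mk' Y) := by
    rw [hφ, MonoidHom.range_comp, Subgroup.range_subtype]
  exact ⟨((MulEquiv.subgroupCongr hrange).symm.trans
    (QuotientGroup.quotientKerEquivRange φ).symm).trans
    (QuotientGroup.quotientMulEquivOfEq hker.symm)⟩

end Cfsg.Agent.Helper29.SCH
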