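import Mathlib
import Cfsg.Agent.Lib.Helper62.SUO0

/-!
# SUO (S2282), Block X: the field (server: helper62)

(X1) `gen2_of_eta`, (X2) `exists_params_odd`, (X3) `exists_params_even`.
-/

set_option autoImplicit false
set_option linter.unusedSectionVars false
set_option linter.unusedVariables false

namespace Cfsg.Agent.Helper29.SUO

open Matrix Cfsg Cfsg.Agent.Helper13 Cfsg.Agent.Helper87.PsuA Cfsg.Agent.Helper62.SUO

section X
variable {F : Type*} [Field F] [Fintype F] {q : ℕ} (hF : Fintype.card F = q ^ 2)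

include hF

theorem h29_fadd (x y : F) : (x + y) ^ q = x ^ q + y ^ q :=
  map_add (Cfsg.Agent.Helper13.frobQ hF) x y

theorem h29_fsub (x y : F) : (x - y) ^ q = x ^ q - y ^ q :=
  map_sub (Cfsg.Agent.Helper13.frobQ hF) x y

theorem h29_ff (x : F) : (x ^ q) ^ q = x :=
  Cfsg.Agent.Helper13.frobQ_frobQ hF x

/-- (X1) if the powers of `ρ` exhaust the nonzero elements of the fixed field, `S` is stable under
the fixed field; `x = β c + α κ` with `β = (x + x^q)/(c + c^q)`, `α = (x - β c)/κ` both fixed -/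
theorem gen2_of_eta (ρ c : F) (hρ : ∀ x : F, x ≠ 0 → x ^ q = x → ∃ i : ℕ, x = ρ ^ i)
    (hT : c + c ^ q ≠ 0) (hκ : c - c ^ q ≠ 0) : Gen2 c (c - c ^ q) ρ := by
  intro S hc hk hS
  have hpow : ∀ i : ℕ, ∀ a ∈ S, ρ ^ i * a ∈ S := by
    intro i
    induction i with
    | zero => intro a ha; simpa using ha
    | succ i ih => intro a ha; rw [pow_succ', mul_assoc]; exact hS _ (ih a ha)
  have hfix : ∀ β : F, β ^ q = β → ∀ a ∈ S, β * a ∈ S := by
    intro β hβ a ha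
    by_cases h0 : β = 0
    · rw [h0, zero_mul]; exact S.zero_mem
    · obtain ⟨i, hi⟩ := hρ β h0 hβ
      rw [hi]; exact hpow i a ha
  rw [eq_top_iff]
  intro x _
  have hTq : (c + c ^ q) ^ q = c + c ^ q := by rw [h29_fadd hF, h29_ff hF, add_comm]
  have hκq : (c - c ^ q) ^ q = -(c - c ^ q) := by rw [h29_fsub hF, h29_ff hF]; ring
  obtain ⟨β, hβ⟩ : ∃ β : F, β = (x + x ^ q) / (c + c ^ q) := ⟨_, rfl⟩
  obtain ⟨α, hα⟩ : ∃ α : F, α = (x - β * c) / (c - c ^ q) := ⟨_, rfl⟩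
  have hβT : β * (c + c ^ q) = x + x ^ q := by rw [hβ]; field_simp
  have hακ : α * (c - c ^ q) = x - β * c := by rw [hα]; field_simp
  have hβq : β ^ q = β := by
    rw [hβ, div_pow, h29_fadd hF, h29_ff hF, hTq, add_comm]
  have hαq : α ^ q = α := by
    rw [hα, div_pow, h29_fsub hF, mul_pow, hβq, hκq, div_neg, ← neg_div]
    congr 1
    linear_combination hβT
  have hx : x = β * c + α * (c - c ^ q) := by rw [hακ]; ring
  rw [hx]
  exact S.add_mem (hfix β hβq c hc) (hfix α hαq _ hk)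

theorem h29_two_le_q : 2 ≤ q := by
  have h1 : 1 < Fintype.card F := Fintype.one_lt_card
  rw [hF] at h1
  by_contra h
  have : q ≤ 1 := by omega
  have : q ^ 2 ≤ 1 := by nlinarith
  omega

/-- a generator of `Fˣ` -/
theorem h29_exists_zeta : ∃ ζ : F, ζ ≠ 0 ∧ orderOf ζ = q ^ 2 - 1 ∧
    ∀ x : F, x ≠ 0 → ∃ j : ℕ, x = ζ ^ j := by
  obtain ⟨g, hg⟩ := IsCyclic.exists_generator (α := Fˣ)
  have hord : orderOf g = Nat.card Fˣ := orderOf_eq_card_of_forall_mem_zpowers hg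
  refine ⟨(g : F), g.ne_zero, ?_, ?_⟩
  · rw [orderOf_units, hord, Nat.card_units, Nat.card_eq_fintype_card, hF]
  · intro x hx
    have h1 := hg (Units.mk0 x hx)
    obtain ⟨n, hn⟩ := (Submonoid.mem_powers_iff _ _).1 (mem_powers_iff_mem_zpowers.2 h1)
    refine ⟨n, ?_⟩
    have := congrArg (fun u : Fˣ => (u : F)) hn
    simp only [Units.val_pow_eq_pow_val, Units.val_mk0] at this
    exact this.symm

/-- `ζ ^ (q + 1)` generates the nonzero elements of the fixed field -/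
theorem h29_fixed_gen (ζ : F) (hζ : ζ ≠ 0) (hord : orderOf ζ = q ^ 2 - 1)
    (hgen : ∀ x : F, x ≠ 0 → ∃ j : ℕ, x = ζ ^ j) :
    ∀ x : F, x ≠ 0 → x ^ q = x → ∃ i : ℕ, x = (ζ ^ (q + 1)) ^ i := by
  intro x hx hxq
  have hq2 := h29_two_le_q hF
  obtain ⟨j, rfl⟩ := hgen x hx
  rw [← pow_mul] at hxq
  have hle : j ≤ j * q := Nat.le_mul_of_pos_right j (by omega)
  have hone : ζ ^ (j * q - j) = 1 := by
    have h1 : ζ ^ (j * q - j) * ζ ^ j = 1 * ζ ^ j := by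
      rw [← pow_add, Nat.sub_add_cancel hle, one_mul, hxq]
    exact mul_right_cancel₀ (pow_ne_zero _ hζ) h1
  have hdvd : q ^ 2 - 1 ∣ j * q - j := by
    rw [← hord]; exact orderOf_dvd_of_pow_eq_one hone
  have e1 : q ^ 2 - 1 = (q - 1) * (q + 1) := by
    obtain ⟨k, rfl⟩ : ∃ k, q = k + 1 := ⟨q - 1, by omega⟩
    simp only [Nat.add_sub_cancel]
    ring_nf
    omega
  have e2 : j * q - j = (q - 1) * j := by
    obtain ⟨k, rfl⟩ : ∃ k, q = k + 1 := ⟨q - 1, by omega⟩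
    simp only [Nat.add_sub_cancel]
    rw [mul_add, mul_one, Nat.add_sub_cancel, mul_comm]
  rw [e1, e2] at hdvd
  have hdvd' : q + 1 ∣ j := Nat.dvd_of_mul_dvd_mul_left (by omega) hdvd
  obtain ⟨i, rfl⟩ := hdvd'
  exact ⟨i, by rw [pow_mul]⟩

/-- (X2) `q` odd: `ζ` a generator of `Fˣ`, `t = 1`, `a = -1/2`, `κ = 2 ζ^((q+1)/2)`,
`c = κ/2 + 1`, `ρ = κ^2 * (a * a^q) = ζ^(q+1)` -/
theorem exists_params_odd (hq : Odd q) :
    ∃ t a c : F, t ≠ 0 ∧ a + a ^ q + t * t ^ q = 0 ∧ a ≠ 0 ∧ c - c ^ q ≠ 0 ∧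
      Gen2 c (c - c ^ q) ((c - c ^ q) ^ 2 * (a * a ^ q)) := by
  obtain ⟨ζ, hζ, hord, hgen⟩ := h29_exists_zeta hF
  have hq2 := h29_two_le_q hF
  have h2 : (2 : F) ≠ 0 := by
    apply Ring.two_ne_zero
    intro hchar
    have h0 := FiniteField.even_card_iff_char_two.1 hchar
    rw [hF] at h0
    have h1 : Odd (q ^ 2) := hq.pow
    rw [Nat.odd_iff] at h1
    omega
  have h2q : (2 : F) ^ q = 2 := map_ofNat (Cfsg.Agent.Helper13.frobQ hF) 2
  obtain ⟨k, hk⟩ := hq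
  have hk1 : 1 ≤ k := by omega
  have hq1 : q - 1 = 2 * k := by omega
  have hsum : (k + 1) * (q - 1) + (k + 1) * (q - 1) = q ^ 2 - 1 := by
    rw [hq1, hk]
    have : (2 * k + 1) ^ 2 = (k + 1) * (2 * k) + (k + 1) * (2 * k) + 1 := by ring
    rw [this, Nat.add_sub_cancel]
  have hpos : 0 < (k + 1) * (q - 1) := by
    rw [hq1]; positivity
  have hN : ζ ^ ((k + 1) * (q - 1)) = -1 := by
    have hsq : ζ ^ ((k + 1) * (q - 1)) * ζ ^ ((k + 1) * (q - 1)) = 1 := by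
      rw [← pow_add, hsum, ← hord]; exact pow_orderOf_eq_one ζ
    rcases mul_self_eq_one_iff.1 hsq with h | h
    · exfalso
      have hd := orderOf_dvd_of_pow_eq_one h
      rw [hord] at hd
      have := Nat.le_of_dvd hpos hd
      omega
    · exact h
  have hζq : (ζ ^ (k + 1)) ^ q = -ζ ^ (k + 1) := by
    rw [← pow_mul]
    have : (k + 1) * q = (k + 1) * (q - 1) + (k + 1) := by
      rw [← Nat.mul_succ]; congr 1; omega
    rw [this, pow_add, hN]; ring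
  have hainv : ((-(2 : F)⁻¹)) ^ q = -(2 : F)⁻¹ := by
    have h1 : (-(2 : F)⁻¹) ^ q = Cfsg.Agent.Helper13.frobQ hF (-(2 : F)⁻¹) := rfl
    rw [h1, map_neg, map_inv₀, map_ofNat]
  have hcq : (ζ ^ (k + 1) + 1) ^ q = -ζ ^ (k + 1) + 1 := by
    rw [h29_fadd hF, hζq, one_pow]
  have hκ : (ζ ^ (k + 1) + 1) - (ζ ^ (k + 1) + 1) ^ q = 2 * ζ ^ (k + 1) := by
    rw [hcq]; ring
  have hT : (ζ ^ (k + 1) + 1) + (ζ ^ (k + 1) + 1) ^ q = 2 := by
    rw [hcq]; ring
  have hκ0 : (2 : F) * ζ ^ (k + 1) ≠ 0 := mul_ne_zero h2 (pow_ne_zero _ hζ)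
  refine ⟨1, -(2 : F)⁻¹, ζ ^ (k + 1) + 1, one_ne_zero, ?_, ?_, ?_, ?_⟩
  · rw [hainv, one_pow]
    field_simp
    ring
  · exact neg_ne_zero.2 (inv_ne_zero h2)
  · rw [hκ]; exact hκ0
  · have hρ : ((ζ ^ (k + 1) + 1) - (ζ ^ (k + 1) + 1) ^ q) ^ 2 * (-(2 : F)⁻¹ * (-(2 : F)⁻¹) ^ q) =
        ζ ^ (q + 1) := by
      rw [hκ, hainv]
      have : q + 1 = (k + 1) + (k + 1) := by omega
      rw [this, pow_add]
      field_simp
      ring
    rw [hρ]
    apply gen2_of_eta hF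
    · exact h29_fixed_gen hF ζ hζ hord hgen
    · rw [hT]; exact h2
    · rw [hκ]; exact hκ0

end X

end Cfsg.Agent.Helper29.SUO
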