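import Mathlib

set_option autoImplicit false

namespace Cfsg.Agent.Helper29

open Subgroup

/-- The join of a solvable normal subgroup and a solvable subgroup is solvable. -/
theorem isSolvable_sup_of_normal {G : Type*} [Group G] (N K : Subgroup G) [hNn : N.Normal]
    (hN : Group.IsSolvable N) (hK : Group.IsSolvable K) :
    Group.IsSolvable (N ⊔ K : Subgroup G) := by
  obtain ⟨S, hS⟩ : ∃ S : Subgroup G, S = N ⊔ K := ⟨_, rfl⟩
  rw [← hS]
  have hNS : N ≤ S := hS ▸ le_sup_left
  have hKS : K ≤ S := hS ▸ le_sup_right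
  let φ : S →* G ⧸ N := (QuotientGroup.mk' N).comp S.subtype
  have hmem : ∀ k : K, ((QuotientGroup.mk' N).comp K.subtype) k ∈ φ.range := by
    intro k
    exact ⟨⟨(k : G), hKS k.2⟩, rfl⟩
  let ψ : K →* φ.range := ((QuotientGroup.mk' N).comp K.subtype).codRestrict φ.range hmem
  have hψ : Function.Surjective ψ := by
    rintro ⟨y, s, rfl⟩
    have hs : (s : G) ∈ (N ⊔ K : Subgroup G) := hS ▸ s.2
    have hs' : (s : G) ∈ ((N ⊔ K : Subgroup G) : Set G) := hs
    rw [Subgroup.normal_mul] at hs'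
    obtain ⟨n, hn, k, hk, hnk⟩ := Set.mem_mul.mp hs'
    refine ⟨⟨k, hk⟩, ?_⟩
    apply Subtype.ext
    show (QuotientGroup.mk' N) k = (QuotientGroup.mk' N) (s : G)
    rw [← hnk, map_mul]
    have : (QuotientGroup.mk' N) n = 1 := (QuotientGroup.eq_one_iff n).mpr hn
    rw [this, one_mul]
  have : Group.IsSolvable φ.range := Group.isSolvable_of_surjective hψ
  have := hN
  refine Group.isSolvable_of_ker_le_range (Subgroup.inclusion hNS) φ.rangeRestrict ?_
  intro x hx
  rw [MonoidHom.ker_rangeRestrict, MonoidHom.mem_ker] at hx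
  have hx' : (x : G) ∈ N := (QuotientGroup.eq_one_iff (x : G)).mp hx
  exact ⟨⟨(x : G), hx'⟩, Subtype.ext rfl⟩

/-- The preimage in `G` of a solvable subgroup of `G ⧸ Z`, `Z` solvable normal, is solvable. -/
theorem isSolvable_comap_mk' {G : Type*} [Group G] (Z : Subgroup G) [hZn : Z.Normal]
    (hZ : Group.IsSolvable Z) (T : Subgroup (G ⧸ Z)) (hT : Group.IsSolvable T) :
    Group.IsSolvable (T.comap (QuotientGroup.mk' Z)) := by
  have hZS : Z ≤ T.comap (QuotientGroup.mk' Z) := by
    intro z hz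
    rw [Subgroup.mem_comap]
    have : (QuotientGroup.mk' Z) z = 1 := (QuotientGroup.eq_one_iff z).mpr hz
    rw [this]
    exact one_mem _
  have := hZ
  have := hT
  refine Group.isSolvable_of_ker_le_range (Subgroup.inclusion hZS)
    ((QuotientGroup.mk' Z).subgroupComap T) ?_
  intro x hx
  rw [MonoidHom.mem_ker] at hx
  have h1 : (QuotientGroup.mk' Z) (x : G) = 1 := congrArg Subtype.val hx
  have hx' : (x : G) ∈ Z := (QuotientGroup.eq_one_iff (x : G)).mp h1
  exact ⟨⟨(x : G), hx'⟩, Subtype.ext rfl⟩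

/-- A subgroup all of whose elements commute is solvable. -/
theorem isSolvable_of_forall_comm {G : Type*} [Group G] (B : Subgroup G)
    (h : ∀ x ∈ B, ∀ y ∈ B, x * y = y * x) : Group.IsSolvable B := by
  apply Group.isSolvable_of_comm
  intro a b
  exact Subtype.ext (h a a.2 b b.2)

/-- `zpowers g` is solvable. -/
theorem isSolvable_zpowers {G : Type*} [Group G] (g : G) : Group.IsSolvable (zpowers g) := by
  apply isSolvable_of_forall_comm
  intro x hx y hy
  obtain ⟨i, rfl⟩ := mem_zpowers_iff.mp hx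
  obtain ⟨j, rfl⟩ := mem_zpowers_iff.mp hy
  rw [← zpow_add, ← zpow_add, add_comm]

end Cfsg.Agent.Helper29
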