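import Mathlib
import Cfsg.Prelude.Def_OddOrderLocal
import Cfsg.Agent.Lib.Helper29.GlobalFix

set_option autoImplicit false

/-!
# TI subgroups that are Hall subgroups of their normalizer

`H ≤ G` is a TI subgroup whose order is coprime to `|N_G(H) : H|`.  Then `H` is a Hall subgroup
of `G`, every nonidentity element of order coprime to `|G : H|` lies in a unique conjugate of `H`,
and every subgroup of order coprime to `|G : H|` lies in a conjugate of `H`.
-/

namespace Cfsg.Agent.Helper29.TIHall

open Subgroup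

variable {G : Type*} [Group G]

/-- an element whose order is coprime to the index of a normal subgroup lies in it -/
theorem mem_of_coprime_index [Finite G] (K : Subgroup G) [K.Normal] (g : G)
    (h : (orderOf g).Coprime K.index) : g ∈ K := by
  rw [← QuotientGroup.eq_one_iff]
  have h1 : orderOf (g : G ⧸ K) ∣ orderOf g := by
    apply orderOf_dvd_of_pow_eq_one
    rw [← QuotientGroup.mk_pow, pow_orderOf_eq_one]
    rfl
  have h2 : orderOf (g : G ⧸ K) ∣ K.index := by
    rw [Subgroup.index_eq_card]
    exact orderOf_dvd_natCard _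
  have h3 : orderOf (g : G ⧸ K) = 1 :=
    Nat.Coprime.eq_one_of_dvd (Nat.Coprime.coprime_dvd_left h1 h) h2
  exact orderOf_eq_one_iff.mp h3

/-- relative version inside the normalizer -/
theorem mem_of_mem_normalizer_of_coprime [Finite G] (H : Subgroup G) (n : G)
    (hn : n ∈ normalizer (H : Set G))
    (h : (orderOf n).Coprime (H.relIndex (normalizer (H : Set G)))) : n ∈ H := by
  have : (⟨n, hn⟩ : normalizer (H : Set G)) ∈ H.subgroupOf (normalizer (H : Set G)) := by
    apply mem_of_coprime_index
    rw [Subgroup.orderOf_mk]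
    exact h
  exact Subgroup.mem_subgroupOf.mp this

theorem coprime_orderOf_of_isPGroup {q : ℕ} (hq : q.Prime) {P : Subgroup G} (hP : IsPGroup q P)
    {s : G} (hs : s ∈ P) {m : ℕ} (hm : ¬ q ∣ m) : (orderOf s).Coprime m := by
  obtain ⟨k, hk⟩ := hP ⟨s, hs⟩
  have h1 : s ^ (q ^ k) = 1 := by simpa using congrArg Subtype.val hk
  have h2 : orderOf s ∣ q ^ k := orderOf_dvd_of_pow_eq_one h1
  exact Nat.Coprime.coprime_dvd_left h2
    (Nat.Coprime.pow_left k ((Nat.Prime.coprime_iff_not_dvd hq).mpr hm))

section TI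

variable (H : Subgroup G)

/-- the TI property, contrapositive form -/
theorem mem_normalizer_of_conj_mem (hTI : Cfsg.IsTISubset (H : Set G)) {g x : G} (hx : x ∈ H)
    (hx1 : x ≠ 1) (hgx : g * x * g⁻¹ ∈ H) : g ∈ normalizer (H : Set G) := by
  by_contra hg
  exact hx1 (hTI g hg x hx hgx)

variable [Finite G]

/-- `H` is a Hall subgroup of `G` -/
theorem coprime_index (hTI : Cfsg.IsTISubset (H : Set G))
    (hcop : (Nat.card H).Coprime (H.relIndex (normalizer (H : Set G)))) :
    (Nat.card H).Coprime H.index := by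
  apply Nat.coprime_of_dvd
  intro q hq hqH hqi
  have := Fact.mk hq
  have hqrel : ¬ q ∣ H.relIndex (normalizer (H : Set G)) := by
    intro h
    have := Nat.dvd_gcd hqH h
    rw [hcop] at this
    exact hq.one_lt.ne' (Nat.dvd_one.mp this)
  obtain ⟨x, hx⟩ := exists_prime_orderOf_dvd_card' q hqH
  have hxG : orderOf (x : G) = q := by rw [← hx]; exact (Subgroup.orderOf_coe x)
  have hx1 : (x : G) ≠ 1 := by
    intro h
    rw [h, orderOf_one] at hxG
    exact hq.one_lt.ne hxG
  have hP₀ : IsPGroup q (zpowers (x : G)) := by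
    apply IsPGroup.of_card (n := 1)
    rw [Nat.card_zpowers, hxG, pow_one]
  obtain ⟨S, hS⟩ := hP₀.exists_le_sylow
  have hxS : (x : G) ∈ (S : Subgroup G) := hS (mem_zpowers _)
  have : Nontrivial (S : Subgroup G) := by
    refine ⟨⟨⟨(x : G), hxS⟩, 1, ?_⟩⟩
    intro h
    exact hx1 (congrArg Subtype.val h)
  have := IsPGroup.center_nontrivial S.isPGroup'
  obtain ⟨⟨z, hz⟩, hz1⟩ := exists_ne (1 : Subgroup.center (S : Subgroup G))
  have hz1' : (z : G) ≠ 1 := by
    intro h
    apply hz1
    apply Subtype.ext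
    apply Subtype.ext
    exact h
  have hzcomm : ∀ s ∈ (S : Subgroup G), s * (z : G) = (z : G) * s := by
    intro s hs
    have := (Subgroup.mem_center_iff.mp hz) ⟨s, hs⟩
    exact congrArg Subtype.val this
  -- z ∈ N
  have hzN : (z : G) ∈ normalizer (H : Set G) := by
    apply mem_normalizer_of_conj_mem H hTI x.2 hx1
    rw [← hzcomm _ hxS]
    group
    exact x.2
  have hzH : (z : G) ∈ H :=
    mem_of_mem_normalizer_of_coprime H _ hzN
      (coprime_orderOf_of_isPGroup hq S.isPGroup' z.2 hqrel)
  have hSH : (S : Subgroup G) ≤ H := by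
    intro s hs
    have hsN : s ∈ normalizer (H : Set G) := by
      apply mem_normalizer_of_conj_mem H hTI hzH hz1'
      rw [hzcomm s hs]
      group
      exact hzH
    exact mem_of_mem_normalizer_of_coprime H _ hsN
      (coprime_orderOf_of_isPGroup hq S.isPGroup' hs hqrel)
  have h1 : H.index ∣ (S : Subgroup G).index := Subgroup.index_dvd_of_le hSH
  exact S.not_dvd_index (dvd_trans hqi h1)

/-- a nonidentity element of order coprime to `|G : H|` is conjugate into `H` -/
theorem exists_conj_mem (hTI : Cfsg.IsTISubset (H : Set G))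
    {x : G} (hx1 : x ≠ 1) (hx : (orderOf x).Coprime H.index) :
    ∃ d : G, d * x * d⁻¹ ∈ H := by
  have ho : orderOf x ≠ 1 := by rwa [Ne, orderOf_eq_one_iff]
  obtain ⟨q, hq, hqx⟩ := Nat.exists_prime_and_dvd ho
  have := Fact.mk hq
  obtain ⟨k, hk⟩ := hqx
  have hopos : 0 < orderOf x := orderOf_pos x
  have hk0 : k ≠ 0 := by
    rintro rfl
    rw [mul_zero] at hk
    omega
  have hy : orderOf (x ^ k) = q := by
    rw [orderOf_pow_of_dvd hk0 ⟨q, by rw [hk, mul_comm]⟩, hk]
    exact Nat.mul_div_cancel _ (Nat.pos_of_ne_zero hk0)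
  have hy1 : x ^ k ≠ 1 := by
    intro h
    rw [h, orderOf_one] at hy
    exact hq.one_lt.ne hy
  have hqi : ¬ q ∣ H.index := by
    intro h
    have := Nat.dvd_gcd (Dvd.intro k hk.symm) h
    rw [hx] at this
    exact hq.one_lt.ne' (Nat.dvd_one.mp this)
  have hP₀ : IsPGroup q (zpowers (x ^ k)) := by
    apply IsPGroup.of_card (n := 1)
    rw [Nat.card_zpowers, hy, pow_one]
  have hcard : ¬ q ∣ Nat.card (G ⧸ H) := by rwa [← Subgroup.index_eq_card]
  obtain ⟨cbar, hcbar⟩ := hP₀.nonempty_fixed_point_of_prime_not_dvd_card (G ⧸ H) hcard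
  induction cbar using QuotientGroup.induction_on with
  | H c =>
    have h1 := hcbar ⟨x ^ k, mem_zpowers _⟩
    have h2 : ((x ^ k * c : G) : G ⧸ H) = (c : G ⧸ H) := h1
    rw [QuotientGroup.eq] at h2
    have hyc : c⁻¹ * x ^ k * c ∈ H := by
      have e : c⁻¹ * x ^ k * c = ((x ^ k * c)⁻¹ * c)⁻¹ := by group
      rw [e]
      exact H.inv_mem h2
    have hyc1 : c⁻¹ * x ^ k * c ≠ 1 := by
      intro h
      apply hy1
      have e : x ^ k = c * (c⁻¹ * x ^ k * c) * c⁻¹ := by group
      rw [e, h]
      group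
    refine ⟨c⁻¹, ?_⟩
    rw [inv_inv]
    have hN : c⁻¹ * x * c ∈ normalizer (H : Set G) := by
      apply mem_normalizer_of_conj_mem H hTI hyc hyc1
      have e : c⁻¹ * x * c * (c⁻¹ * x ^ k * c) * (c⁻¹ * x * c)⁻¹ = c⁻¹ * (x * x ^ k * x⁻¹) * c := by
        group
      rw [e]
      have e2 : x * x ^ k * x⁻¹ = x ^ k := by
        rw [← pow_succ', pow_succ, mul_inv_cancel_right]
      rw [e2]
      exact hyc
    apply mem_of_mem_normalizer_of_coprime H _ hN
    have e3 : orderOf (c⁻¹ * x * c) = orderOf x := by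
      have := (MulAut.conj c⁻¹).orderOf_eq x
      rw [MulAut.conj_apply, inv_inv] at this
      exact this
    rw [e3]
    exact Nat.Coprime.coprime_dvd_right (Subgroup.relIndex_dvd_index_of_le le_normalizer) hx

omit [Finite G] in
/-- uniqueness of the conjugate of `H` containing a nonidentity element -/
theorem mul_inv_mem_normalizer (hTI : Cfsg.IsTISubset (H : Set G)) {x c d : G} (hx1 : x ≠ 1)
    (hc : c * x * c⁻¹ ∈ H) (hd : d * x * d⁻¹ ∈ H) : c * d⁻¹ ∈ normalizer (H : Set G) := by
  apply mem_normalizer_of_conj_mem H hTI hd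
  · intro h
    apply hx1
    have e : x = d⁻¹ * (d * x * d⁻¹) * d := by group
    rw [e, h]
    group
  · have e : c * d⁻¹ * (d * x * d⁻¹) * (c * d⁻¹)⁻¹ = c * x * c⁻¹ := by group
    rw [e]
    exact hc

/-- every subgroup of order coprime to `|G : H|` is conjugate into `H` -/
theorem exists_conj_le (hTI : Cfsg.IsTISubset (H : Set G))
    (X : Subgroup G) (hX : (Nat.card X).Coprime H.index) :
    ∃ d : G, ∀ x ∈ X, d * x * d⁻¹ ∈ H := by
  have hord : ∀ x : X, (orderOf (x : G)).Coprime H.index := by
    intro x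
    refine Nat.Coprime.coprime_dvd_left ?_ hX
    rw [Subgroup.orderOf_coe]
    exact orderOf_dvd_natCard x
  have hrel : ∀ x : X, (orderOf (x : G)).Coprime (H.relIndex (normalizer (H : Set G))) :=
    fun x => Nat.Coprime.coprime_dvd_right (Subgroup.relIndex_dvd_index_of_le le_normalizer)
      (hord x)
  have hfix : ∀ (x : X) (c : G), x • (c : G ⧸ normalizer (H : Set G)) = c ↔
      c⁻¹ * (x : G) * c ∈ normalizer (H : Set G) := by
    intro x c
    have : x • (c : G ⧸ normalizer (H : Set G)) = (((x : G) * c : G) : G ⧸ normalizer (H : Set G)) :=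
      rfl
    rw [this, QuotientGroup.eq]
    have e : ((x : G) * c)⁻¹ * c = (c⁻¹ * (x : G) * c)⁻¹ := by group
    rw [e, inv_mem_iff]
  have hfixH : ∀ (x : X) (c : G), c⁻¹ * (x : G) * c ∈ normalizer (H : Set G) →
      c⁻¹ * (x : G) * c ∈ H := by
    intro x c h
    apply mem_of_mem_normalizer_of_coprime H _ h
    have e3 : orderOf (c⁻¹ * (x : G) * c) = orderOf (x : G) := by
      have := (MulAut.conj c⁻¹).orderOf_eq (x : G)
      rw [MulAut.conj_apply, inv_inv] at this
      exact this
    rw [e3]
    exact hrel x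
  obtain ⟨cbar, hcbar⟩ := exists_global_fixed_point (X := X) (Ω := G ⧸ normalizer (H : Set G))
    (by
      intro x hx1
      have hx1' : (x : G) ≠ 1 := fun h => hx1 (Subtype.ext h)
      obtain ⟨d, hd⟩ := exists_conj_mem H hTI hx1' (hord x)
      refine ⟨((d⁻¹ : G) : G ⧸ normalizer (H : Set G)), ?_⟩
      rw [hfix, inv_inv]
      exact le_normalizer hd)
    (by
      intro x hx1 a b
      have hx1' : (x : G) ≠ 1 := fun h => hx1 (Subtype.ext h)
      induction a using QuotientGroup.induction_on with
      | H c =>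
        induction b using QuotientGroup.induction_on with
        | H c' =>
          intro ha hb
          rw [hfix] at ha hb
          have ha' := hfixH x c ha
          have hb' := hfixH x c' hb
          have := mul_inv_mem_normalizer H hTI hx1' (c := c⁻¹) (d := c'⁻¹)
            (by rw [inv_inv]; exact ha') (by rw [inv_inv]; exact hb')
          rw [inv_inv] at this
          exact QuotientGroup.eq.mpr this)
  induction cbar using QuotientGroup.induction_on with
  | H c =>
    refine ⟨c⁻¹, ?_⟩
    intro x hx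
    rw [inv_inv]
    have := hcbar ⟨x, hx⟩
    rw [hfix] at this
    exact hfixH ⟨x, hx⟩ c this

end TI

end Cfsg.Agent.Helper29.TIHall
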