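import Mathlib
import Cfsg.Prelude.Def_OddOrderLocal
import Cfsg.Prelude.Def_Solvable
import Cfsg.Agent.Lib.Helper29.TIHall
import Cfsg.Agent.Lib.Helper29.DeltaSystem
import Cfsg.Agent.Lib.Helper71.Frobenius

set_option autoImplicit false

/-!
# A TI Hall subgroup with a normal complement is a Frobenius complement

* `exists_frobenius_of_section`: if `H` normalizes `R₀ ⊴ R₁` and acts fixed-point-freely on
  `R₁ / R₀ ≠ 1`, then `H` is isomorphic to a Frobenius complement (in `(R₁ / R₀) ⋊ H`).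
* `exists_frobenius_of_normal_complement`: a non-normal TI Hall subgroup `H` with a normal
  complement `K` is isomorphic to a Frobenius complement.
-/

namespace Cfsg.Agent.Helper29.TIHall

open Subgroup

universe u

section Section

variable {G : Type u} [Group G] [Finite G]

theorem exists_frobenius_of_section (H R₁ R₀ : Subgroup G)
    (hne : ∃ r ∈ R₁, r ∉ R₀) (hH : H ≠ ⊥)
    (hH₁ : H ≤ normalizer (R₁ : Set G)) (hH₀ : H ≤ normalizer (R₀ : Set G))
    (h₁₀ : R₁ ≤ normalizer (R₀ : Set G))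
    (hfpf : ∀ h ∈ H, h ≠ 1 → ∀ r ∈ R₁, r⁻¹ * (h * r * h⁻¹) ∈ R₀ → r ∈ R₀) :
    ∃ (F : Type u) (_ : Group F) (_ : Finite F) (C : Subgroup F),
      Cfsg.IsFrobeniusComplement C ∧ Nonempty (H ≃* C) := by
  classical
  obtain ⟨T, hT⟩ : ∃ T : Subgroup G, T = normalizer (R₁ : Set G) ⊓ normalizer (R₀ : Set G) :=
    ⟨_, rfl⟩
  have hT₁ : T ≤ normalizer (R₁ : Set G) := hT ▸ inf_le_left
  have hT₀ : T ≤ normalizer (R₀ : Set G) := hT ▸ inf_le_right
  have hHT : H ≤ T := hT ▸ le_inf hH₁ hH₀
  have hR₁T : R₁ ≤ T := hT ▸ le_inf le_normalizer h₁₀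
  have hn₀ : (R₀.subgroupOf T).Normal := Subgroup.normal_subgroupOf_of_le_normalizer hT₀
  have hn₁ : (R₁.subgroupOf T).Normal := Subgroup.normal_subgroupOf_of_le_normalizer hT₁
  let π : T →* (T ⧸ R₀.subgroupOf T) := QuotientGroup.mk' (R₀.subgroupOf T)
  have hπ : Function.Surjective π := QuotientGroup.mk'_surjective _
  let V : Subgroup (T ⧸ R₀.subgroupOf T) := (R₁.subgroupOf T).map π
  have hV : V.Normal := Subgroup.Normal.map hn₁ π hπ
  let φ : H →* MulAut V :=
    (MulAut.conjNormal (H := V)).comp (π.comp (Subgroup.inclusion hHT))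
  have : Nontrivial H := (Subgroup.nontrivial_iff_ne_bot H).mpr hH
  have : Nontrivial V := by
    obtain ⟨r, hr₁, hr₀⟩ := hne
    refine ⟨⟨⟨π ⟨r, hR₁T hr₁⟩, Subgroup.mem_map_of_mem _ (by
      rw [Subgroup.mem_subgroupOf]; exact hr₁)⟩, 1, ?_⟩⟩
    intro h
    have h1 : π ⟨r, hR₁T hr₁⟩ = 1 := congrArg Subtype.val h
    have h2 : (⟨r, hR₁T hr₁⟩ : T) ∈ R₀.subgroupOf T := by
      rw [← QuotientGroup.eq_one_iff]
      exact h1
    exact hr₀ (Subgroup.mem_subgroupOf.mp h2)
  have hfp : ∀ h : H, h ≠ 1 → ∀ k : V, φ h k = k → k = 1 := by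
    intro h hh1 k hk
    obtain ⟨t, ht, htk⟩ := k.2
    have ht' : (t : G) ∈ R₁ := Subgroup.mem_subgroupOf.mp ht
    have hk' : ((φ h k : V) : T ⧸ R₀.subgroupOf T) = (k : T ⧸ R₀.subgroupOf T) :=
      congrArg Subtype.val hk
    have e1 : ((φ h k : V) : T ⧸ R₀.subgroupOf T) =
        π (Subgroup.inclusion hHT h) * (k : T ⧸ R₀.subgroupOf T) *
          (π (Subgroup.inclusion hHT h))⁻¹ := by
      show ((MulAut.conjNormal (π (Subgroup.inclusion hHT h)) k : V) : T ⧸ R₀.subgroupOf T) = _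
      rw [MulAut.conjNormal_apply]
    rw [e1, ← htk, ← map_inv, ← map_mul, ← map_mul] at hk'
    have h3 : t⁻¹ * (Subgroup.inclusion hHT h * t * (Subgroup.inclusion hHT h)⁻¹) ∈
        R₀.subgroupOf T := by
      have := hk'.symm
      exact QuotientGroup.eq.mp this
    rw [Subgroup.mem_subgroupOf] at h3
    have h4 : (t : G)⁻¹ * ((h : G) * (t : G) * (h : G)⁻¹) ∈ R₀ := by
      simpa using h3
    have hh1' : (h : G) ≠ 1 := fun e => hh1 (Subtype.ext e)
    have h5 := hfpf (h : G) h.2 hh1' (t : G) ht' h4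
    have h6 : π t = 1 := by
      show (QuotientGroup.mk t : T ⧸ R₀.subgroupOf T) = 1
      rw [QuotientGroup.eq_one_iff, Subgroup.mem_subgroupOf]
      exact h5
    apply Subtype.ext
    rw [← htk, h6]
    rfl
  refine ⟨V ⋊[φ] H, inferInstance, Finite.of_equiv _ SemidirectProduct.equivProd.symm,
    (SemidirectProduct.inr : H →* V ⋊[φ] H).range,
    Cfsg.Agent.Helper71.isFrobeniusComplement_range_inr φ hfp,
    ⟨MonoidHom.ofInjective SemidirectProduct.inr_injective⟩⟩

end Section

section Main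

variable {G : Type u} [Group G] [Finite G]

omit [Finite G] in
/-- conjugation carries normalizers to normalizers -/
theorem conj_mem_normalizer_map (R : Subgroup G) (d x : G) (hx : x ∈ normalizer (R : Set G)) :
    d * x * d⁻¹ ∈ normalizer ((R.map (MulAut.conj d).toMonoidHom : Subgroup G) : Set G) := by
  rw [← Subgroup.map_equiv_normalizer_eq R (MulAut.conj d)]
  exact ⟨x, hx, by simp [MulAut.conj_apply]⟩

theorem exists_frobenius_of_normal_complement (H : Subgroup G)
    (hTI : Cfsg.IsTISubset (H : Set G)) (hHall : (Nat.card H).Coprime H.index)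
    (hnn : ¬ H.Normal) (K : Subgroup G) [hKn : K.Normal] (hKH : K ⊔ H = ⊤) (hKH' : K ⊓ H = ⊥) :
    ∃ (F : Type u) (_ : Group F) (_ : Finite F) (C : Subgroup F),
      Cfsg.IsFrobeniusComplement C ∧ Nonempty (H ≃* C) := by
  classical
  -- complements
  have hcompl : IsComplement' K H := by
    apply isComplement'_of_disjoint_and_mul_eq_univ (disjoint_iff.mpr hKH')
    rw [← Subgroup.normal_mul, hKH]
    rfl
  have hcardK : H.index = Nat.card K := hcompl.index_eq_card
  have hKidx : K.index = Nat.card H := hcompl.symm.index_eq_card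
  have hcopKH : (Nat.card K).Coprime (Nat.card H) := by
    rw [← hcardK]; exact hHall.symm
  obtain ⟨M, hM⟩ : ∃ M : Subgroup G, M = K ⊓ normalizer (H : Set G) := ⟨_, rfl⟩
  have hMK : M ≤ K := hM ▸ inf_le_left
  have hMN : M ≤ normalizer (H : Set G) := hM ▸ inf_le_right
  -- M centralizes H
  have hMc : ∀ m ∈ M, ∀ h ∈ H, m * h = h * m := by
    intro m hm h hh
    have h1 : m * h * m⁻¹ * h⁻¹ ∈ K := by
      have : m * h * m⁻¹ * h⁻¹ = m * (h * m⁻¹ * h⁻¹) := by group
      rw [this]
      exact K.mul_mem (hMK hm) (hKn.conj_mem _ (K.inv_mem (hMK hm)) h)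
    have h2 : m * h * m⁻¹ * h⁻¹ ∈ H := by
      have := (Subgroup.mem_normalizer_iff.mp (hMN hm) h).mp hh
      exact H.mul_mem this (H.inv_mem hh)
    have h3 : m * h * m⁻¹ * h⁻¹ ∈ K ⊓ H := ⟨h1, h2⟩
    rw [hKH', Subgroup.mem_bot] at h3
    have : m * h = (m * h * m⁻¹ * h⁻¹) * (h * m) := by group
    rw [this, h3, one_mul]
  -- fixed points lift
  have hlift : ∀ h ∈ H, h ≠ 1 → ∀ k ∈ K, k⁻¹ * (h * k * h⁻¹) ∈ M → k ∈ M := by
    intro h hh hh1 k hk hm
    obtain ⟨m, hmdef⟩ : ∃ m : G, m = k⁻¹ * (h * k * h⁻¹) := ⟨_, rfl⟩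
    rw [← hmdef] at hm
    have e1 : k⁻¹ * h * k = m * h := by rw [hmdef]; group
    have hcomm : Commute m h := hMc m hm h hh
    have e2 : m ^ orderOf h = 1 := by
      have h1 : (m * h) ^ orderOf h = 1 := by
        rw [← e1]
        have : (k⁻¹ * h * k) ^ orderOf h = k⁻¹ * h ^ orderOf h * k := by
          have := map_pow (MulAut.conj k⁻¹) h (orderOf h)
          simp only [MulAut.conj_apply, inv_inv] at this
          exact this.symm
        rw [this, pow_orderOf_eq_one]
        group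
      rw [hcomm.mul_pow, pow_orderOf_eq_one, mul_one] at h1
      exact h1
    have e3 : orderOf m ∣ orderOf h := orderOf_dvd_of_pow_eq_one e2
    have e4 : orderOf m ∣ Nat.card K := by
      have := orderOf_dvd_natCard (⟨m, hMK hm⟩ : K)
      rwa [Subgroup.orderOf_mk] at this
    have e5 : orderOf h ∣ Nat.card H := by
      have := orderOf_dvd_natCard (⟨h, hh⟩ : H)
      rwa [Subgroup.orderOf_mk] at this
    have e6 : orderOf m = 1 :=
      Nat.Coprime.eq_one_of_dvd (Nat.Coprime.coprime_dvd_left e4 hcopKH) (dvd_trans e3 e5)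
    have hm1 : m = 1 := orderOf_eq_one_iff.mp e6
    rw [hm1, one_mul] at e1
    have hkN : k⁻¹ ∈ normalizer (H : Set G) := by
      apply mem_normalizer_of_conj_mem H hTI hh hh1
      rw [inv_inv, e1]
      exact hh
    rw [hM]
    exact ⟨hk, by simpa using (normalizer (H : Set G)).inv_mem hkN⟩
  -- M is a proper subgroup of K
  have hMltK : M < K := by
    refine lt_of_le_of_ne hMK ?_
    intro h
    apply hnn
    rw [← Subgroup.normalizer_eq_top_iff, eq_top_iff, ← hKH]
    refine sup_le ?_ le_normalizer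
    rw [← h]
    exact hMN
  have hcardlt : Nat.card M < Nat.card K := by
    rcases lt_or_ge (Nat.card M) (Nat.card K) with h | h
    · exact h
    · exact absurd (Subgroup.eq_of_le_of_card_ge hMK h) hMltK.ne
  have hcarddvd : Nat.card M ∣ Nat.card K := Subgroup.card_dvd_of_le hMK
  have hM0 : Nat.card M ≠ 0 := Nat.card_pos.ne'
  have hK0 : Nat.card K ≠ 0 := Nat.card_pos.ne'
  -- the prime r
  obtain ⟨r, hr⟩ : ∃ r : ℕ, (Nat.card M).factorization r < (Nat.card K).factorization r := by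
    by_contra hno
    push Not at hno
    have h1 : (Nat.card K).factorization ≤ (Nat.card M).factorization := fun r => hno r
    have h2 := (Nat.factorization_le_iff_dvd hK0 hM0).mp h1
    exact absurd (Nat.le_of_dvd (Nat.pos_of_ne_zero hM0) h2) (not_le.mpr hcardlt)
  have hrp : r.Prime := by
    by_contra hnp
    rw [Nat.factorization_eq_zero_of_not_prime (Nat.card K) hnp] at hr
    omega
  have : Fact r.Prime := ⟨hrp⟩
  -- Sylow subgroup of K and its normalizer
  obtain ⟨P⟩ : Nonempty (Sylow r K) := inferInstance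
  obtain ⟨R, hRdef⟩ : ∃ R : Subgroup G, R = (P : Subgroup K).map K.subtype := ⟨_, rfl⟩
  have hRcard : Nat.card R = r ^ (Nat.card K).factorization r := by
    rw [hRdef, Subgroup.card_map_of_injective K.subtype_injective]
    exact P.card_eq_multiplicity
  have hfrat : normalizer (R : Set G) ⊔ K = ⊤ := by
    rw [hRdef]; exact Sylow.normalizer_sup_eq_top P
  obtain ⟨L, hL⟩ : ∃ L : Subgroup G, L = normalizer (R : Set G) := ⟨_, rfl⟩
  rw [← hL] at hfrat
  have hidxKL : (K.subgroupOf L).index = Nat.card H := by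
    show K.relIndex L = Nat.card H
    rw [← Subgroup.relIndex_sup_right, hfrat, Subgroup.relIndex_top_right, hKidx]
  have hcardKL : Nat.card (K.subgroupOf L) ∣ Nat.card K := by
    have h1 : Nat.card (K.subgroupOf L) = Nat.card ((K.subgroupOf L).map L.subtype) :=
      (Subgroup.card_map_of_injective L.subtype_injective).symm
    rw [h1, Subgroup.subgroupOf_map_subtype]
    exact Subgroup.card_dvd_of_le inf_le_left
  have hcopKL : (Nat.card (K.subgroupOf L)).Coprime (K.subgroupOf L).index := by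
    rw [hidxKL]
    exact Nat.Coprime.coprime_dvd_left hcardKL hcopKH
  obtain ⟨X', hX'⟩ := Subgroup.exists_left_complement'_of_coprime hcopKL
  have hX'card : Nat.card X' = Nat.card H := by
    rw [← hX'.index_eq_card, hidxKL]
  obtain ⟨X, hXdef⟩ : ∃ X : Subgroup G, X = X'.map L.subtype := ⟨_, rfl⟩
  have hXcard : Nat.card X = Nat.card H := by
    rw [hXdef, Subgroup.card_map_of_injective L.subtype_injective, hX'card]
  have hXL : X ≤ L := by rw [hXdef]; exact Subgroup.map_subtype_le _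
  obtain ⟨d, hd⟩ := exists_conj_le H hTI X (by rw [hXcard]; exact hHall)
  -- H is the conjugate of X by d
  have hHeq : X.map (MulAut.conj d).toMonoidHom = H := by
    apply Subgroup.eq_of_le_of_card_ge
    · rintro _ ⟨x, hx, rfl⟩
      simpa [MulAut.conj_apply] using hd x hx
    · rw [Subgroup.card_map_of_injective (MulAut.conj d).injective, hXcard]
  obtain ⟨R', hR'def⟩ : ∃ R' : Subgroup G, R' = R.map (MulAut.conj d).toMonoidHom := ⟨_, rfl⟩
  have hR'card : Nat.card R' = r ^ (Nat.card K).factorization r := by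
    rw [hR'def, Subgroup.card_map_of_injective (MulAut.conj d).injective, hRcard]
  have hRK : R ≤ K := by rw [hRdef]; exact Subgroup.map_subtype_le _
  have hR'K : R' ≤ K := by
    rw [hR'def]
    rintro _ ⟨x, hx, rfl⟩
    simpa [MulAut.conj_apply] using hKn.conj_mem x (hRK hx) d
  have hHR' : H ≤ normalizer (R' : Set G) := by
    intro h hh
    rw [← hHeq] at hh
    obtain ⟨x, hx, rfl⟩ := hh
    have hxL : x ∈ normalizer (R : Set G) := hL ▸ hXL hx
    have := conj_mem_normalizer_map R d x hxL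
    rw [hR'def]
    simpa [MulAut.conj_apply] using this
  -- R₀ and R₁
  obtain ⟨R₀, hR₀def⟩ : ∃ R₀ : Subgroup G, R₀ = R' ⊓ M := ⟨_, rfl⟩
  have hR₀R' : R₀ ≤ R' := hR₀def ▸ inf_le_left
  have hR₀M : R₀ ≤ M := hR₀def ▸ inf_le_right
  have hR₀card : Nat.card R₀ < Nat.card R' := by
    have h1 : Nat.card R₀ ∣ r ^ (Nat.card K).factorization r := by
      rw [← hR'card]; exact Subgroup.card_dvd_of_le hR₀R'
    obtain ⟨a, _, ha⟩ := (Nat.dvd_prime_pow hrp).mp h1
    have h2 : r ^ a ∣ Nat.card M := by rw [← ha]; exact Subgroup.card_dvd_of_le hR₀M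
    have h3 : a ≤ (Nat.card M).factorization r :=
      (hrp.pow_dvd_iff_le_factorization hM0).mp h2
    rw [ha, hR'card]
    exact Nat.pow_lt_pow_right hrp.one_lt (lt_of_le_of_lt h3 hr)
  have hR'pg : IsPGroup r R' := IsPGroup.of_card hR'card
  have : Group.IsNilpotent R' := hR'pg.isNilpotent
  have hnc : NormalizerCondition R' := Group.normalizerCondition_of_isNilpotent
  have hAlt : R₀.subgroupOf R' < ⊤ := by
    refine lt_top_iff_ne_top.mpr ?_
    rw [Ne, Subgroup.subgroupOf_eq_top]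
    intro h
    have := Subgroup.card_le_of_le h
    omega
  obtain ⟨a, haN, haA⟩ := SetLike.exists_of_lt (hnc _ hAlt)
  have haR₀ : (a : G) ∉ R₀ := fun h => haA (Subgroup.mem_subgroupOf.mpr h)
  have haN' : (a : G) ∈ normalizer (R₀ : Set G) := by
    rw [Subgroup.mem_normalizer_iff]
    intro y
    rw [Subgroup.mem_normalizer_iff] at haN
    constructor
    · intro hy
      have := (haN ⟨y, hR₀R' hy⟩).mp (Subgroup.mem_subgroupOf.mpr hy)
      exact Subgroup.mem_subgroupOf.mp this
    · intro hy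
      have hyR' : y ∈ R' := by
        have e : y = (a : G)⁻¹ * ((a : G) * y * (a : G)⁻¹) * (a : G) := by group
        rw [e]
        exact R'.mul_mem (R'.mul_mem (R'.inv_mem a.2) (hR₀R' hy)) a.2
      have := (haN ⟨y, hyR'⟩).mpr (Subgroup.mem_subgroupOf.mpr hy)
      exact Subgroup.mem_subgroupOf.mp this
  obtain ⟨R₁, hR₁def⟩ : ∃ R₁ : Subgroup G, R₁ = R' ⊓ normalizer (R₀ : Set G) := ⟨_, rfl⟩
  have hR₁R' : R₁ ≤ R' := hR₁def ▸ inf_le_left
  -- normalizing conditions
  have hHM : H ≤ normalizer (M : Set G) := by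
    rw [hM]
    apply Cfsg.Agent.Helper29.le_normalizer_inf'
    · rw [Subgroup.normalizer_eq_top]; exact le_top
    · exact le_trans le_normalizer le_normalizer
  have hH₀ : H ≤ normalizer (R₀ : Set G) := by
    rw [hR₀def]
    exact Cfsg.Agent.Helper29.le_normalizer_inf' _ _ _ hHR' hHM
  have hH₁ : H ≤ normalizer (R₁ : Set G) := by
    rw [hR₁def]
    exact Cfsg.Agent.Helper29.le_normalizer_inf' _ _ _ hHR' (le_trans hH₀ le_normalizer)
  have hHbot : H ≠ ⊥ := by
    intro h
    apply hnn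
    rw [h]
    infer_instance
  apply exists_frobenius_of_section H R₁ R₀ ⟨(a : G), hR₁def ▸ ⟨a.2, haN'⟩, haR₀⟩ hHbot hH₁ hH₀
    (hR₁def ▸ inf_le_right)
  intro h hh hh1 t ht htm
  have h1 := hlift h hh hh1 t (hR'K (hR₁R' ht)) (hR₀M htm)
  rw [hR₀def]
  exact ⟨hR₁R' ht, h1⟩

end Main

end Cfsg.Agent.Helper29.TIHall
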